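import Cfsg.Agent.KZ.Defs
import Cfsg.Agent.DL.PP.Cor

/-!
# KZ, Lie type in characteristic `p ≠ 3`: the interface (helper27)

Plan: `notes/KZ/plan.md`, sections 6 - 11.

* `RW f w c`: the Deligne-Lusztig character of the torus of type `w` with the label `c` (zero if `c` is not fixed by `w F`);
* `Api f`: the combinatorial description of these characters (box `BoxApi`);
* `SylC`, `RegC`, `Mc`: the Sylow torus and the membership test (box `BoxMc`);
* `Sit`: a simple group `S` as a section `H0 / Z0` of `G ^ F` with all automorphisms lifted;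
* `Loc`: the normaliser of the Sylow torus in an almost simple group (box `BoxLoc`).
-/

set_option autoImplicit false
set_option linter.unusedSectionVars false

namespace Cfsg.Agent.KZ.Lie

open Cfsg Cfsg.Agent.DL Cfsg.Agent.DL.PP Cfsg.Agent.DL.Uni Cfsg.Agent.DL.Asm Cfsg.Agent.Nodes.Reps Matrix

variable {p : ℕ} [Fact p.Prime] {k : Type} [Field k] [CharP k p] {Y : Type} [Group Y] {N : Type} [Fintype N]
  [DecidableEq N] {ρ : Y →* GL N k} {F : MulAut Y} {G : Subgroup Y} [IsAlgClosed k]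

/-- labels -/
abbrev Lbl (D : Datum p ρ F G) : Type := D.R → ℂˣ

/-- a splitting level and a generator of its multiplicative group -/
structure Fr (D : Datum p ρ F G) where
  d : ℕ
  e : ℕ
  L : Lvl D d e
  ζ : kˣ
  hζ : IsPrimitiveRoot ζ (p ^ e - 1)

theorem nonempty_fr (D : Datum p ρ F G) : Nonempty (Fr D) := by
  obtain ⟨d, e, L⟩ := exists_lvl D
  obtain ⟨ζ, h⟩ := exists_prim (k := k) (p := p) L.e_pos
  exact ⟨⟨d, e, L, ζ, h⟩⟩

variable (D : Datum p ρ F G)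

/-- an element of type `w` -/
noncomputable def yw (w : D.W) : Y := (D.exists_type w).choose

theorem yw_mem (w : D.W) : yw D w ∈ G := (D.exists_type w).choose_spec.1

theorem yw_rp (w : D.W) : D.Rp w ((yw D w)⁻¹ * F (yw D w)) := (D.exists_type w).choose_spec.2

/-- the torus of type `w` -/
noncomputable def Tw (w : D.W) : Subgroup Y := cj (yw D w) D.T

/-- `v` conjugates the type `w` to the type `w'` -/
def Tc (v w w' : D.W) : Prop := w' * D.Fw v = v * w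

/-- the relative Weyl group of the torus of type `w` -/
def CW (w : D.W) : Subgroup D.W where
  carrier := {v | Tc D v w w}
  one_mem' := by simp [Tc]
  mul_mem' {a b} ha hb := by
    have ha' : w * D.Fw a = a * w := ha
    have hb' : w * D.Fw b = b * w := hb
    show w * D.Fw (a * b) = a * b * w
    rw [map_mul, ← mul_assoc, ha', mul_assoc, hb', mul_assoc]
  inv_mem' {a} ha := by
    have ha' : w * D.Fw a = a * w := ha
    show w * D.Fw a⁻¹ = a⁻¹ * w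
    rw [map_inv, eq_inv_mul_iff_mul_eq, ← mul_assoc, ← ha', mul_inv_cancel_right]

/-- the order of the finite torus of type `w` -/
noncomputable def ordT (w : D.W) : ℕ := (D.Wm w * D.Mx - 1).det.natAbs

/-- the order of the label is a power of `3` -/
def Is3 (c : Lbl D) : Prop := ∃ j : ℕ, c ^ 3 ^ j = 1

/-- transport of labels along a matrix -/
def Tr (B : Matrix D.R D.R ℤ) (c c' : Lbl D) : Prop := ∀ v, chr (B *ᵥ v) c' = chr v c

variable {D} (f : Fr D)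

open Classical in
/-- the character of the torus of type `w` with the label `c` -/
noncomputable def th (w : D.W) (c : Lbl D) : Y → ℂ :=
  if h : Fx D w c then (exists_theta f.L f.hζ (yw_mem D w) (yw_rp D w) h).choose else 0

theorem th_spec {w : D.W} {c : Lbl D} (h : Fx D w c) :
    IsLin (Tw D w ⊓ GF F G) (th f w c) ∧ Lab D f.d f.ζ (yw D w) (th f w c) c := by
  rw [th, dif_pos h]
  exact (exists_theta f.L f.hζ (yw_mem D w) (yw_rp D w) h).choose_spec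

/-- the Deligne-Lusztig character of the type `w` and the label `c` -/
noncomputable def RW (w : D.W) (c : Lbl D) : ↥(GF F G) → ℂ := res (GF F G) (R D (Tw D w) (th f w c))

/-- the average of `φ u * RW (u w₁) c` over a subgroup `U` of the Weyl group -/
noncomputable def avg (U : Subgroup D.W) (φ : D.W → ℂ) (w₁ : D.W) (c : Lbl D) : ↥(GF F G) → ℂ :=
  fun g => (Nat.card U : ℂ)⁻¹ * ∑ᶠ u : U, φ u * RW f (u * w₁) c g

variable (D) in
/-- the stabiliser of a cocharacter -/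
def Wl (lam : D.R → ℤ) : Subgroup D.W where
  carrier := {u | D.Wm u *ᵥ lam = lam}
  one_mem' := by
    show D.Wm 1 *ᵥ lam = lam
    rw [D.Wm_one, one_mulVec]
  mul_mem' {a b} ha hb := by
    have ha' : D.Wm a *ᵥ lam = lam := ha
    have hb' : D.Wm b *ᵥ lam = lam := hb
    show D.Wm (a * b) *ᵥ lam = lam
    rw [D.Wm_mul, ← mulVec_mulVec, hb', ha']
  inv_mem' {a} ha := by
    have ha' : D.Wm a *ᵥ lam = lam := ha
    show D.Wm a⁻¹ *ᵥ lam = lam
    conv_lhs => rw [← ha', mulVec_mulVec, ← D.Wm_mul, inv_mul_cancel, D.Wm_one, one_mulVec]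

variable (D) in
/-- The Levi subgroup of `lam` is stable under `w₁ F`, and the label `c` is central in the dual Levi subgroup. -/
structure LeviOK (lam : D.R → ℤ) (w₁ : D.W) (c : Lbl D) : Prop where
  stab : ∀ a, D.Rt a → D.wt a ⬝ᵥ lam = 0 → D.wt (D.act w₁ (D.g a)) ⬝ᵥ lam = 0
  fx : Fx D w₁ c
  cen : ∃ (ξ : ℂˣ) (x : D.R → ℤ), (∀ a, D.Rt a → D.wt a ⬝ᵥ lam = 0 → x ⬝ᵥ D.cor a = 0) ∧ c = fun j => ξ ^ x j

variable (D) in
/-- the sign character -/
noncomputable def sg (w : D.W) : ℂ := ((D.Wm w).det : ℂ)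

variable [Fintype ↥(GF F G)]

/-- The combinatorial description of the Deligne-Lusztig characters (for a quasi-split datum). -/
structure Api : Prop where
  zero : ∀ w c, ¬ Fx D w c → RW f w c = 0
  gen : ∀ w c, IsGeneralizedCharacter ↥(GF F G) (RW f w c)
  ip : ∀ w w' c c', Fx D w c → Fx D w' c' →
    classInner (RW f w c) (RW f w' c') = Nat.card {v : D.W // Tc D v w w' ∧ Rel D v c c'}
  conj : ∀ v w w' c c', Tc D v w w' → Rel D v c c' → RW f w c = RW f w' c'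
  all : ∀ T ∈ tori D, ∀ θ, IsLin (T ⊓ GF F G) θ → ∃ w c, Fx D w c ∧ res (GF F G) (R D T θ) = RW f w c
  card : ∀ w, Nat.card {c : Lbl D // Fx D w c} = ordT D w
  deg : ∀ w c, Fx D w c → RW f w c 1 * ordT D w = sg D w * pc' p (GF F G)
  one : avg f ⊤ (fun _ => 1) 1 1 = fun _ => 1
  st : IsIrrCharacter ↥(GF F G) (avg f ⊤ (sg D) 1 1) ∧ avg f ⊤ (sg D) 1 1 1 = pc p (GF F G)
  /-- Bessel: the values at `1` of an arbitrary function from its multiplicities -/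
  val_one : ∀ χ : ↥(GF F G) → ℂ, χ 1 = (Nat.card D.W : ℂ)⁻¹ *
    ∑ᶠ (w : D.W) (c : Lbl D), classInner χ (RW f w c) * RW f w c 1
  bessel : ∀ χ : ↥(GF F G) → ℂ, ((Nat.card D.W : ℝ)⁻¹ * ∑ᶠ (w : D.W) (c : Lbl D), ‖classInner χ (RW f w c)‖ ^ 2) ≤
    (classInner χ χ).re
  levi : ∀ lam w₁ c, LeviOK D lam w₁ c → IsGeneralizedCharacter ↥(GF F G) (avg f (Wl D lam) (fun _ => 1) w₁ c)
  leviSt : ∀ lam w₁ c, LeviOK D lam w₁ c → IsGeneralizedCharacter ↥(GF F G) (avg f (Wl D lam) (sg D) w₁ c)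
  aut : ∀ α A, Au D α A → (∃ a : MulAut D.W, ∀ w, D.Wm (a w) * A = A * D.Wm w) ∧
    ∀ w w' c c', D.Wm w' * A = A * D.Wm w → Tr D A c c' → Fx D w' c' →
      Fx D w c ∧ ∀ g g' : ↥(GF F G), (g' : Y) = α g → RW f w' c' g' = RW f w c g
  gal : ∀ (σ : ℂ ≃+* ℂ) w c g, RW f w (fun j => Units.map (σ : ℂ →* ℂ) (c j)) g = σ (RW f w c g)
  /-- central elements: the connected centre, and elements of coprime order -/
  cen : ∀ (z : ↥(GF F G)) (v : D.R → ℤ), (∀ a, D.wt a ⬝ᵥ v = 0) → (z : Y) = Mk.nrm F f.d (D.τ (coch v f.ζ)) →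
    ∀ w c g, RW f w c (z * g) = chr v c * RW f w c g
  cen' : ∀ z : ↥(GF F G), (∀ y ∈ G, y * z = z * y) → ∀ w c (n : ℕ), c ^ n = 1 → n.Coprime (orderOf z) →
    ∀ g, RW f w c (z * g) = RW f w c g
  /-- linear characters -/
  lin : ∀ lam : ↥(GF F G) →* ℂˣ, (∀ u : ↥(GF F G), IsUni p (u : Y) → lam u = 1) → ∃ cl : Lbl D, (∀ u, Rel D u cl cl) ∧
    (∀ w, Fx D w cl) ∧ (∀ n : ℕ, lam ^ n = 1 ↔ cl ^ n = 1) ∧
    ∀ w c g, RW f w (c * cl) g = lam g * RW f w c g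

/-! ### the Sylow torus -/

variable (D) in
/-- the torus of type `w₀` is the only one whose normaliser has index prime to `3` -/
def SylC (w₀ : D.W) : Prop :=
  ∀ w, (∀ v, ¬ Tc D v w₀ w) →
    (ordT D w * Nat.card (CW D w)).factorization 3 < (ordT D w₀ * Nat.card (CW D w₀)).factorization 3

variable (D) in
/-- an element of order prime to `3` which centralises the Sylow `3`-subgroup of the finite torus is trivial -/
def RegC (w₀ : D.W) : Prop :=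
  ∀ v : D.W, ¬ 3 ∣ orderOf v → (∀ (j : ℕ) (y : D.R → ℤ), (∀ i, (3 : ℤ) ^ j ∣ ((D.Wm w₀ * D.Mx - 1) *ᵥ y) i) →
    ∀ i, (3 : ℤ) ^ j ∣ ((D.Wm v - 1) *ᵥ y) i) → v = 1

/-- the sum of the multiplicities in the characters of the Sylow torus with labels of `3`-power order -/
noncomputable def mS (w₀ : D.W) (χ : ↥(GF F G) → ℂ) : ℂ :=
  ∑ᶠ (c : Lbl D) (_ : Is3 D c), classInner χ (RW f w₀ c)

/-- The membership test. -/
structure Mc (w₀ : D.W) : Prop where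
  card : (Nat.card ↥(GF F G)).factorization 3 = (ordT D w₀ * Nat.card (CW D w₀)).factorization 3
  /-- characters which only meet labels of `3`-power order on the Sylow torus -/
  can : ∀ M, IsPModular 3 M → ∀ χ : IrrCharacter ↥(GF F G),
    (∀ c, classInner (χ : ↥(GF F G) → ℂ) (RW f w₀ c) ≠ 0 → Is3 D c) → ∀ m : ℤ, mS f w₀ χ = m → (Mem M χ ↔ ¬ 3 ∣ m)
  /-- all characters -/
  all : RegC D w₀ → ∀ M, IsPModular 3 M → ∀ χ : IrrCharacter ↥(GF F G), ∀ m : ℤ, mS f w₀ χ = m → (Mem M χ ↔ ¬ 3 ∣ m)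

/-! ### the simple group -/

variable (D) in
/-- `S = H0 / Z0`, and every automorphism of `S` comes from an automorphism of the frame with a matrix in `Adm`. -/
structure Sit (Adm : Matrix D.R D.R ℤ → Prop) (S : Type) [Group S] where
  qs : D.QS
  adm_one : Adm 1
  H0 : Subgroup Y
  le : H0 ≤ GF F G
  comm : ∀ a ∈ GF F G, ∀ b ∈ GF F G, a * b * a⁻¹ * b⁻¹ ∈ H0
  uni : ∀ u ∈ GF F G, IsUni p u → u ∈ H0
  π : ↥H0 →* S
  surj : Function.Surjective π
  ker : ∀ h : ↥H0, π h = 1 ↔ ∀ y ∈ G, y * h = h * y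
  aut : ∀ σ : MulAut S, ∃ g ∈ GF F G, ∃ α A, Au D α A ∧ Adm A ∧
    ∀ h : ↥H0, ∃ h' : ↥H0, (h' : Y) = g * α h * g⁻¹ ∧ π h' = σ (π h)

variable {Adm : Matrix D.R D.R ℤ → Prop} {S : Type} [Group S]

/-- `ψ` is the function on `S` given by the restriction of `χ` -/
def Sit.Dn (s : Sit D Adm S) (χ : ↥(GF F G) → ℂ) (ψ : S → ℂ) : Prop := ∀ h : ↥s.H0, ψ (s.π h) = χ ⟨h, s.le h.2⟩

/-- the labels of the linear characters of `G ^ F / H0` -/
def Sit.Tw (s : Sit D Adm S) (cl : Lbl D) : Prop :=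
  ∃ lam : ↥(GF F G) →* ℂˣ, (∀ h : ↥s.H0, lam ⟨h, s.le h.2⟩ = 1) ∧ ∀ w c g, RW f w (c * cl) g = lam g * RW f w c g

/-- the label is trivial on the kernel of `π` -/
def Sit.Z1 (s : Sit D Adm S) (c : Lbl D) : Prop :=
  ∀ z : ↥s.H0, s.π z = 1 → ∀ w g, RW f w c (⟨z, s.le z.2⟩ * g) = RW f w c g

/-- The normaliser of the Sylow torus in an almost simple group `A` with socle `N₀ ≃* S`.  `Tb` is the image of the torus,
`N1` the image of its normaliser, `B x` the matrix of an element `x` of the normaliser `Ah` of `Tb` in `A`. -/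
structure Loc (s : Sit D Adm S) (w₀ : D.W) (A : Type) [Group A] (N₀ : Subgroup A) (P : Sylow 3 A) where
  Ah : Subgroup A
  N1 : Subgroup A
  Tb : Subgroup A
  P_le : (P : Subgroup A) ≤ Ah
  sup : N₀ ⊔ Ah = ⊤
  N1_eq : N1 = Ah ⊓ N₀
  Tb_le : Tb ≤ N1
  Tb_norm : ∀ x ∈ Ah, ∀ t ∈ Tb, x * t * x⁻¹ ∈ Tb
  Tb_comm : ∀ a ∈ Tb, ∀ b ∈ Tb, a * b = b * a
  ω : ↥N1 →* D.W
  ω_range : ω.range = CW D w₀
  ω_ker : ∀ x : ↥N1, ω x = 1 ↔ (x : A) ∈ Tb
  /-- the characters of the torus -/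
  Θ : Lbl D → ↥Tb → ℂˣ
  Θ_mul : ∀ c, Fx D w₀ c → s.Z1 f c → ∀ a b, Θ c (a * b) = Θ c a * Θ c b
  Θ_mul' : ∀ c c', Fx D w₀ c → s.Z1 f c → Fx D w₀ c' → s.Z1 f c' → ∀ a, Θ (c * c') a = Θ c a * Θ c' a
  Θ_one : ∀ c, Fx D w₀ c → s.Z1 f c → ((∀ a, Θ c a = 1) ↔ s.Tw f c)
  Θ_surj : ∀ μ : ↥Tb →* ℂˣ, ∃ c, Fx D w₀ c ∧ s.Z1 f c ∧ ∀ a, Θ c a = μ a
  /-- the matrices -/
  B : A → Matrix D.R D.R ℤ
  B_adm : ∀ x ∈ Ah, ∃ v A', Adm A' ∧ B x = D.Wm v * A'
  B_comm : ∀ x ∈ Ah, B x * (D.Wm w₀ * D.Mx) = D.Wm w₀ * D.Mx * B x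
  B_N1 : ∀ x : ↥N1, B x = D.Wm (ω x)
  B_ω : ∀ x ∈ Ah, ∀ y y' : ↥N1, (y' : A) = x * y * x⁻¹ → D.Wm (ω y') * B x = B x * D.Wm (ω y)
  B_Θ : ∀ x ∈ Ah, ∀ c c', Tr D (B x) c c' → Fx D w₀ c' → s.Z1 f c' → Fx D w₀ c ∧ s.Z1 f c ∧
    ∀ t t' : ↥Tb, (t' : A) = x * t * x⁻¹ → Θ c' t' = Θ c t

end Cfsg.Agent.KZ.Lie

namespace Cfsg.Agent.KZ.Lie

open Cfsg Cfsg.Agent.DL Cfsg.Agent.DL.PP

/-- the box of `Api` -/
def BoxApi : Prop :=
  ∀ {p : ℕ} [Fact p.Prime] {k : Type} [Field k] [CharP k p] {Y : Type} [Group Y] {N : Type} [Fintype N]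
    [DecidableEq N] {ρ : Y →* GL N k} {F : MulAut Y} {G : Subgroup Y} [IsAlgClosed k] {D : Datum p ρ F G} (f : Fr D)
    [Fintype ↥(GF F G)], D.QS → Api f

/-- the box of `Mc` -/
def BoxMc : Prop :=
  ∀ {p : ℕ} [Fact p.Prime] {k : Type} [Field k] [CharP k p] {Y : Type} [Group Y] {N : Type} [Fintype N]
    [DecidableEq N] {ρ : Y →* GL N k} {F : MulAut Y} {G : Subgroup Y} [IsAlgClosed k] {D : Datum p ρ F G} (f : Fr D)
    [Fintype ↥(GF F G)], p ≠ 3 → ∀ w₀, SylC D w₀ → Mc f w₀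

/-- the box of `Loc` -/
def BoxLoc : Prop :=
  ∀ {p : ℕ} [Fact p.Prime] {k : Type} [Field k] [CharP k p] {Y : Type} [Group Y] {N : Type} [Fintype N]
    [DecidableEq N] {ρ : Y →* GL N k} {F : MulAut Y} {G : Subgroup Y} [IsAlgClosed k] {D : Datum p ρ F G} (f : Fr D)
    [Fintype ↥(GF F G)], p ≠ 3 → ∀ {Adm : Matrix D.R D.R ℤ → Prop} {S : Type} [Group S] (s : Sit D Adm S) (w₀ : D.W),
    SylC D w₀ → RegC D w₀ → ∀ (A : Type) [Group A] [Finite A] (N₀ : Subgroup A), AS A N₀ → Nonempty (↥N₀ ≃* S) →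
    ∀ P : Sylow 3 A, Nonempty (Loc f s w₀ A N₀ P)

end Cfsg.Agent.KZ.Lie
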