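import Cfsg.Agent.KZ.Lie.Iface

/-!
# Linear characters of `G ^ F`: the interface (helper2)

* `ExLin D` : a label which is trivial on the coroots and fixed by `F` is the label of a linear character of `G ^ F` on
  EVERY frame (box `BoxExLin`, for every datum; proof by a central extension of `G`);
* `Cen D` : the label, on the torus of type `1`, of a linear character which is trivial on the `p`-elements is trivial
  on the coroots (box `BoxCen`, quasi-split data).
-/

set_option autoImplicit false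
set_option linter.unusedSectionVars false

namespace Cfsg.Agent.KZ.Lie

open Cfsg Cfsg.Agent.DL Cfsg.Agent.DL.PP Cfsg.Agent.DL.Uni Cfsg.Agent.DL.Asm Cfsg.Agent.Nodes.Reps Matrix

variable {p : ℕ} [Fact p.Prime] {k : Type} [Field k] [CharP k p] {Y : Type} [Group Y] {N : Type} [Fintype N]
  [DecidableEq N] {ρ : Y →* GL N k} {F : MulAut Y} {G : Subgroup Y} [IsAlgClosed k] (D : Datum p ρ F G)

/-- the label is trivial on the coroots -/
def CenL (c : Lbl D) : Prop := ∀ i, chr (D.cw i) c = 1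

/-- the linear character is trivial on the `p`-elements -/
def Pt (p : ℕ) {F : MulAut Y} {G : Subgroup Y} (μ : ↥(GF F G) →* ℂˣ) : Prop := ∀ u : ↥(GF F G), IsUni p (u : Y) → μ u = 1

/-- central labels are the labels of linear characters, uniformly on all frames -/
def ExLin : Prop :=
  ∀ (d e : ℕ) (ζ : kˣ), Lvl D d e → IsPrimitiveRoot ζ (p ^ e - 1) → ∀ c : Lbl D, CenL D c → Fx D 1 c →
    ∃ μ : ↥(GF F G) →* ℂˣ, Pt p μ ∧ ∀ y ∈ G, ∀ w, D.Rp w (y⁻¹ * F y) → Lab D d ζ y (lin μ) c

/-- the label of a linear character on the torus of type `1` is central -/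
def Cen : Prop :=
  ∀ μ : ↥(GF F G) →* ℂˣ, Pt p μ → ∀ (d e : ℕ) (ζ : kˣ), Lvl D d e → IsPrimitiveRoot ζ (p ^ e - 1) →
    ∀ y ∈ G, D.Rp 1 (y⁻¹ * F y) → ∀ c : Lbl D, Lab D d ζ y (lin μ) c → CenL D c

end Cfsg.Agent.KZ.Lie

namespace Cfsg.Agent.KZ.Lie

open Cfsg Cfsg.Agent.DL Cfsg.Agent.DL.PP

/-- the box of `ExLin` (every datum) -/
def BoxExLin : Prop :=
  ∀ {p : ℕ} [Fact p.Prime] {k : Type} [Field k] [CharP k p] {Y : Type} [Group Y] {N : Type} [Fintype N]
    [DecidableEq N] {ρ : Y →* GL N k} {F : MulAut Y} {G : Subgroup Y} [IsAlgClosed k] (D : Datum p ρ F G), ExLin D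

/-- the box of `Cen` (quasi-split data) -/
def BoxCen : Prop :=
  ∀ {p : ℕ} [Fact p.Prime] {k : Type} [Field k] [CharP k p] {Y : Type} [Group Y] {N : Type} [Fintype N]
    [DecidableEq N] {ρ : Y →* GL N k} {F : MulAut Y} {G : Subgroup Y} [IsAlgClosed k] (D : Datum p ρ F G),
    D.QS → Cen D

end Cfsg.Agent.KZ.Lie
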