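import Cfsg.Agent.KZ.Lie.ApiB
import Cfsg.Agent.KZ.Lie.LinI
import Cfsg.Agent.KZ.Levi.Main

/-!
# KZ-UNIF, part C: automorphisms and Levi subgroups (helper66)

`RW_aut`, `avg_levi`, `avg_leviSt` are the fields `aut`, `levi`, `leviSt` of `Api`.
-/

set_option autoImplicit false
set_option linter.unusedSectionVars false

namespace Cfsg.Agent.KZ.Lie

open Cfsg Cfsg.Agent.DL Cfsg.Agent.DL.PP Cfsg.Agent.DL.Uni Cfsg.Agent.DL.Asm Cfsg.Agent.Nodes.Reps Matrix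
  Cfsg.Agent.DL.Mk Cfsg.Agent.Nodes.BNOf Cfsg.Agent.Characters.Core Cfsg.Agent.KZ.Levi
  Cfsg.Agent.ChevalleyStructure.CoxeterGeom Cfsg.Agent.Tits.Roots Cfsg.Agent.DL.Base

variable {p : ℕ} [Fact p.Prime] {k : Type} [Field k] [CharP k p] {Y : Type} [Group Y] {N : Type} [Fintype N]
  [DecidableEq N] {ρ : Y →* GL N k} {F : MulAut Y} {G : Subgroup Y} [IsAlgClosed k] {D : Datum p ρ F G}

namespace ApiC

section Aut

variable {α : MulAut Y} {A : Matrix D.R D.R ℤ} (h : Au D α A)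
include h

theorem map_NN {m : Y} (hm : m ∈ D.NN) : α m ∈ D.NN :=
  D.mem_NN_of_conj ((h.memG _).2 (D.NN_le_G hm)) fun t ht => by
    obtain ⟨t, rfl⟩ := α.surjective t
    rw [← map_inv, ← map_mul, ← map_mul, h.memT]
    exact D.conj_mem_T hm ((h.memT _).1 ht)

theorem Wm_rel {v v' : D.W} {m : Y} (hm : D.Rp v m) (hm' : D.Rp v' (α m)) : D.Wm v' * A = A * D.Wm v :=
  mon_inj (k := k) fun x => D.τ_inj (by
    rw [mon_mul, mon_mul, ← h.tau, ← D.conj_τ hm, ← D.conj_τ hm', ← h.tau, map_mul, map_mul, map_inv])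

theorem cancel {B B' : Matrix D.R D.R ℤ} (e : B * A = B' * A) : B = B' :=
  mon_inj (k := k) fun x => by
    obtain ⟨t, ht⟩ := α.surjective (D.τ x)
    obtain ⟨y, rfl⟩ := (D.mem_T t).1 ((h.memT t).1 (ht ▸ D.τ_mem x))
    rw [h.tau] at ht
    rw [← D.τ_inj ht, ← mon_mul, ← mon_mul, e]

theorem cancel' {B B' : Matrix D.R D.R ℤ} (e : A * B = A * B') : B = B' :=
  mon_inj (k := k) fun x => D.τ_inj (α.injective (by rw [h.tau, h.tau, ← mon_mul, ← mon_mul, e]))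

theorem exists_a : ∃ a : MulAut D.W, ∀ w, D.Wm (a w) * A = A * D.Wm w := by
  have h1 : ∀ w, D.Wm (D.pr (α (St.rp D w))) * A = A * D.Wm w := fun w =>
    Wm_rel h (St.rp_spec D w) (D.rp_pr (map_NN h (St.rp_mem D w)))
  let a : D.W →* D.W := MonoidHom.mk' (fun w => D.pr (α (St.rp D w))) fun v w => D.Wm_injective (cancel h (by
    rw [h1, D.Wm_mul, D.Wm_mul, mul_assoc, h1, ← mul_assoc, ← mul_assoc, h1]))
  have h2 : Function.Injective a := fun v w e => D.Wm_injective (cancel' h (by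
    rw [← h1, ← h1]
    exact congrArg (fun x => D.Wm x * A) e))
  exact ⟨MulEquiv.ofBijective a (Finite.injective_iff_bijective.1 h2), h1⟩

theorem RW_map (f : Fr D) {w w' : D.W} {c c' : Lbl D} (hw : D.Wm w' * A = A * D.Wm w) (ht : Tr D A c c')
    (hc : Fx D w' c') : Fx D w c ∧ ∀ g g' : ↥(GF F G), (g' : Y) = α g → RW f w' c' g' = RW f w c g := by
  have hy := yw_mem D w
  have h0 := yw_rp D w
  generalize yw D w = y at hy h0
  have hy' := (h.memG y).2 hy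
  have h1 : D.Rp w' ((α y)⁻¹ * F (α y)) := by
    have h2 := D.rp_pr (map_NN h ⟨w, h0⟩)
    rwa [D.Wm_injective (cancel h ((Wm_rel h h0 h2).trans hw.symm)), map_mul, map_inv, h.comm] at h2
  obtain ⟨θ, -, h2⟩ := exists_theta f.L f.hζ hy' h1 hc
  have h3 : Lab D f.d f.ζ y (fun t => θ (α t)) c := fun x => by
    rw [← ht, ← h2, ← mon_coch, ← h.tau, ← map_inv, ← map_mul, ← map_mul, nrm_map h.comm]
  have hcj : ∀ {K : Subgroup Y}, (∀ x, α x ∈ K ↔ x ∈ K) → ∀ x, α x ∈ cj (α y) K ↔ x ∈ cj y K := fun hK x => by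
    rw [mem_cj, mem_cj, ← hK (y⁻¹ * x * y), map_mul, map_mul, map_inv]
  have hP : Pair D (cj y D.T) (cj y D.U) := ⟨y, hy, rfl, rfl, (D.stable_iff hy).2 ⟨w, h0⟩⟩
  have hP' : Pair D (cj (α y) D.T) (cj (α y) D.U) := ⟨α y, hy', rfl, rfl, (D.stable_iff hy').2 ⟨w', h1⟩⟩
  refine ⟨h3.fx f.L f.hζ hy h0, fun g g' e => ?_⟩
  rw [← R_eq_RW f hy' h1 h2, ← R_eq_RW f hy h0 h3, R_eq' hP _ _ g.2, R_eq' hP' _ _ g'.2,
    RV_map h.comm h.memG (hcj h.memT) (hcj h.memU), e]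

end Aut

section Levi

variable {l : (D.I → ℤ) →+ ℤ} {lam : D.R → ℤ}

theorem sub_Wm (hs : Stab D lam) (u : (dL hs).W) : (dL hs).Wm u = D.Wm (D.subW (Zl D lam) u) := by
  obtain ⟨m, hm, -⟩ := (dL hs).exists_rp u
  exact mon_inj (k := k) fun c => D.τ_inj (((dL hs).conj_τ hm c).symm.trans (D.conj_τ (D.rp_of_sub _ hs rfl hm) c))

variable (hl : ∀ b, D.wt b ⬝ᵥ lam = l b)
include hl

theorem l_act' {u : D.W} (hu : u ∈ Wl D lam) (a : D.I → ℤ) : l (D.act u a) = l a := by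
  rw [← hl, ← hl, ← D.wt_act u a, ← dotProduct_mulVec, show D.Wm u *ᵥ lam = lam from hu]

theorem subW_mem (v : (cox D.cs D.h (D.Lam (Zl D lam))).Group) : D.subW (Zl D lam) v ∈ Wl D lam := by
  have h1 : (D.subW (Zl D lam)).range ≤ Wl D lam := by
    rw [D.range_subW, Subgroup.closure_le]
    rintro _ ⟨a, ha, rfl⟩
    obtain ⟨h1, h2⟩ := (mem_Sz_Zl hl).1 ha
    show D.Wm (D.rf a) *ᵥ lam = lam
    rw [D.Wm_rf h1, sub_mulVec, one_mulVec, vecMulVec_mulVec, hl, h2]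
    simp
  exact h1 ⟨v, rfl⟩

/-- the stabiliser of a cocharacter is generated by reflections -/
theorem range_subW_Zl (hs : Stab D lam) : (D.subW (Zl D lam)).range = Wl D lam := by
  refine le_antisymm (by rintro _ ⟨v, rfl⟩; exact subW_mem hl v) fun u hu => ?_
  obtain ⟨z, hz⟩ := CF.exists_dominant D l
  obtain ⟨v₁, h1⟩ := D.exists_sub_chamber Zl_sub hs rfl z
  obtain ⟨v₂, h2⟩ := D.exists_sub_chamber Zl_sub hs rfl (u * z)
  have h3 : z⁻¹ * (D.subW _ v₁ * (D.subW _ v₂)⁻¹ * u) * z = 1 := eq_one_of_nonneg _ D.h _ fun i => by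
    have hi := isRoot_sr D.cs D.h i
    have h4 : D.subW _ v₁ * (D.subW _ v₂)⁻¹ * u ∈ Wl D lam :=
      mul_mem (mul_mem (subW_mem hl v₁) (inv_mem (subW_mem hl v₂))) hu
    show 0 ≤ D.act _ (sr i)
    rcases (hz i).eq_or_lt with h5 | h5
    · have h6 : D.act (u * z) (sr i) ∈ D.act (u * z) '' RGD.Pos D.cs D.h ∩ D.Sz (Zl D lam) :=
        ⟨⟨_, ⟨hi, sr_nonneg i⟩, rfl⟩, (mem_Sz_Zl hl).2 ⟨hi.act _, by
          rw [Datum.act, rep_mul_apply]
          exact (l_act' hl hu _).trans h5.symm⟩⟩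
      obtain ⟨b, hb, e⟩ := h2.subset h6
      obtain ⟨⟨b', hb', e'⟩, -⟩ := h1.symm.subset ⟨b, hb, rfl⟩
      have h7 : D.act (z⁻¹ * (D.subW _ v₁ * (D.subW _ v₂)⁻¹ * u) * z) (sr i) = b' := by
        rw [mul_assoc, mul_assoc, mul_assoc, Datum.act, rep_mul_apply, rep_mul_apply, rep_mul_apply]
        simp only [Datum.act] at e e'
        rw [← e, rep_inv_apply, ← e', rep_inv_apply]
      rw [h7]
      exact hb'.2
    · refine nonneg_of_l (l := l.comp (rep D.cs D.h z).toAddMonoidHom) hz (hi.act _) ?_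
      show 0 < l (rep D.cs D.h z (rep D.cs D.h _ _))
      rw [← rep_mul_apply, mul_assoc, mul_inv_cancel_left, rep_mul_apply]
      exact h5.trans_eq (l_act' hl h4 _).symm
  refine ⟨v₂ * v₁⁻¹, ?_⟩
  rw [map_mul, map_inv]
  calc D.subW _ v₂ * (D.subW _ v₁)⁻¹ = D.subW _ v₂ * (D.subW _ v₁)⁻¹ * (z * 1 * z⁻¹) := by group
    _ = u := by rw [← h3]; group

theorem avg_sub (hs : Stab D lam) (a : D.W → ℂ) :
    (Nat.card (dL hs).W : ℂ)⁻¹ * ∑ᶠ u : (dL hs).W, a (D.subW (Zl D lam) u) =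
      (Nat.card (Wl D lam) : ℂ)⁻¹ * ∑ᶠ u : Wl D lam, a u := by
  let e := (MonoidHom.ofInjective (D.subW_injective (Zl D lam))).trans (MulEquiv.subgroupCongr (range_subW_Zl hl hs))
  rw [← finsum_comp_equiv e.toEquiv, ← Nat.card_congr e.toEquiv]
  rfl

/-- Lusztig induction of a uniform function -/
theorem RL_avg (hs : Stab D lam) (φ : Subgroup Y → Y → ℂ) {g : Y} (hg : g ∈ GF F G) (a : D.W → ℂ)
    (h : ∀ y ∈ Lc D lam, ∀ u, (dL hs).Rp u (y⁻¹ * F y) →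
      R D (cj y D.T) (φ (cj y D.T)) g = a (D.subW (Zl D lam) u)) :
    RL D l lam (usum (GF F (Lc D lam)) (tori (dL hs)) (R (dL hs)) φ) g =
      (Nat.card (Wl D lam) : ℂ)⁻¹ * ∑ᶠ u : Wl D lam, a u := by
  have S := sys' (dL hs)
  rw [S.usum_eq, RL_sum hl hs _ _ (fun T hT => S.mem_tori.1 hT) φ g hg, Finset.sum_apply, ← avg_sub hl hs]
  exact sum_tori (dL hs) (fun T => R D T (φ T) g) _ h

end Levi

theorem conj_cor {y : Y} (hy : y ∈ G) (hF : y⁻¹ * F y ∈ D.NN) {a : D.I → ℤ} (ha : D.Rt a) :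
    (D.conj hy hF).cor a = D.cor a := by
  obtain ⟨w, i, rfl⟩ := ha
  exact ((D.conj hy hF).cor_act_sr w i).trans ((congrArg (· *ᵥ D.cw i) (conj_Wm hy hF w)).trans (D.cor_act_sr w i).symm)

theorem conj_Wl {y : Y} (hy : y ∈ G) (hF : y⁻¹ * F y ∈ D.NN) (lam : D.R → ℤ) : Wl (D.conj hy hF) lam = Wl D lam :=
  Subgroup.ext fun u => by
    show (D.conj hy hF).Wm u *ᵥ lam = lam ↔ D.Wm u *ᵥ lam = lam
    rw [conj_Wm]

/-- the common part of `levi` and `leviSt` -/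
theorem levi_core (hE : BoxExLin) (f : Fr D) {lam : D.R → ℤ} {w₁ : D.W} {c : Lbl D} (H : LeviOK D lam w₁ c) :
    IsGeneralizedCharacter ↥(GF F G) (avg f (Wl D lam) (fun _ => 1) w₁ c) ∧
      IsGeneralizedCharacter ↥(GF F G) (avg f (Wl D lam) (sg D) w₁ c) := by
  have hy := yw_mem D w₁
  have h0 := yw_rp D w₁
  generalize yw D w₁ = y₁ at hy h0
  have hN : y₁⁻¹ * F y₁ ∈ D.NN := ⟨w₁, h0⟩
  let l : (D.I → ℤ) →+ ℤ := AddMonoidHom.mk' (fun b => D.wt b ⬝ᵥ lam) fun b c => by rw [map_add, add_dotProduct]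
  have hl : ∀ b, (D.conj hy hN).wt b ⬝ᵥ lam = l b := fun _ => rfl
  have hs : Stab (D.conj hy hN) lam := fun a ha => by
    obtain ⟨h1, h2⟩ := (mem_Sz_Zl hl).1 ha
    refine (mem_Sz_Zl hl).2 ⟨(D.conj hy hN).g_root a h1, ?_⟩
    rw [D.conj_g, h0.pr_eq]
    exact H.stab a h1 h2
  have hM : (dL hs).Mx = D.Wm w₁ * D.Mx := (D.conj_Mx hy hN).trans (by rw [h0.pr_eq])
  have hW : ∀ u, (dL hs).Wm u = D.Wm ((D.conj hy hN).subW _ u) := fun u => (sub_Wm hs u).trans (conj_Wm hy hN _)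
  obtain ⟨μ, hμ, hL⟩ := hE (dL hs) f.d f.e f.ζ ⟨f.L.d_pos, f.L.e_pos, fun u => by
      rw [hM, hW, ← mul_assoc, ← D.Wm_mul]
      exact f.L.pow _⟩ f.hζ c (fun j => by
      obtain ⟨ξ, x, h1, rfl⟩ := H.cen
      obtain ⟨h2, h3⟩ := (mem_Sz_Zl hl).1 (⟨bs_root j, bs_mem j⟩ : _ ∈ (D.conj hy hN).Sz _)
      refine (chr_coch _ x ξ).trans ?_
      rw [← zpow_zero ξ, ← h1 _ h2 h3, ← conj_cor hy hN h2, dotProduct_comm]
      rfl) (fun v => by rw [hM, (dL hs).Wm_one, one_mul]; exact H.fx v)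
  have := finite_GF (dL hs)
  have h1 := pconst_of_lin (isLin_lin μ) fun u hu h => by rw [lin_apply μ hu, hμ ⟨u, hu⟩ h, Units.val_one]
  have key : ∀ (ε : Subgroup Y → ℂ) (φ : D.W → ℂ), (∀ y ∈ Lc (D.conj hy hN) lam, ∀ u, (dL hs).Rp u (y⁻¹ * F y) →
      ε (cj y (dL hs).T) = φ ((D.conj hy hN).subW _ u)) → ∀ ψ : Y → ℂ,
      (∀ g ∈ GF F (Lc (D.conj hy hN) lam),
        ψ g = usum (GF F (Lc (D.conj hy hN) lam)) (tori (dL hs)) (R (dL hs)) (fun T _ => ε T) g) →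
      IsGeneralizedCharacter _ (res (GF F (Lc (D.conj hy hN) lam)) ψ) →
      IsGeneralizedCharacter ↥(GF F G) (avg f (Wl D lam) φ w₁ c) := fun ε φ h2 ψ h3 h4 => by
    have h5 : IsGeneralizedCharacter _ (res (GF F (Lc (D.conj hy hN) lam)) (lin μ * ψ)) := by
      obtain ⟨a, b, ha, hb, e⟩ := h4
      have h6 := Characters.Linear.isCharacter_hom μ
      refine ⟨_, _, isCharacter_mul h6 ha, isCharacter_mul h6 hb, funext fun x => ?_⟩
      have h7 : ψ x = a x - b x := congrFun e x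
      simp [res, h7, lin_coe, mul_sub]
    convert gen_RL hl h5 using 1
    funext g
    rw [res, RL_congr (f' := usum _ (tori (dL hs)) (R (dL hs)) fun T => lin μ * fun _ => ε T) fun x hx => by
      rw [Pi.mul_apply, h3 x hx, (sys' (dL hs)).mul_usum h1 _ x hx],
      RL_avg hl hs _ g.2 (fun u => φ u * RW f (u * w₁) c g) fun y hy' u hu => ?_, conj_Wl]
    · rfl
    have hyG : y ∈ G := (D.conj hy hN).cen_le_G _ hy'
    have h6 := (D.conj hy hN).rp_of_sub _ hs rfl hu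
    have h7 : D.Rp ((D.conj hy hN).subW _ u * w₁) ((y * y₁)⁻¹ * F (y * y₁)) := by
      have h8 := (D.conj_rp_iff hy hN (m := y₁⁻¹ * (y⁻¹ * F y) * y₁)).1 (by convert h6 using 1; group)
      convert h8.mul h0 using 1
      rw [map_mul]
      group
    have h8 : Lab D f.d f.ζ (y * y₁) (lin μ) c := fun v => by
      rw [← hL y hy' u hu v]
      congr 2
      show _ = y * (y₁ * D.τ _ * y₁⁻¹) * y⁻¹
      group
    rw [← R_eq_RW f (G.mul_mem hyG hy) h7 h8, ← h2 y hy' u hu, ← R_const, D.conj_T, ← cj_mul,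
      R_conj_datum hy hN (mem_tori (G.mul_mem hyG hy) h7) _ _ g.2, cj_mul]
    exact congrArg (R D _ · (g : Y)) (funext fun t => mul_comm _ _)
  refine ⟨key (fun _ => 1) _ (fun _ _ _ _ => rfl) 1
    ((sys' (dL hs)).pconst_eq_usum (φ := 1) ⟨isCls_one, fun _ _ _ _ _ _ _ => rfl⟩)
    (gen_of_lin (μ := 1) ⟨rfl, fun _ _ _ _ => (mul_one _).symm⟩), ?_⟩
  obtain ⟨St, hSt⟩ := St.stD (dL hs)
  obtain ⟨w₀, h2⟩ := eps_gen hSt
  have h3 := key (eps _ (R (dL hs)) St) (fun u => sg (dL hs) w₀ * sg D u) (fun y hy' u hu => by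
    rw [h2 y hy' u hu]
    exact congrArg (fun B : Matrix D.R D.R ℤ => sg (dL hs) w₀ * (B.det : ℂ)) (hW u)) St (hSt.st_eq_usum (sys' (dL hs))) (gen_of_irr hSt.irr)
  have := Fintype.ofFinite (Wl D lam)
  rcases sg_sign (dL hs) w₀ with h4 | h4
  · simpa only [h4, one_mul] using h3
  · convert gen_neg h3 using 1
    funext g
    simp [avg, h4, finsum_eq_sum_of_fintype]

end ApiC

/-- the field `aut` of `Api` -/
theorem RW_aut (f : Fr D) : ∀ α A, Au D α A → (∃ a : MulAut D.W, ∀ w, D.Wm (a w) * A = A * D.Wm w) ∧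
    ∀ w w' c c', D.Wm w' * A = A * D.Wm w → Tr D A c c' → Fx D w' c' →
      Fx D w c ∧ ∀ g g' : ↥(GF F G), (g' : Y) = α g → RW f w' c' g' = RW f w c g :=
  fun _ _ h => ⟨ApiC.exists_a h, fun _ _ _ _ => ApiC.RW_map h f⟩

/-- the field `levi` of `Api` -/
theorem avg_levi (hE : BoxExLin) (f : Fr D) : ∀ lam w₁ c, LeviOK D lam w₁ c →
    IsGeneralizedCharacter ↥(GF F G) (avg f (Wl D lam) (fun _ => 1) w₁ c) :=
  fun _ _ _ H => (ApiC.levi_core hE f H).1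

/-- the field `leviSt` of `Api` -/
theorem avg_leviSt (hE : BoxExLin) (f : Fr D) : ∀ lam w₁ c, LeviOK D lam w₁ c →
    IsGeneralizedCharacter ↥(GF F G) (avg f (Wl D lam) (sg D) w₁ c) :=
  fun _ _ _ H => (ApiC.levi_core hE f H).2

end Cfsg.Agent.KZ.Lie
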