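import Cfsg.Agent.KZ.Lie.ApiB
import Cfsg.Agent.KZ.Lie.DGen

/-!
# KZ: descent of characters from `G ^ F` to the simple group (helper61)

Definitions: `Sit.H1`, `Sit.Zw`, `Sit.Cop`, `Full`, `AutC`, `AdmC`, `Sit.Ov`, `Mv`, `Loc2`.
D1: `Sit.desc`, `Sit.desc_lbl`; D2: `Sit.exists_aut`, `Sit.Ov.twist`, `Sit.Ov.mv`, `Sit.Ov.apart`, `Sit.Dn.fixes`;
D3: `Sit.split3`; D4: `Sit.exists_st`, `Sit.one`.
-/

set_option autoImplicit false
set_option linter.unusedSectionVars false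

namespace Cfsg.Agent.KZ.Lie

open Cfsg Cfsg.Agent.DL Cfsg.Agent.DL.PP Cfsg.Agent.DL.Uni Cfsg.Agent.DL.Asm Cfsg.Agent.Nodes.Reps Matrix
  Cfsg.Agent.Characters.Core Cfsg.Agent.CharactersDeep.AbelianQuotient
open scoped ComplexConjugate

variable {p : ℕ} [Fact p.Prime] {k : Type} [Field k] [CharP k p] {Y : Type} [Group Y] {N : Type} [Fintype N]
  [DecidableEq N] {ρ : Y →* GL N k} {F : MulAut Y} {G : Subgroup Y} [IsAlgClosed k]
  {D : Datum p ρ F G} (f : Fr D) [Fintype ↥(GF F G)] {Adm : Matrix D.R D.R ℤ → Prop} {S : Type} [Group S]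
  {M : Ideal AlgInt}

/-! ## definitions -/

/-- `H0` as a subgroup of `G ^ F` -/
abbrev Sit.H1 (s : Sit D Adm S) : Subgroup ↥(GF F G) := s.H0.subgroupOf (GF F G)

/-- the character of type `w` and label `c` is trivial on the kernel of `π` -/
def Sit.Zw (s : Sit D Adm S) (w : D.W) (c : Lbl D) : Prop :=
  ∀ z : ↥s.H0, s.π z = 1 → ∀ g, RW f w c (⟨z, s.le z.2⟩ * g) = RW f w c g

/-- the index of `H0` and the order of the kernel of `π` are prime to `3` -/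
structure Sit.Cop (s : Sit D Adm S) : Prop where
  idx : ¬ 3 ∣ s.H1.index
  ker : ¬ 3 ∣ Nat.card ↥s.π.ker

variable (D) in
/-- the normaliser of the torus of type `w₀` has index prime to `3` (this is `Mc.card`) -/
def Full (w₀ : D.W) : Prop :=
  (Nat.card ↥(GF F G)).factorization 3 = (ordT D w₀ * Nat.card (CW D w₀)).factorization 3

variable (D) in
/-- the type `w₀` is determined by the orders of the torus and of its Weyl group -/
def AutC (w₀ : D.W) : Prop :=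
  ∀ w, ordT D w = ordT D w₀ → Nat.card (CW D w) = Nat.card (CW D w₀) → ∃ v, Tc D v w₀ w

variable (D Adm) in
/-- the admissible automorphisms fix the type `w₀` -/
def AdmC (w₀ : D.W) : Prop :=
  ∀ α A, Au D α A → Adm A → ∃ v, D.Wm v * A * (D.Wm w₀ * D.Mx) = D.Wm w₀ * D.Mx * (D.Wm v * A)

/-- `ψ` is a constituent of the restriction of `χ` -/
def Sit.Ov (s : Sit D Adm S) (χ : ↥(GF F G) → ℂ) (ψ : S → ℂ) : Prop :=
  ∑ᶠ h : ↥s.H0, χ ⟨h, s.le h.2⟩ * (starRingEnd ℂ) (ψ (s.π h)) ≠ 0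

/-- the multiplicities of `χ` are those of `χ'`, moved by the matrix `A` and the twist `cl` -/
def Mv (A : Matrix D.R D.R ℤ) (cl : Lbl D) (χ χ' : ↥(GF F G) → ℂ) : Prop :=
  ∀ w w' c c', D.Wm w' * A = A * D.Wm w → Tr D A c c' → Fx D w' c' →
    classInner χ (RW f w' c') = classInner χ' (RW f w (c * cl))

/-- as `Loc`, with `Zw w₀` in the place of `Z1` -/
structure Loc2 (s : Sit D Adm S) (w₀ : D.W) (A : Type) [Group A] (N₀ : Subgroup A) (P : Sylow 3 A) where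
  Ah : Subgroup A
  N1 : Subgroup A
  Tb : Subgroup A
  P_le : (P : Subgroup A) ≤ Ah
  sup : N₀ ⊔ Ah = ⊤
  N1_eq : N1 = Ah ⊓ N₀
  Tb_le : Tb ≤ N1
  Tb_norm : ∀ x ∈ Ah, ∀ t ∈ Tb, x * t * x⁻¹ ∈ Tb
  Tb_comm : ∀ a ∈ Tb, ∀ b ∈ Tb, a * b = b * a
  ω : ↥N1 →* D.W
  ω_range : ω.range = CW D w₀
  ω_ker : ∀ x : ↥N1, ω x = 1 ↔ (x : A) ∈ Tb
  Θ : Lbl D → ↥Tb → ℂˣ
  Θ_mul : ∀ c, Fx D w₀ c → s.Zw f w₀ c → ∀ a b, Θ c (a * b) = Θ c a * Θ c b
  Θ_mul' : ∀ c c', Fx D w₀ c → s.Zw f w₀ c → Fx D w₀ c' → s.Zw f w₀ c' → ∀ a, Θ (c * c') a = Θ c a * Θ c' a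
  Θ_one : ∀ c, Fx D w₀ c → s.Zw f w₀ c → ((∀ a, Θ c a = 1) ↔ s.Tw f c)
  Θ_surj : ∀ μ : ↥Tb →* ℂˣ, ∃ c, Fx D w₀ c ∧ s.Zw f w₀ c ∧ ∀ a, Θ c a = μ a
  B : A → Matrix D.R D.R ℤ
  B_adm : ∀ x ∈ Ah, ∃ v A', Adm A' ∧ B x = D.Wm v * A'
  B_comm : ∀ x ∈ Ah, B x * (D.Wm w₀ * D.Mx) = D.Wm w₀ * D.Mx * B x
  B_N1 : ∀ x : ↥N1, B x = D.Wm (ω x)
  B_ω : ∀ x ∈ Ah, ∀ y y' : ↥N1, (y' : A) = x * y * x⁻¹ → D.Wm (ω y') * B x = B x * D.Wm (ω y)
  B_Θ : ∀ x ∈ Ah, ∀ c c', Tr D (B x) c c' → Fx D w₀ c' → s.Zw f w₀ c' → Fx D w₀ c ∧ s.Zw f w₀ c ∧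
    ∀ t t' : ↥Tb, (t' : A) = x * t * x⁻¹ → Θ c' t' = Θ c t
  /-- the link with the automorphisms of `S` -/
  e : ↥N₀ ≃* S
  B_aut : ∀ x ∈ Ah, ∃ g ∈ GF F G, ∃ α A' v, Au D α A' ∧ Adm A' ∧ B x = D.Wm v * A' ∧
    ∀ h : ↥s.H0, ∃ h1 : ↥s.H0, (h1 : Y) = g * α h * g⁻¹ ∧
      ∀ n n1 : ↥N₀, e n = s.π h → (n1 : A) = x * n * x⁻¹ → e n1 = s.π h1
  /-- the order of the image of the torus -/
  card_Tb : Nat.card ↥Tb * (s.H1.index * Nat.card ↥s.π.ker) = ordT D w₀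

variable {f} (s : Sit D Adm S) {χ χ' : IrrCharacter ↥(GF F G)} {ψ ψ' : IrrCharacter S}

/-! ## labels and characters of tori -/

theorem fx_one (w : D.W) : Fx D w 1 := fun v => by rw [map_one, map_one]

theorem fx_mul {w : D.W} {c c' : Lbl D} (h : Fx D w c) (h' : Fx D w c') : Fx D w (c * c') := fun v => by
  rw [map_mul, map_mul, h, h']

theorem fx_inv {w : D.W} {c : Lbl D} (h : Fx D w c) : Fx D w c⁻¹ := fun v => by rw [map_inv, map_inv, h]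

theorem fx_pow {w : D.W} {c : Lbl D} (h : Fx D w c) (n : ℕ) : Fx D w (c ^ n) := fun v => by rw [map_pow, map_pow, h]

theorem eq_one_of_rel {v : D.W} {c : Lbl D} (h : Rel D v 1 c) : c = 1 :=
  eq_of_chr D fun x => by rw [← h.symm x, map_one, map_one]

theorem eq_of_rel {v : D.W} {c c' : Lbl D} (h : Rel D v c c') (h' : Rel D v c c) : c' = c :=
  eq_of_chr D fun x => by rw [← h.symm x, h'.symm x]

theorem th_ext {w : D.W} {c : Lbl D} (h : Fx D w c) {θ : Y → ℂ} (h' : Lab D f.d f.ζ (yw D w) θ c) :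
    ∀ t ∈ Tw D w ⊓ GF F G, th f w c t = θ t := (th_spec f h).2.ext f.L f.hζ (yw_mem D w) (yw_rp D w) h'

theorem th_one (w : D.W) : ∀ t ∈ Tw D w ⊓ GF F G, th f w 1 t = 1 := th_ext (fx_one w) (lab_one f _)

theorem th_mul {w : D.W} {c c' : Lbl D} (h : Fx D w c) (h' : Fx D w c') :
    ∀ t ∈ Tw D w ⊓ GF F G, th f w (c * c') t = th f w c t * th f w c' t :=
  th_ext (θ := fun t => th f w c t * th f w c' t) (fx_mul h h') fun v => by
    beta_reduce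
    rw [(th_spec f h).2 v, (th_spec f h').2 v, map_mul, Units.val_mul]

theorem RW_ne {w : D.W} {c : Lbl D} (h : Fx D w c) : classInner (RW f w c) (RW f w c) ≠ 0 := by
  rw [RW_ip f h h, Nat.cast_ne_zero]
  exact (Nat.card_pos_iff.2 ⟨⟨⟨1, tc_one w, rel_one D c⟩⟩, inferInstance⟩).ne'

theorem rel_of_ne {w w' : D.W} {c c' : Lbl D} (h : classInner (RW f w c) (RW f w' c') ≠ 0) :
    Fx D w c ∧ Fx D w' c' ∧ ∃ v, Tc D v w w' ∧ Rel D v c c' := by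
  have h1 : Fx D w c := by_contra fun h1 => h (by rw [RW_zero f h1, classInner_zero_left])
  have h2 : Fx D w' c' := by_contra fun h2 => h (by rw [RW_zero f h2, classInner_zero_right])
  rw [RW_ip f h1 h2, Nat.cast_ne_zero] at h
  obtain ⟨⟨v, hv⟩⟩ := (Nat.card_ne_zero.1 h).1
  exact ⟨h1, h2, v, hv⟩

theorem _root_.Cfsg.Agent.DL.PP.Au.det_ne {α : MulAut Y} {A : Matrix D.R D.R ℤ} (h : Au D α A) : A.det ≠ 0 := fun h0 => by
  obtain ⟨v, h1, h2⟩ := exists_mulVec_eq_zero_iff.2 h0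
  refine h1 (coch_inj (k := k) fun a => D.τ_inj (α.injective ?_))
  rw [h.tau, h.tau, mon_coch, mon_coch, h2, mulVec_zero]

theorem _root_.Cfsg.Agent.DL.PP.Au.comm_Mx {α : MulAut Y} {A : Matrix D.R D.R ℤ} (h : Au D α A) :
    A * D.Mx = D.Mx * A :=
  mon_inj (k := k) fun c => D.τ_inj (by rw [mon_mul, mon_mul, ← h.tau, ← D.F_τ, ← D.F_τ, ← h.tau, h.comm])

theorem sg_of_comm {A : Matrix D.R D.R ℤ} (hA : A.det ≠ 0) {w w' : D.W} (h : D.Wm w' * A = A * D.Wm w) :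
    sg D w' = sg D w := by
  have := congrArg det h
  rw [det_mul, det_mul, mul_comm] at this
  rw [sg, sg, mul_left_cancel₀ hA this]

theorem sg_simple (i : D.I) : sg D (D.cs.simple i) = -1 := by
  have h := wt_dot_cor D (Tits.Roots.sr i) (Tits.Roots.isRoot_sr D.cs D.h i)
  rw [cp, Nodes.Coroot.cpr_self _ _ (Tits.Roots.isRoot_sr D.cs D.h i), D.cor_sr] at h
  rw [sg, D.Wm_simple, sub_eq_add_neg, ← neg_vecMulVec, vecMulVec_eq Unit, det_one_add_replicateCol_mul_replicateRow,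
    dotProduct_neg, h]
  norm_num

open Classical in
/-- the multiplicities of the uniform almost characters of the label `1` -/
theorem ip_avg_top {φ : D.W → ℂ} (hφ : ∀ v w, φ (v⁻¹ * w * D.Fw v) = φ w) (w : D.W) (c : Lbl D) :
    classInner (avg f ⊤ φ 1 1) (RW f w c) = if c = 1 then φ w else 0 := by
  have := Fintype.ofFinite D.W
  have h1 : avg f ⊤ φ 1 1 = (Nat.card D.W : ℂ)⁻¹ • ∑ u, φ u • RW f u 1 := funext fun g => by
    rw [avg_top, finsum_eq_sum_of_fintype, Pi.smul_apply, Finset.sum_apply]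
    rfl
  rw [h1, classInner_smul_left, classInner_sum_left]
  simp only [classInner_smul_left]
  split_ifs with hc
  · subst hc
    have h2 := sum_fib (fun v : D.W => v⁻¹ * w * D.Fw v) φ
    simp only [hφ, Finset.sum_const, Finset.card_univ, nsmul_eq_mul, ← Nat.card_eq_fintype_card] at h2
    rw [inv_mul_eq_iff_eq_mul₀ card_ne_zero_complex, h2]
    refine Finset.sum_congr rfl fun u _ => ?_
    rw [RW_ip f (fx_one u) (fx_one w), mul_comm]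
    congr 2
    refine Nat.card_congr (Equiv.subtypeEquivRight fun v => ?_)
    rw [and_iff_left (show Rel D v 1 1 from fun x => by rw [map_one, map_one]), Tc, mul_assoc, inv_mul_eq_iff_eq_mul]
  · rw [Finset.sum_eq_zero, mul_zero]
    intro u _
    rw [by_contra fun h => let ⟨_, _, _, _, h3⟩ := rel_of_ne h; hc (eq_one_of_rel h3), mul_zero]

open Classical in
theorem ip_st (w : D.W) (c : Lbl D) :
    classInner (avg f ⊤ (sg D) 1 1) (RW f w c) = if c = 1 then sg D w else 0 :=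
  ip_avg_top (fun v w => by rw [sg_mul, sg_Fw, sg_mul, mul_right_comm, ← sg_mul, inv_mul_cancel, sg_one, one_mul]) w c

open Classical in
theorem ip_one (w : D.W) (c : Lbl D) : classInner (fun _ => 1) (RW f w c) = if c = 1 then 1 else 0 := by
  rw [← avg_one f]
  exact ip_avg_top (fun _ _ => rfl) w c

/-! ## small things -/

theorem eq_one_of_pow_one {H : Type} [Group H] {l : H →* ℂˣ} (h : l ^ 1 = 1) : l = 1 :=
  MonoidHom.ext fun g => (pow_one (l g)).symm.trans (DFunLike.congr_fun h g)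

theorem Sit.comm1 (x y : ↥(GF F G)) : x * y * x⁻¹ * y⁻¹ ∈ s.H1 := s.comm x x.2 y y.2

theorem Sit.normal : s.H1.Normal := ⟨fun n hn g => by
  have := s.H1.mul_mem (s.comm1 g n) hn
  rwa [inv_mul_cancel_right] at this⟩

theorem Sit.conj_mem {g h : Y} (hg : g ∈ GF F G) (hh : h ∈ s.H0) : g * h * g⁻¹ ∈ s.H0 :=
  s.normal.conj_mem ⟨h, s.le hh⟩ hh ⟨g, hg⟩

theorem Sit.finiteH : Finite ↥s.H0 := Finite.of_injective _ (Subgroup.inclusion_injective s.le)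

include s in
theorem Sit.finite : Finite S := have := s.finiteH; Finite.of_surjective _ s.surj

/-- `π` on `H1` -/
def Sit.π1 : ↥s.H1 →* S := s.π.comp (Subgroup.subgroupOfEquivOfLe s.le).toMonoidHom

theorem Sit.π1_apply (n : ↥s.H1) : s.π1 n = s.π ⟨n.1, n.2⟩ := rfl

theorem Sit.π1_surj : Function.Surjective s.π1 := s.surj.comp (Subgroup.subgroupOfEquivOfLe s.le).surjective

theorem Sit.π1_cen (z : ↥s.H1) (hz : s.π1 z = 1) (g : ↥(GF F G)) : g * z = z * g :=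
  Subtype.ext ((s.ker _).1 hz g g.2.1)

theorem Sit.dn_iff {χ : ↥(GF F G) → ℂ} {ψ : S → ℂ} : s.Dn χ ψ ↔ ∀ n : ↥s.H1, χ n = ψ (s.π1 n) :=
  ⟨fun h n => (h ⟨n.1, n.2⟩).symm, fun h n => (h ⟨⟨n, s.le n.2⟩, n.2⟩).symm⟩

theorem Sit.ov_iff : s.Ov χ ψ ↔ Red.Over s.H1 χ (Res.pull s.π1 s.π1_surj ψ) := by
  have := Fintype.ofFinite ↥s.H1
  rw [Res.over_iff, classInner_def, mul_ne_zero_iff_left (inv_ne_zero card_ne_zero_complex), Sit.Ov,
    ← finsum_comp_equiv (Subgroup.subgroupOfEquivOfLe s.le).toEquiv, finsum_eq_sum_of_fintype]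
  rfl

theorem Sit.lin_iff {l : ↥(GF F G) →* ℂˣ} : (∀ h : ↥s.H0, l ⟨h, s.le h.2⟩ = 1) ↔ ∀ n ∈ s.H1, l n = 1 :=
  ⟨fun h n hn => h ⟨n, hn⟩, fun h n => h _ n.2⟩

theorem Sit.ker_mem {z : ↥s.H0} (hz : s.π z = 1) (w : D.W) : (z : Y) ∈ Lie.Tw D w ⊓ GF F G :=
  ⟨central_mem (s.le z.2).1 ((s.ker z).1 hz) (yw_mem D w), s.le z.2⟩

theorem Sit.zw_iff {w : D.W} {c : Lbl D} (hc : Fx D w c) :
    s.Zw f w c ↔ ∀ z : ↥s.H0, s.π z = 1 → th f w c z = 1 := by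
  refine forall₂_congr fun z hz => ?_
  have h1 : ∀ g : ↥(GF F G), RW f w c (⟨z, s.le z.2⟩ * g) = th f w c z * RW f w c g := fun g =>
    R_central (s.ker_mem hz w) ((s.ker z).1 hz) (th_spec f hc).1 g.2.1
  simp only [h1]
  refine ⟨fun h => by_contra fun h2 => RW_ne (f := f) hc ?_, fun h g => by rw [h, one_mul]⟩
  rw [show RW f w c = 0 from funext fun g => (mul_left_eq_self₀.1 (h g)).resolve_left h2, classInner_zero_left]

theorem Sit.Z1.zw {s : Sit D Adm S} {c : Lbl D} (h : s.Z1 f c) (w : D.W) : s.Zw f w c := fun z hz => h z hz w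

theorem SylC.autC {w₀ : D.W} (h : SylC D w₀) : AutC D w₀ := fun w h1 h2 => by_contra fun h3 => by
  have := h w (not_exists.1 h3)
  rw [h1, h2] at this
  exact lt_irrefl _ this

theorem Sit.Zw.mul {s : Sit D Adm S} {w : D.W} {c c' : Lbl D} (h : s.Zw f w c) (h' : s.Zw f w c') (hc : Fx D w c)
    (hc' : Fx D w c') : s.Zw f w (c * c') :=
  (s.zw_iff (fx_mul hc hc')).2 fun z hz => by
    rw [th_mul hc hc' _ (s.ker_mem hz w), (s.zw_iff hc).1 h z hz, (s.zw_iff hc').1 h' z hz, one_mul]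

theorem Sit.Zw.inv {s : Sit D Adm S} {w : D.W} {c : Lbl D} (h : s.Zw f w c) (hc : Fx D w c) : s.Zw f w c⁻¹ :=
  (s.zw_iff (fx_inv hc)).2 fun z hz => by
    have := th_mul (f := f) hc (fx_inv hc) _ (s.ker_mem hz w)
    rw [mul_inv_cancel, th_one w _ (s.ker_mem hz w), (s.zw_iff hc).1 h z hz, one_mul] at this
    exact this.symm

theorem Sit.z1_one : s.Z1 f 1 := fun z hz w =>
  RW_cen' f ⟨z, s.le z.2⟩ ((s.ker z).1 hz) w 1 1 (one_pow 1) (Nat.coprime_one_left _)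

/-- labels of `3`-power order, kernel of order prime to `3` -/
theorem Sit.z1_of_is3 (hA : Api f) (h : ¬ 3 ∣ Nat.card ↥s.π.ker) {c : Lbl D} (hc : Is3 D c) : s.Z1 f c := by
  intro z hz w
  obtain ⟨j, hj⟩ := hc
  refine hA.cen' ⟨z, s.le z.2⟩ ((s.ker z).1 hz) w c _ hj (Nat.Coprime.pow_left j
    ((Nat.Prime.coprime_iff_not_dvd Nat.prime_three).2 fun h3 => h (h3.trans ?_)))
  rw [← Subgroup.orderOf_coe, Subgroup.orderOf_coe z]
  exact s.π.ker.orderOf_dvd_natCard hz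

/-- the label of a linear character of `G ^ F / H0` -/
theorem Sit.exists_lbl (hA : Api f) {l : ↥(GF F G) →* ℂˣ} (hl : ∀ h : ↥s.H0, l ⟨h, s.le h.2⟩ = 1) :
    ∃ cl : Lbl D, s.Tw f cl ∧ (∀ u, Rel D u cl cl) ∧ (∀ w, Fx D w cl) ∧ (∀ n : ℕ, l ^ n = 1 ↔ cl ^ n = 1) ∧
      ∀ w c g, RW f w (c * cl) g = l g * RW f w c g := by
  obtain ⟨cl, h1, h2, h3, h4⟩ := hA.lin l fun u hu => hl ⟨u, s.uni u u.2 hu⟩
  exact ⟨cl, ⟨l, hl, h4⟩, h1, h2, h3, h4⟩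

theorem Sit.Tw.props {s : Sit D Adm S} (hA : Api f) {cl : Lbl D} (h : s.Tw f cl) :
    (∀ u, Rel D u cl cl) ∧ (∀ w, Fx D w cl) ∧ cl ^ s.H1.index = 1 ∧ s.Z1 f cl := by
  have := s.normal
  obtain ⟨l, hl, h⟩ := h
  obtain ⟨cl', -, h1, h2, h3, h4⟩ := s.exists_lbl hA hl
  have h5 : RW f 1 cl' = RW f 1 cl := funext fun g => by rw [← one_mul cl', ← one_mul cl, h, h4]
  have h6 := RW_ne (f := f) (h2 1)
  nth_rw 2 [h5] at h6
  obtain ⟨-, -, v, -, h7⟩ := rel_of_ne h6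
  obtain rfl := eq_of_rel h7 (h1 v)
  refine ⟨h1, h2, (h3 _).1 (MonoidHom.ext fun g => Res.lin_pow ⟨l, s.lin_iff.1 hl⟩ g), fun z hz w g => ?_⟩
  rw [← one_mul cl, h, h, map_mul, hl, one_mul, s.z1_one z hz]

theorem Sit.tw_one : s.Tw f 1 := ⟨1, fun _ => rfl, fun w c g => by simp⟩

theorem Sit.Tw.mul {s : Sit D Adm S} {cl cl' : Lbl D} (h : s.Tw f cl) (h' : s.Tw f cl') : s.Tw f (cl * cl') :=
  let ⟨l, h1, h2⟩ := h
  let ⟨l', h1', h2'⟩ := h'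
  ⟨l' * l, fun x => by rw [MonoidHom.mul_apply, h1, h1', one_mul], fun w c g => by
    rw [← mul_assoc, h2', h2, MonoidHom.mul_apply, Units.val_mul, mul_assoc]⟩

theorem Sit.Tw.inv {s : Sit D Adm S} {cl : Lbl D} (h : s.Tw f cl) : s.Tw f cl⁻¹ :=
  let ⟨l, h1, h2⟩ := h
  ⟨l⁻¹, fun x => by rw [MonoidHom.inv_apply, h1, inv_one], fun w c g => by
    rw [MonoidHom.inv_apply, ← inv_mul_cancel_right c cl, h2, mul_inv_cancel_right, Units.inv_mul_cancel_left]⟩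

theorem Sit.Zw.twist {s : Sit D Adm S} {w : D.W} {c cl : Lbl D} (h : s.Zw f w c) (h' : s.Tw f cl) :
    s.Zw f w (c * cl) := fun z hz g => by
  obtain ⟨l, h1, h2⟩ := h'
  rw [h2, h2, map_mul, h1, one_mul, h z hz]

/-- a criterion for `Cop.idx` -/
theorem Sit.idx_of_lbl (hA : Api f)
    (h : ∀ cl : Lbl D, (∀ u, Rel D u cl cl) → Fx D 1 cl → cl ^ 3 = 1 → cl = 1) : ¬ 3 ∣ s.H1.index := fun h3 => by
  have := s.normal
  have : Fact (Nat.Prime 3) := ⟨Nat.prime_three⟩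
  let K : Subgroup (↥(GF F G) →* ℂˣ) :=
    { carrier := {l | ∀ n ∈ s.H1, l n = 1}
      one_mem' := fun _ _ => rfl
      mul_mem' := fun ha hb n hn => by rw [MonoidHom.mul_apply, ha n hn, hb n hn, one_mul]
      inv_mem' := fun ha n hn => by rw [MonoidHom.inv_apply, ha n hn, inv_one] }
  have h1 : Nat.card ↥K = s.H1.index := Res.card_lin s.comm1
  have : Finite ↥K := Nat.finite_of_card_ne_zero (h1 ▸ Subgroup.index_ne_zero_of_finite)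
  obtain ⟨l, hl⟩ := exists_prime_orderOf_dvd_card' (G := ↥K) 3 (h1 ▸ h3)
  obtain ⟨cl, -, h2, h4, h5, -⟩ := s.exists_lbl hA (s.lin_iff.2 l.2)
  rw [← Subgroup.orderOf_coe] at hl
  have h6 := (h5 1).2 (by rw [h cl h2 (h4 1) ((h5 3).1 (hl ▸ pow_orderOf_eq_one _)), one_pow])
  rw [eq_one_of_pow_one h6, orderOf_one] at hl
  exact absurd hl (by decide)

/-- a criterion for `Cop.ker` -/
theorem Sit.ker_of_tor
    (h : ∀ t : D.R → kˣ, (∀ a, D.Rt a → chr (D.wt a) t = 1) → mon D.Mx t = t → t ^ 3 = 1 → t = 1) :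
    ¬ 3 ∣ Nat.card ↥s.π.ker := fun h3 => by
  have : Fact (Nat.Prime 3) := ⟨Nat.prime_three⟩
  have := s.finiteH
  obtain ⟨⟨z, hz⟩, h1⟩ := exists_prime_orderOf_dvd_card' (G := ↥s.π.ker) 3 h3
  rw [← Subgroup.orderOf_coe, ← Subgroup.orderOf_coe] at h1
  have h2 := (s.ker z).1 hz
  have h4 := central_mem (D := D) (s.le z.2).1 h2 G.one_mem
  rw [cj_one] at h4
  obtain ⟨t, ht⟩ := (D.mem_T _).1 h4
  have h5 := h t (fun a ha => Units.ext ?_) (D.τ_inj (by rw [← D.F_τ, ht, (mem_GF.1 (s.le z.2)).2]))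
    (D.τ_inj (by rw [map_pow, map_one, ht, ← h1]; exact pow_orderOf_eq_one _))
  · rw [h5, map_one] at ht
    change orderOf (z : Y) = 3 at h1
    rw [← ht, orderOf_one] at h1
    exact absurd h1 (by decide)
  · have h6 := D.tor a ha t 1
    rw [ht, ← h2 _ (D.X_le_G ha (D.x_mem ha 1)), mul_inv_cancel_right] at h6
    simpa using (D.x_inj a ha h6).symm

theorem Sit.Dn.ov {s : Sit D Adm S} (h : s.Dn χ ψ) : s.Ov χ ψ :=
  have := s.normal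
  s.ov_iff.2 (Res.over_of_res (s.dn_iff.1 h))

theorem Sit.Dn.unique {s : Sit D Adm S} {χ : ↥(GF F G) → ℂ} {ψ ψ' : S → ℂ} (h : s.Dn χ ψ) (h' : s.Dn χ ψ') : ψ = ψ' :=
  funext fun x => by
    obtain ⟨y, rfl⟩ := s.surj x
    rw [h, h']

theorem Sit.Dn.deg {s : Sit D Adm S} (h : s.Dn χ ψ) : charDegree (ψ : S → ℂ) = charDegree (χ : ↥(GF F G) → ℂ) :=
  Res.deg_eq (by rw [← map_one s.π, h]; rfl)

theorem Sit.dn_triv [Finite S] : s.Dn (fun _ => 1) (Tool.triv S) := fun _ => rfl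

/-! ## D1 -/

/-- a member over it -/
theorem Sit.Ov.mem {s : Sit D Adm S} (hM : IsPModular 3 M) (h : s.Ov χ ψ) (hχ : Mem M χ) : Mem M ψ :=
  have := s.normal
  DGen.mem_of_central hM s.π1 s.π1_surj (fun z hz g => Subtype.ext (s.π1_cen z hz g))
    (Res.mem_under hM hχ (s.ov_iff.1 h))

theorem Sit.desc (hM : IsPModular 3 M) (hχ : Mem M χ)
    (hz : ∀ z : ↥s.H0, s.π z = 1 → χ.1 ⟨z, s.le z.2⟩ = χ.1 1)
    (ht : ∀ l : ↥(GF F G) →* ℂˣ, (∀ h : ↥s.H0, l ⟨h, s.le h.2⟩ = 1) → (∀ g, l g * χ.1 g = χ.1 g) → l = 1) :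
    ∃ ψ : IrrCharacter S, Mem M ψ ∧ s.Dn χ ψ := by
  have := s.normal
  obtain ⟨θ, h1⟩ := DGen.exists_res_of s.comm1 (χ := χ) fun l hl => ht l (s.lin_iff.2 hl)
  obtain ⟨ψ, rfl⟩ := DGen.exists_push s.π1 s.π1_surj (θ := θ) fun z h => by
    rw [← h1, ← h1]
    exact hz ⟨z.1, z.2⟩ h
  exact ⟨ψ, (s.dn_iff.2 h1).ov.mem hM hχ, s.dn_iff.2 h1⟩

theorem irr_cen {H : Type} [Group H] [Finite H] (χ : IrrCharacter H) {z : H} (hc : ∀ h, h * z = z * h) (g : H) :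
    χ.1 (z * g) = χ.1 z / χ.1 1 * χ.1 g :=
  irr_central (H := ⊤) (χ := χ.1) (isIrr_comp (⊤ : Subgroup H).subtype (fun x => ⟨⟨x, trivial⟩, rfl⟩) χ.2) trivial
    (fun h _ => hc h) trivial

/-- a constituent of a character which is trivial on the kernel is trivial on the kernel -/
theorem Sit.ker_of_zw {w : D.W} {c : Lbl D} (hne : classInner χ.1 (RW f w c) ≠ 0) (hz : s.Zw f w c) (z : ↥s.H0)
    (h : s.π z = 1) : χ.1 ⟨z, s.le z.2⟩ = χ.1 1 := by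
  have h1 : classInner χ.1 (RW f w c) = χ.1 ⟨z, s.le z.2⟩ / χ.1 1 * classInner χ.1 (RW f w c) := by
    rw [classInner_def, mul_left_comm, Finset.mul_sum _ _ (_ / _), ← Equiv.sum_comp (Equiv.mulLeft ⟨z, s.le z.2⟩)]
    refine congrArg _ (Finset.sum_congr rfl fun g _ => ?_)
    rw [Equiv.coe_mulLeft, hz z h, irr_cen χ (fun g => Subtype.ext ((s.ker z).1 h g g.2.1)), mul_assoc]
  exact (div_eq_one_iff_eq (isIrr_apply_one_ne_zero χ.2)).1 ((mul_eq_right₀ hne).1 h1.symm)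

theorem ip_twist {l : ↥(GF F G) →* ℂˣ} {cl : Lbl D} (h : ∀ w c g, RW f w (c * cl) g = l g * RW f w c g)
    {χ χ' : ↥(GF F G) → ℂ} (e : ∀ g, χ' g = l g * χ g) (w : D.W) (c : Lbl D) :
    classInner χ' (RW f w (c * cl)) = classInner χ (RW f w c) := by
  rw [funext e, funext (h w c)]
  exact classInner_linear_mul l χ _

/-- on labels -/
theorem Sit.desc_lbl (hA : Api f) (hM : IsPModular 3 M) (hχ : Mem M χ) {w : D.W} {c : Lbl D}
    (hne : classInner χ.1 (RW f w c) ≠ 0) (hz : s.Zw f w c)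
    (ht : ∀ cl, s.Tw f cl → classInner χ.1 (RW f w (c * cl)) ≠ 0 → cl = 1) :
    ∃ ψ : IrrCharacter S, Mem M ψ ∧ s.Dn χ ψ :=
  s.desc hM hχ (s.ker_of_zw hne hz) fun l hl h => by
    obtain ⟨cl, h1, -, -, h2, h3⟩ := s.exists_lbl hA hl
    exact eq_one_of_pow_one ((h2 1).2 (by rw [ht cl h1 (by rwa [ip_twist h3 fun g => (h g).symm]), one_pow]))

/-! ## D2 -/

theorem Sit.exists_aut (σ : MulAut S) : ∃ α A, ∃ h : Au D α A, Adm A ∧
    (∀ (χ : IrrCharacter ↥(GF F G)) (ψ : S → ℂ), s.Dn χ ψ → s.Dn (fun g => χ.1 (h.aut g)) fun x => ψ (σ x)) ∧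
    ∀ (χ : IrrCharacter ↥(GF F G)) (ψ : S → ℂ), s.Ov χ ψ → s.Ov (fun g => χ.1 (h.aut g)) fun x => ψ (σ x) := by
  obtain ⟨g, hg, α, A, h, hA, h1⟩ := s.aut σ
  choose b h1 h2 using h1
  have h3 : ∀ (χ : IrrCharacter ↥(GF F G)) (x : ↥s.H0), χ.1 (h.aut ⟨x, s.le x.2⟩) = χ.1 ⟨b x, s.le (b x).2⟩ :=
    fun χ x => by
      rw [← isIrr_isClassFunction χ.2 _ ⟨g, hg⟩]
      exact congrArg _ (Subtype.ext (h1 x).symm)
  refine ⟨α, A, h, hA, fun χ ψ hd x => ?_, fun χ ψ ho => ?_⟩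
  · show ψ (σ (s.π x)) = χ.1 _
    rw [← h2, hd, h3]
  · have := s.finiteH
    have h4 : Function.Bijective b := Finite.injective_iff_bijective.1 fun x y e => Subtype.ext (α.injective (by
      have := (h1 x).symm.trans ((congrArg Subtype.val e).trans (h1 y))
      simpa using this))
    rw [Sit.Ov, ← finsum_comp_equiv (Equiv.ofBijective b h4)] at ho
    simp only [Sit.Ov, h3, ← h2]
    exact ho

theorem Sit.Ov.twist {s : Sit D Adm S} (h : s.Ov χ ψ) (h' : s.Ov χ' ψ) : ∃ l : ↥(GF F G) →* ℂˣ,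
    (∀ h : ↥s.H0, l ⟨h, s.le h.2⟩ = 1) ∧ ∀ g, χ'.1 g = l g * χ.1 g :=
  have := s.normal
  let ⟨l, h1, h2⟩ := DGen.twist s.comm1 (s.ov_iff.1 h) (s.ov_iff.1 h')
  ⟨l, s.lin_iff.2 h1, h2⟩

theorem ip_aut (hA : Api f) {α : MulAut Y} {A : Matrix D.R D.R ℤ} (h : Au D α A) (χ : ↥(GF F G) → ℂ) {w w' : D.W}
    {c c' : Lbl D} (h1 : D.Wm w' * A = A * D.Wm w) (h2 : Tr D A c c') (h3 : Fx D w' c') :
    classInner χ (RW f w' c') = classInner (fun g => χ (h.aut g)) (RW f w c) := by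
  rw [← Characters.Clifford.classInner_comp_mulEquiv h.aut]
  exact congrArg _ (funext fun g => ((hA.aut α A h).2 w w' c c' h1 h2 h3).2 g _ rfl)

theorem Sit.Ov.mv {s : Sit D Adm S} (hA : Api f) (h : s.Ov χ ψ) (h' : s.Ov χ' ψ') {σ : MulAut S}
    (e : ∀ x, (ψ : S → ℂ) (σ x) = (ψ' : S → ℂ) x) :
    ∃ α A cl, Au D α A ∧ Adm A ∧ s.Tw f cl ∧ Mv f A cl χ χ' := by
  obtain ⟨α, A, h1, h2, -, h3⟩ := s.exists_aut σ
  have h4 := h3 χ ψ h
  rw [funext e] at h4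
  obtain ⟨l, h5, h6⟩ := Sit.Ov.twist (χ := Res.tr h1.aut χ) h4 h'
  obtain ⟨cl, h7, -, -, -, h8⟩ := s.exists_lbl hA h5
  exact ⟨α, A, cl, h1, h2, h7, fun w w' c c' e1 e2 e3 => (ip_aut hA h1 _ e1 e2 e3).trans (ip_twist h8 h6 w c).symm⟩

theorem Sit.Ov.apart {s : Sit D Adm S} (hA : Api f) (h : s.Ov χ ψ) (h' : s.Ov χ' ψ')
    (hn : ∀ α A cl, Au D α A → Adm A → s.Tw f cl → ¬ Mv f A cl χ χ') : Apart ψ ψ' := fun _ e =>
  let ⟨α, A, cl, h1, h2, h3, h4⟩ := h.mv hA h' e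
  hn α A cl h1 h2 h3 h4

/-- distinct characters of `S` (the trivial automorphism) -/
theorem Sit.Ov.ne {s : Sit D Adm S} (hA : Api f) (h : s.Ov χ ψ) (h' : s.Ov χ' ψ')
    (hn : ∀ cl, s.Tw f cl → ∃ w c, classInner χ.1 (RW f w c) ≠ classInner χ'.1 (RW f w (c * cl))) :
    ψ ≠ ψ' := by
  rintro rfl
  obtain ⟨l, h1, h2⟩ := h.twist h'
  obtain ⟨cl, h3, -, -, -, h4⟩ := s.exists_lbl hA h1
  obtain ⟨w, c, h5⟩ := hn cl h3
  exact h5 (ip_twist h4 h2 w c).symm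

theorem Sit.Dn.fixes {s : Sit D Adm S} (h : s.Dn χ ψ)
    (hf : ∀ α A (h : Au D α A), Adm A → ∀ g, χ.1 (h.aut g) = χ.1 g) (σ : MulAut S) : Fixes σ ψ := by
  obtain ⟨α, A, h1, h2, h3, -⟩ := s.exists_aut σ
  have h4 := h3 χ ψ h
  rw [funext (hf α A h1 h2)] at h4
  exact congrFun (h4.unique h)

/-- at most two conjugates: fixed by the automorphisms of odd order -/
theorem Sit.Dn.fixes_odd {s : Sit D Adm S} (h : s.Dn χ ψ) (χ' : ↥(GF F G) → ℂ)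
    (hf : ∀ α A (h : Au D α A), Adm A → (∀ x : ↥s.H0, χ.1 (h.aut ⟨x, s.le x.2⟩) = χ.1 ⟨x, s.le x.2⟩) ∨
      ∀ x : ↥s.H0, χ.1 (h.aut ⟨x, s.le x.2⟩) = χ' ⟨x, s.le x.2⟩)
    {σ : MulAut S} (hσ : Odd (orderOf σ)) : Fixes σ ψ := by
  refine DGen.fixes_odd (fun x => χ' ⟨(s.surj x).choose, s.le (s.surj x).choose.2⟩) (fun τ => ?_) hσ
  obtain ⟨α, A, h1, h2, h3, -⟩ := s.exists_aut τ
  refine (hf α A h1 h2).imp (fun h4 x => ?_) fun h4 x => ?_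
  · obtain ⟨y, rfl⟩ := s.surj x
    rw [h y, ← h4]
    exact h3 χ ψ h y
  · rw [← h4]
    exact (congrArg (fun y => ψ.1 (τ y)) (s.surj x).choose_spec.symm).trans (h3 χ ψ h _)

/-- Galois action -/
theorem Sit.Dn.gal {s : Sit D Adm S} {χ : ↥(GF F G) → ℂ} {ψ : S → ℂ} (h : s.Dn χ ψ) (τ : ℂ ≃+* ℂ) :
    s.Dn (fun g => τ (χ g)) fun x => τ (ψ x) := fun x => congrArg τ (h x)

/-! ## D3 -/

theorem Sit.split3 (hz : ∀ z : ↥s.H0, s.π z = 1 → χ.1 ⟨z, s.le z.2⟩ = χ.1 1)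
    (h3 : Nat.card {l : ↥(GF F G) →* ℂˣ //
      (∀ h : ↥s.H0, l ⟨h, s.le h.2⟩ = 1) ∧ ∀ g, l g * χ.1 g = χ.1 g} = 3) :
    ∃ ψ : Fin 3 → IrrCharacter S, Function.Injective ψ ∧
      (∀ h : ↥s.H0, χ.1 ⟨h, s.le h.2⟩ = ∑ i, (ψ i : S → ℂ) (s.π h)) ∧
      ∀ i, s.Ov χ (ψ i) ∧ 3 * charDegree (ψ i : S → ℂ) = charDegree (χ : ↥(GF F G) → ℂ) := by
  have := s.normal
  simp only [s.lin_iff] at h3
  obtain ⟨θ, h1, h2, h4⟩ := DGen.split3 s.comm1 h3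
  have h5 : ∀ i, ∃ ψ, θ i = Res.pull s.π1 s.π1_surj ψ := fun i => DGen.exists_push _ _ fun z h => by
    have := Fintype.ofFinite ↥s.H1
    have h6 := Res.over_iff.1 (h4 i).1
    have h7 : ∀ g : ↥s.H1, χ.1 ((z * g : ↥s.H1) : ↥(GF F G)) = χ.1 g := fun g => by
      rw [Subgroup.coe_mul, irr_cen χ (s.π1_cen z h), show χ.1 z = χ.1 1 from hz ⟨z.1, z.2⟩ h,
        div_self (isIrr_apply_one_ne_zero χ.2), one_mul]
    rw [← classInner_conj_symm, map_ne_zero] at h6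
    have h8 : classInner (θ i).1 (fun n : ↥s.H1 => χ.1 n) =
        (θ i).1 z / (θ i).1 1 * classInner (θ i).1 (fun n : ↥s.H1 => χ.1 n) := by
      rw [classInner_def, mul_left_comm, Finset.mul_sum _ _ (_ / _), ← Equiv.sum_comp (Equiv.mulLeft z)]
      refine congrArg _ (Finset.sum_congr rfl fun g _ => ?_)
      rw [Equiv.coe_mulLeft, h7, irr_cen (θ i) (fun g => Subtype.ext (s.π1_cen z h g)), mul_assoc]
    exact (div_eq_one_iff_eq (isIrr_apply_one_ne_zero (θ i).2)).1 ((mul_eq_right₀ h6).1 h8.symm)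
  choose ψ hψ using h5
  refine ⟨ψ, fun i j e => h1 (by rw [hψ, hψ, e]), fun h => ?_, fun i => ⟨s.ov_iff.2 (hψ i ▸ (h4 i).1), ?_⟩⟩
  · refine (h2 ⟨⟨h, s.le h.2⟩, h.2⟩).trans (Finset.sum_congr rfl fun i _ => ?_)
    rw [hψ]
    rfl
  · rw [← (h4 i).2, hψ, Res.pull_deg]

/-! ## D4 -/

theorem st_aut (hA : Api f) {α : MulAut Y} {A : Matrix D.R D.R ℤ} (h : Au D α A) (g : ↥(GF F G)) :
    avg f ⊤ (sg D) 1 1 (h.aut g) = avg f ⊤ (sg D) 1 1 g := by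
  obtain ⟨⟨a, ha⟩, h1⟩ := hA.aut α A h
  rw [avg_top, avg_top, ← finsum_comp_equiv a.toEquiv]
  refine congrArg _ (finsum_congr fun w => ?_)
  show sg D (a w) * RW f (a w) 1 _ = _
  rw [sg_of_comm h.det_ne (ha w), (h1 w (a w) 1 1 (ha w) (fun v => by rw [map_one, map_one]) (fx_one _)).2 g _ rfl]

theorem mS_st (w₀ : D.W) : mS f w₀ (avg f ⊤ (sg D) 1 1) = ((D.Wm w₀).det : ℤ) := by
  classical
  rw [mS, finsum_eq_single _ (1 : Lbl D) fun c hc => by simp [ip_st, hc]]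
  rw [finsum_eq_if, if_pos ⟨0, one_pow _⟩, ip_st, if_pos rfl, sg]

include s in
theorem Sit.exists_root (hS : ¬ IsMulCommutative S) : Nonempty D.I := by
  by_contra h
  refine hS ⟨⟨fun a b => ?_⟩⟩
  obtain ⟨a, rfl⟩ := s.surj a
  obtain ⟨b, rfl⟩ := s.surj b
  have h1 : G ≤ D.T := D.G_eq.ge.trans (sup_le le_rfl (Nodes.BNOf.RGD.Sup_le fun _ ⟨_, i, _⟩ => absurd ⟨i⟩ h))
  rw [← map_mul, ← map_mul]
  exact congrArg _ (Subtype.ext (D.T_comm (h1 (s.le a.2).1) (h1 (s.le b.2).1)))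

theorem Sit.exists_st (hA : Api f) {w₀ : D.W} (hC : Mc f w₀) (hp : p ≠ 3) (hM : IsPModular 3 M)
    (hS : ¬ IsMulCommutative S) : ∃ st : IrrCharacter S, Mem M st ∧ Nontriv st ∧ (∀ σ, Fixes σ st) ∧
      s.Dn (avg f ⊤ (sg D) 1 1) st := by
  classical
  have := s.finite
  let St : IrrCharacter ↥(GF F G) := ⟨_, hA.st.1⟩
  have h0 : ∀ w c, classInner St.1 (RW f w c) ≠ 0 → c = 1 := fun w c h => by_contra fun h1 => h (by
    rw [ip_st, if_neg h1])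
  have h1 : Mem M St := (hC.can M hM St (fun c h => by rw [h0 _ c h]; exact ⟨0, one_pow _⟩) _ (mS_st w₀)).2 fun h => by
    have := Int.natAbs_dvd_natAbs.2 h
    rw [natAbs_det_Wm] at this
    exact absurd this (by decide)
  obtain ⟨st, h2, h3⟩ := s.desc_lbl hA hM h1 (w := 1) (c := 1) (by rw [ip_st, if_pos rfl, sg_one]; exact one_ne_zero)
    (s.z1_one.zw 1) fun cl _ h => by simpa using h0 _ _ h
  refine ⟨st, h2, Tool.nontriv_iff.2 (h3.ov.ne hA (χ' := Tool.triv _) s.dn_triv.ov fun cl _ => ?_),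
    h3.fixes fun α A h _ => st_aut hA h, h3⟩
  obtain ⟨i⟩ := s.exists_root hS
  refine ⟨D.cs.simple i, 1, ?_⟩
  rw [ip_st, if_pos rfl, sg_simple, show (Tool.triv ↥(GF F G)).1 = fun _ => 1 from rfl, ip_one]
  split_ifs <;> norm_num

include s in
theorem Sit.one (hA : Api f) {w₀ : D.W} (hC : Mc f w₀) (hp : p ≠ 3) (hM : IsPModular 3 M)
    (hS : ¬ IsMulCommutative S) : One M S :=
  let ⟨st, h1, h2, h3, _⟩ := s.exists_st hA hC hp hM hS
  ⟨st, h1, h2, h3⟩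

end Cfsg.Agent.KZ.Lie
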