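import Cfsg.Agent.KZ.Lie.LocA

/-!
# KZ: the normaliser of the Sylow torus in an almost simple group (helper61)

`exists_loc : Nonempty (Loc2 f s w₀ A N₀ P)`.
-/

set_option autoImplicit false
set_option linter.unusedSectionVars false

namespace Cfsg.Agent.KZ.Lie

open Cfsg Cfsg.Agent.DL Cfsg.Agent.DL.PP Cfsg.Agent.DL.Uni Cfsg.Agent.DL.Asm Cfsg.Agent.Nodes.Reps Matrix
  Cfsg.Agent.Characters.Core

/-! ## group theory -/

section Gen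

variable {H B : Type} [Group H] [Group B]

theorem exists_lin_of_sup {N : Subgroup H} [N.Normal] (j : B →* H) (hs : ∀ g, ∃ n ∈ N, ∃ b, n * j b = g)
    (θ : B →* ℂˣ) (hθ : ∀ b, j b ∈ N → θ b = 1) : ∃ l : H →* ℂˣ, (∀ n ∈ N, l n = 1) ∧ ∀ b, l (j b) = θ b := by
  have h1 : Function.Surjective ((QuotientGroup.mk' N).comp j) := fun x => by
    obtain ⟨g, rfl⟩ := QuotientGroup.mk'_surjective N x
    obtain ⟨n, hn, b, rfl⟩ := hs g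
    exact ⟨b, by rw [map_mul, show QuotientGroup.mk' N n = 1 from (QuotientGroup.eq_one_iff n).2 hn, one_mul]; rfl⟩
  refine ⟨(MonoidHom.liftOfSurjective _ h1 ⟨θ, fun b hb => hθ b ((QuotientGroup.eq_one_iff _).1 hb)⟩).comp
    (QuotientGroup.mk' N), fun n hn => ?_, fun b =>
      MonoidHom.liftOfRightInverse_comp_apply _ _ (Function.rightInverse_surjInv h1) _ b⟩
  rw [MonoidHom.comp_apply, show QuotientGroup.mk' N n = 1 from (QuotientGroup.eq_one_iff n).2 hn, map_one]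

/-- characters of a subgroup of a finite abelian group extend -/
theorem exists_ext_lin {K L : Subgroup H} [Finite ↥L] (hc : ∀ a ∈ L, ∀ b ∈ L, a * b = b * a) (h : K ≤ L)
    (μ : ↥K →* ℂˣ) : ∃ θ : ↥L →* ℂˣ, ∀ x : ↥K, θ ⟨x, h x.2⟩ = μ x := by
  let _ := commGrp hc
  have : NeZero (Monoid.exponent ↥L) := ⟨Monoid.exponent_ne_zero_of_finite⟩
  obtain ⟨θ, h1⟩ := MonoidHom.domRestrict_surjective ℂ (K.subgroupOf L)
    (μ.comp (Subgroup.subgroupOfEquivOfLe h).toMonoidHom)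
  exact ⟨θ, fun x => DFunLike.congr_fun h1 ⟨⟨x, h x.2⟩, x.2⟩⟩

theorem card_map_mul (φ : H →* B) {K : Subgroup H} (h : φ.ker ≤ K) :
    Nat.card ↥(K.map φ) * Nat.card ↥φ.ker = Nat.card ↥K := by
  rw [← MonoidHom.domRestrict_range, ← Subgroup.index_ker, mul_comm, ← (φ.domRestrict K).ker.card_mul_index,
    MonoidHom.ker_domRestrict, Nat.card_congr (Subgroup.subgroupOfEquivOfLe h).toEquiv]

theorem card_inf_mul {N K : Subgroup H} [N.Normal] (h : N ⊔ K = ⊤) : Nat.card ↥(K ⊓ N) * N.index = Nat.card ↥K := by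
  rw [← Subgroup.relIndex_top_right, ← h, Subgroup.relIndex_sup_left, ← (N.subgroupOf K).card_mul_index,
    ← Subgroup.inf_subgroupOf_left, Nat.card_congr (Subgroup.subgroupOfEquivOfLe inf_le_left).toEquiv,
    Subgroup.inf_subgroupOf_left]
  rfl

end Gen

variable {p : ℕ} [Fact p.Prime] {k : Type} [Field k] [CharP k p] {Y : Type} [Group Y] {N : Type} [Fintype N]
  [DecidableEq N] {ρ : Y →* GL N k} {F : MulAut Y} {G : Subgroup Y} [IsAlgClosed k]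
  {D : Datum p ρ F G} {f : Fr D} [Fintype ↥(GF F G)] {Adm : Matrix D.R D.R ℤ → Prop} {S : Type} [Group S]
  (s : Sit D Adm S) {w₀ : D.W}

/-! ## regularity -/

theorem RegC.root (hR : RegC D w₀) (hp : p ≠ 3) {a : D.I → ℤ} (ha : D.Rt a) : ∃ c : D.R → kˣ,
    yw D w₀ * D.τ c * (yw D w₀)⁻¹ ∈ GF F G ∧ (∃ j : ℕ, c ^ 3 ^ j = 1) ∧ chr (D.wt a) c ≠ 1 := by
  by_contra h0
  have h3 : D.rf a = 1 := hR _ (fun h => absurd (h.trans (orderOf_dvd_of_pow_eq_one (n := 2)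
    (by rw [pow_two, D.rf_mul_self ha]))) (by decide)) fun j x hx i => by
      obtain ⟨ζ, hζ⟩ := exists_prim3 (k := k) hp j
      have h5 : chr (D.wt a) (coch x ζ) = 1 := by_contra fun h => h0 ⟨_,
        (coch_mem hp (yw_mem D w₀) (yw_rp D w₀) hζ hx).1.2, ⟨j, by rw [← map_pow, hζ.pow_eq_one, map_one]⟩, h⟩
      rw [chr_coch, hζ.zpow_eq_one_iff_dvd] at h5
      rw [D.Wm_rf ha, sub_sub_cancel_left, neg_mulVec, vecMulVec_mulVec, Pi.neg_apply, dvd_neg, op_smul_eq_smul,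
        Pi.smul_apply, smul_eq_mul]
      exact Dvd.dvd.mul_right (by exact_mod_cast h5) _
  have h4 := D.act_rf_self ha
  rw [h3, Datum.act, map_one, Module.End.one_apply] at h4
  refine absurd ?_ (D.wt_ne_zero ha)
  rw [show a = 0 from funext fun i => by have := congrFun h4 i; simp only [Pi.neg_apply] at this; simp; omega, map_zero]

variable (w₀) in
/-- no root is trivial on the part of the torus in `H0` -/
def Sit.Reg : Prop :=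
  ∀ a, D.Rt a → ∃ c : D.R → kˣ, yw D w₀ * D.τ c * (yw D w₀)⁻¹ ∈ s.H0 ∧ chr (D.wt a) c ≠ 1

theorem Sit.reg_of (hp : p ≠ 3) (hR : RegC D w₀) (h3 : CW D w₀ = ⊤ ∨ ¬ 3 ∣ s.H1.index) : s.Reg w₀ := fun a ha => by
  have := s.normal
  obtain ⟨c, h1, ⟨j, hj⟩, h2⟩ := hR.root hp ha
  rcases h3 with h3 | h3
  · obtain ⟨n, hn⟩ : D.rf a ∈ (wN (D := D) (yw_mem D w₀)).range := by
      rw [range_wN _ (yw_rp D w₀), h3]
      trivial
    have h4 := D.conj_τ (hn ▸ rp_wN (yw_mem D w₀) n) c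
    refine ⟨mon (D.Wm (D.rf a)) c * c⁻¹, ?_, fun h5 => h2 ?_⟩
    · convert s.comm _ n.1.2 _ h1 using 1
      rw [map_mul, ← h4, map_inv]
      group
    · have h6 := D.wt_act (D.rf a) a
      rw [D.act_rf_self ha, map_neg, neg_vecMul, neg_eq_iff_eq_neg] at h6
      rw [map_mul, chr_mon, h6, chr_neg, map_inv, ← mul_inv, inv_eq_one, ← pow_two] at h5
      exact orderOf_eq_one_iff.1 (Nat.eq_one_of_dvd_coprimes (Nat.Coprime.pow_right j (by decide : Nat.Coprime 2 3))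
        (orderOf_dvd_of_pow_eq_one h5) (orderOf_dvd_of_pow_eq_one (by rw [← map_pow, hj, map_one])))
  · refine ⟨c, ?_, h2⟩
    have h4 : (⟨_, h1⟩ : ↥(GF F G)) ^ 3 ^ j = 1 := Subtype.ext (by
      rw [Subgroup.coe_pow, conj_pow, ← map_pow, hj, map_one, mul_one, mul_inv_cancel]; rfl)
    refine (Subgroup.zpowers_le.2 (s.H1.pow_index_mem ⟨_, h1⟩) (mem_zpowers_pow_iff.2 ?_) : _ ∈ s.H1)
    exact Nat.Coprime.coprime_dvd_right (orderOf_dvd_of_pow_eq_one h4)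
      (Nat.Coprime.pow_right j ((Nat.Prime.coprime_iff_not_dvd Nat.prime_three).2 h3).symm)

theorem Sit.Reg.mem_NN {s : Sit D Adm S} (h : s.Reg w₀) {m : Y} (hm : m ∈ G)
    (hc : ∀ t ∈ D.T, yw D w₀ * t * (yw D w₀)⁻¹ ∈ s.H0 → ∃ t' ∈ D.T, m * t' = t * m) : m ∈ D.NN := by
  choose u h1 h2 using fun t : {t // t ∈ D.T ∧ yw D w₀ * t * (yw D w₀)⁻¹ ∈ s.H0} => hc t t.2.1 t.2.2
  obtain ⟨c, h3, n, hn, -, e⟩ := D.exists_conj_form h1 (fun t => t.2.1) hm h2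
  have h4 : c ∈ (⊥ : Subgroup Y) := (Nodes.BNOf.RGD.Sup_le fun a ha => ?_ : D.S _ ≤ ⊥) h3
  · rwa [e, Subgroup.mem_bot.1 h4, one_mul]
  · obtain ⟨x, h5, h6⟩ := h a ha.1
    exact absurd (Units.ext ((D.χ_τ a x).symm.trans (ha.2 _ ⟨⟨_, D.τ_mem x, h5⟩, rfl⟩))) h6

/-! ## the map to the almost simple group -/

variable {A : Type} [Group A] [Finite A] {N₀ : Subgroup A} [hN : N₀.Normal] (e : ↥N₀ ≃* S)

/-- the map `H0 → A` -/
def Sit.io : ↥s.H0 →* A := N₀.subtype.comp (e.symm.toMonoidHom.comp s.π)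

theorem Sit.io_apply (h : ↥s.H0) : s.io e h = e.symm (s.π h) := rfl

theorem Sit.io_mem (h : ↥s.H0) : s.io e h ∈ N₀ := (e.symm (s.π h)).2

theorem Sit.io_eq_iff {h : ↥s.H0} {n : ↥N₀} : s.io e h = n ↔ e n = s.π h := by
  rw [s.io_apply, Subtype.val_inj, e.symm_apply_eq, eq_comm]

theorem Sit.io_eq_one {h : ↥s.H0} : s.io e h = 1 ↔ s.π h = 1 :=
  (s.io_eq_iff e (n := 1)).trans (by rw [map_one, eq_comm])

theorem Sit.exists_io {x : A} (hx : x ∈ N₀) : ∃ h, s.io e h = x :=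
  let ⟨h, h1⟩ := s.surj (e ⟨x, hx⟩)
  ⟨h, (s.io_eq_iff e (n := ⟨x, hx⟩)).2 h1.symm⟩

theorem Sit.π_div {h h' : ↥s.H0} (h1 : s.io e h = s.io e h') : s.π (h⁻¹ * h') = 1 :=
  (s.io_eq_one e).1 (by rw [map_mul, map_inv, h1, inv_mul_cancel])

variable (w₀) in
/-- the image of the torus -/
noncomputable def Sit.Tb : Subgroup A := ((Lie.Tw D w₀).subgroupOf s.H0).map (s.io e)

theorem Sit.io_mem_Tb {h : ↥s.H0} : s.io e h ∈ s.Tb w₀ e ↔ (h : Y) ∈ Lie.Tw D w₀ := by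
  refine ⟨fun ⟨t, h1, h2⟩ => ?_, fun h1 => ⟨h, h1, rfl⟩⟩
  simpa using (Lie.Tw D w₀).mul_mem h1 (s.ker_mem (s.π_div e h2) w₀).1

variable (w₀) in
/-- its normaliser -/
noncomputable abbrev Sit.Ah : Subgroup A := Subgroup.normalizer (s.Tb w₀ e : Set A)

/-- `g α` lifts the conjugation by `x` -/
structure Sit.LF (x : A) (g : Y) (α : MulAut Y) (A' : Matrix D.R D.R ℤ) : Prop where
  mem : g ∈ GF F G
  au : Au D α A'
  adm : Adm A'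
  act : ∀ h : ↥s.H0, ∃ h1 : ↥s.H0, (h1 : Y) = g * α h * g⁻¹ ∧ s.io e h1 = x * s.io e h * x⁻¹

theorem Sit.lf_io (h : ↥s.H0) : s.LF e (s.io e h) h 1 1 :=
  ⟨s.le h.2, ⟨fun _ => rfl, fun _ => Iff.rfl, fun _ => Iff.rfl, fun _ => Iff.rfl, fun c => by rw [mon_one]; rfl⟩,
    s.adm_one, fun x => ⟨h * x * h⁻¹, rfl, by rw [map_mul, map_mul, map_inv]⟩⟩

theorem Sit.exists_lf (x : A) : ∃ g α A', s.LF e x g α A' ∧
    (x ∈ N₀ → α = 1 ∧ A' = 1 ∧ ∃ h : ↥s.H0, (h : Y) = g ∧ s.io e h = x) := by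
  by_cases hx : x ∈ N₀
  · obtain ⟨h, rfl⟩ := s.exists_io e hx
    exact ⟨h, 1, 1, s.lf_io e h, fun _ => ⟨rfl, rfl, h, rfl, rfl⟩⟩
  · obtain ⟨g, h1, α, A', h2, h3, h4⟩ := s.aut (e.symm.trans ((MulAut.conjNormal x : MulAut ↥N₀).trans e))
    refine ⟨g, α, A', ⟨h1, h2, h3, fun h => (h4 h).imp fun h1 h5 => ⟨h5.1, ?_⟩⟩, fun h => absurd h hx⟩
    rw [s.io_apply, h5.2, MulEquiv.trans_apply, MulEquiv.trans_apply, e.symm_apply_apply]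
    rfl

variable {s e} {x : A} {g : Y} {α : MulAut Y} {A' : Matrix D.R D.R ℤ}

theorem Sit.LF.mul_io (L : s.LF e x g α A') (h : ↥s.H0) : s.LF e (s.io e h * x) (h * g) α A' :=
  ⟨mul_mem (s.le h.2) L.mem, L.au, L.adm, fun u =>
    let ⟨h1, h2, h3⟩ := L.act u
    ⟨h * h1 * h⁻¹, by simp [h2, mul_assoc], by simp [h3, mul_assoc]⟩⟩

theorem Sit.LF.mem_Ah (L : s.LF e x g α A') (h : ∀ t ∈ Lie.Tw D w₀, g * α t * g⁻¹ ∈ Lie.Tw D w₀) : x ∈ s.Ah w₀ e :=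
  Subgroup.mem_normalizer_fintype (by
    rintro _ ⟨t, ht, rfl⟩
    obtain ⟨h1, h2, h3⟩ := L.act t
    exact ⟨h1, show (h1 : Y) ∈ Lie.Tw D w₀ from h2 ▸ h t ht, h3⟩)

theorem Sit.LF.mem_NN (L : s.LF e x g α A') (hR : s.Reg w₀) (hx : x ∈ s.Ah w₀ e) :
    (yw D w₀)⁻¹ * g * α (yw D w₀) ∈ D.NN := by
  have hy := yw_mem D w₀
  have h0 : g * α (yw D w₀) ∈ G := mul_mem L.mem.1 ((L.au.memG _).2 hy)
  refine hR.mem_NN (by rw [mul_assoc]; exact mul_mem (inv_mem hy) h0) fun t ht h1 => ?_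
  obtain ⟨u, h2, h3⟩ := (Subgroup.mem_normalizer_iff''.1 hx _).1
    ((s.io_mem_Tb e (h := ⟨_, h1⟩)).2 (conj_mem_cj.2 ht))
  obtain ⟨u1, h4, h5⟩ := L.act u
  have h6 := s.π_div e (h := u1) (h' := ⟨_, h1⟩) (by rw [h5, h3]; group)
  have h7 := (s.ker _).1 h6
  obtain ⟨z, hz⟩ : ∃ z : Y, z = (u1 : Y)⁻¹ * (yw D w₀ * t * (yw D w₀)⁻¹) := ⟨_, rfl⟩
  have h8 : ∀ y ∈ G, y * z = z * y := hz ▸ h7
  refine ⟨α ((yw D w₀)⁻¹ * u * yw D w₀) * z, mul_mem ((L.au.memT _).2 (mem_cj.1 h2)) ?_, ?_⟩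
  · rw [← cj_one D.T]
    exact central_mem (hz ▸ (s.le (u1⁻¹ * ⟨_, h1⟩ : ↥s.H0).2).1) h8 G.one_mem
  · calc _ = (yw D w₀)⁻¹ * (g * α u * g⁻¹) * (g * α (yw D w₀) * z) := by rw [map_mul, map_mul, map_inv]; group
      _ = _ := by rw [h8 _ h0, ← h4, hz]; group

section

variable {v : D.W} (hv : D.Rp v ((yw D w₀)⁻¹ * g * α (yw D w₀))) (hg : g ∈ GF F G) (h : Au D α A')
include hv h

theorem lf_tau (c : D.R → kˣ) : g * α (yw D w₀ * D.τ c * (yw D w₀)⁻¹) * g⁻¹ =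
    yw D w₀ * D.τ (mon (D.Wm v * A') c) * (yw D w₀)⁻¹ := by
  rw [mon_mul, ← D.conj_τ hv, ← h.tau, map_mul, map_mul, map_inv]
  group

theorem lf_wm {a b : Y} {u u' : D.W} (ha : D.Rp u ((yw D w₀)⁻¹ * a * yw D w₀)) (hb : D.Rp u' ((yw D w₀)⁻¹ * b * yw D w₀))
    (e : b = g * α a * g⁻¹) : D.Wm u' * (D.Wm v * A') = D.Wm v * A' * D.Wm u := by
  obtain ⟨u1, h1⟩ := h.mem_NN ⟨u, ha⟩
  have h2 : u' * v = v * u1 := D.rp_unique (hb.mul hv) (by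
    convert hv.mul h1 using 1
    rw [e, map_mul, map_mul, map_inv]
    group)
  rw [← mul_assoc, ← D.Wm_mul, h2, D.Wm_mul, mul_assoc, h.wm_rp ha h1, mul_assoc]

include hg

theorem lf_comm : D.Wm v * A' * (D.Wm w₀ * D.Mx) = D.Wm w₀ * D.Mx * (D.Wm v * A') := by
  obtain ⟨w, h1⟩ := h.mem_NN ⟨w₀, yw_rp D w₀⟩
  have h2 := h.wm_Mx (h.wm_rp (yw_rp D w₀) h1)
  rw [map_mul, map_inv, h.comm] at h1
  have h3 := tc_of_fix h1 (yw_rp D w₀) hv (by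
    rw [show yw D w₀ * ((yw D w₀)⁻¹ * g * α (yw D w₀)) * (α (yw D w₀))⁻¹ = g by group]
    exact hg.2)
  rw [mul_assoc, ← h2, ← mul_assoc, tc_iff.1 h3, mul_assoc _ _ A']

theorem lf_th {c c' : Lbl D} (h1 : Tr D (D.Wm v * A') c c') (h2 : Fx D w₀ c') :
    Fx D w₀ c ∧ ∀ t ∈ Tw D w₀ ⊓ GF F G, th f w₀ c t = th f w₀ c' (g * α t * g⁻¹) := by
  have h3 : Fx D w₀ c := fun x => by rw [← h1, mulVec_mulVec, lf_comm hv hg h, ← mulVec_mulVec, h2, h1]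
  refine ⟨h3, th_ext (θ := fun t => th f w₀ c' (g * α t * g⁻¹)) h3 fun x => ?_⟩
  beta_reduce
  rw [← h1, ← (th_spec f h2).2, ← mon_coch, ← lf_tau hv h, nrm_cj hg.2, nrm_map h.comm]

end

variable (s e)

theorem Sit.sup_Ah (hA : Api f) (hC : AdmC D Adm w₀) : N₀ ⊔ s.Ah w₀ e = ⊤ := by
  refine eq_top_iff.2 fun x _ => ?_
  obtain ⟨g, α, A', L, -⟩ := s.exists_lf e x
  obtain ⟨v, hv⟩ := hC α A' L.au L.adm
  obtain ⟨w, h1⟩ := L.au.mem_NN ⟨w₀, yw_rp D w₀⟩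
  have h2 := L.au.wm_Mx (L.au.wm_rp (yw_rp D w₀) h1)
  rw [map_mul, map_inv, L.au.comm] at h1
  have h3 : Tc D v w w₀ := tc_iff.2 ((reg_of_det L.au.det_ne).right (by
    simp only
    rw [mul_assoc, h2, ← mul_assoc, hv, mul_assoc _ _ A']))
  obtain ⟨h, h4, h5⟩ := conj_of_tc ((L.au.memG _).2 (yw_mem D w₀)) h1 (yw_mem D w₀) (yw_rp D w₀) h3
  obtain ⟨a, ha, t, ht, h6⟩ := s.exists_T hA w₀ (mul_mem L.mem (inv_mem h4))
  have h7 := (L.mul_io ⟨a, ha⟩⁻¹).mem_Ah (w₀ := w₀) fun u hu => by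
    have h8 : h * α u * h⁻¹ ∈ Lie.Tw D w₀ := by
      rw [Lie.Tw, h5, conj_mem_cj, mem_cj, ← map_inv, ← map_mul, ← map_mul, L.au.memT]
      exact mem_cj.1 hu
    convert (Lie.Tw D w₀).mul_mem ((Lie.Tw D w₀).mul_mem ht.1 h8) ((Lie.Tw D w₀).inv_mem ht.1) using 1
    rw [← eq_mul_inv_iff_mul_eq.1 h6]
    simp [mul_assoc]
  rw [← inv_mul_cancel_left (s.io e ⟨a, ha⟩⁻¹) x]
  exact mul_mem (Subgroup.mem_sup_left (inv_mem (s.io_mem e _))) (Subgroup.mem_sup_right h7)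

theorem Sit.exists_ω (hR : s.Reg w₀) : ∃ ω : ↥(s.Ah w₀ e ⊓ N₀) →* D.W,
    ∀ (x : ↥(s.Ah w₀ e ⊓ N₀)) (h : ↥s.H0), s.io e h = x → D.Rp (ω x) ((yw D w₀)⁻¹ * h * yw D w₀) := by
  choose l hl using fun x : ↥(s.Ah w₀ e ⊓ N₀) => s.exists_io e x.2.2
  have h1 : ∀ (x : ↥(s.Ah w₀ e ⊓ N₀)) (h : ↥s.H0), s.io e h = x →
      D.Rp (D.pr ((yw D w₀)⁻¹ * l x * yw D w₀)) ((yw D w₀)⁻¹ * h * yw D w₀) := fun x h h2 => by
    convert (D.rp_pr ((s.lf_io e (l x)).mem_NN hR (hl x ▸ x.2.1))).mul_mem_right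
      (mem_cj.1 (s.ker_mem (s.π_div e ((hl x).trans h2.symm)) w₀).1) using 1
    · rfl
    · rw [MulAut.one_apply, Subgroup.coe_mul, Subgroup.coe_inv]
      group
  refine ⟨MonoidHom.mk' (fun x => D.pr ((yw D w₀)⁻¹ * l x * yw D w₀)) fun a b =>
    D.rp_unique (h1 _ (l a * l b) (by rw [map_mul, hl, hl]; rfl)) ?_, h1⟩
  convert (h1 a _ (hl a)).mul (h1 b _ (hl b)) using 1
  simp [mul_assoc]

section

variable {s e} {ω : ↥(s.Ah w₀ e ⊓ N₀) →* D.W}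
  (hω : ∀ (x : ↥(s.Ah w₀ e ⊓ N₀)) (h : ↥s.H0), s.io e h = x → D.Rp (ω x) ((yw D w₀)⁻¹ * h * yw D w₀))
include hω

theorem Sit.ω_ker (x : ↥(s.Ah w₀ e ⊓ N₀)) : ω x = 1 ↔ (x : A) ∈ s.Tb w₀ e := by
  obtain ⟨h, h1⟩ := s.exists_io e x.2.2
  rw [← h1, s.io_mem_Tb, Lie.Tw, mem_cj, ← D.pr_eq_one_iff ⟨_, hω x h h1⟩, (hω x h h1).pr_eq]

theorem Sit.ω_range (hA : Api f) : ω.range = CW D w₀ := by
  ext v
  constructor
  · rintro ⟨x, rfl⟩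
    obtain ⟨h, h1⟩ := s.exists_io e x.2.2
    have L := s.lf_io e h
    exact tc_iff.2 (by simpa only [mul_one] using lf_comm (hω x h h1) L.mem L.au)
  · rw [← range_wN (yw_mem D w₀) (yw_rp D w₀)]
    rintro ⟨n, rfl⟩
    obtain ⟨a, ha, t, ht, h1⟩ := s.exists_T hA w₀ n.1.2
    have h2 : D.Rp (wN (yw_mem D w₀) n) ((yw D w₀)⁻¹ * a * yw D w₀) := by
      convert (rp_wN (yw_mem D w₀) n).mul_mem_right (inv_mem (mem_cj.1 ht.1)) using 1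
      rw [← h1]
      group
    refine ⟨⟨s.io e ⟨a, ha⟩, (s.lf_io e _).mem_Ah fun u hu => ?_, s.io_mem e _⟩, D.rp_unique (hω _ ⟨a, ha⟩ rfl) h2⟩
    refine mem_cj.2 (show (yw D w₀)⁻¹ * (a * u * a⁻¹) * yw D w₀ ∈ D.T from ?_)
    convert D.conj_mem_T ⟨_, h2⟩ (mem_cj.1 hu) using 1
    group

end

theorem Sit.Tb_le : s.Tb w₀ e ≤ s.Ah w₀ e ⊓ N₀ :=
  le_inf Subgroup.le_normalizer (by rintro _ ⟨t, -, rfl⟩; exact s.io_mem e t)

theorem Sit.card_Tb (hA : Api f) : Nat.card ↥(s.Tb w₀ e) * (s.H1.index * Nat.card ↥s.π.ker) = ordT D w₀ := by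
  have := s.normal
  have h1 : (s.io e).ker = s.π.ker := Subgroup.ext fun _ => s.io_eq_one e
  rw [mul_left_comm, ← h1, Sit.Tb, card_map_mul _ fun z hz => (s.ker_mem ((s.io_eq_one e).1 hz) w₀).1, ← card_Tw,
    ← Nat.card_congr (Subgroup.subgroupOfEquivOfLe (inf_le_right : Lie.Tw D w₀ ⊓ GF F G ≤ _)).toEquiv,
    Subgroup.inf_subgroupOf_right, ← card_inf_mul (s.sup_T hA w₀), mul_comm]
  congr 1
  exact Nat.card_congr ⟨fun t => ⟨⟨t.1, s.le t.1.2⟩, t.2, t.1.2⟩, fun t => ⟨⟨t.1, t.2.2⟩, t.2.1⟩, fun _ => rfl,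
    fun _ => rfl⟩

theorem Sit.index_Ah (hA : Api f) (hF : Full D w₀) (hC : AdmC D Adm w₀) (hR : s.Reg w₀) : ¬ 3 ∣ (s.Ah w₀ e).index := by
  obtain ⟨ω, hω⟩ := s.exists_ω e hR
  have := s.finiteH
  have h1 : Nat.card ↥(s.Ah w₀ e ⊓ N₀) = Nat.card ↥(s.Tb w₀ e) * Nat.card ↥(CW D w₀) := by
    rw [← Sit.ω_range hω hA, ← Subgroup.index_ker, ← ω.ker.card_mul_index,
      show ω.ker = (s.Tb w₀ e).subgroupOf _ from Subgroup.ext (Sit.ω_ker hω),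
      Nat.card_congr (Subgroup.subgroupOfEquivOfLe (s.Tb_le e)).toEquiv]
  have h2 : Nat.card ↥(GF F G) = Nat.card ↥N₀ * (s.H1.index * Nat.card ↥s.π.ker) := by
    rw [← s.H1.card_mul_index, Nat.card_congr (Subgroup.subgroupOfEquivOfLe s.le).toEquiv, ← s.π.ker.card_mul_index,
      Subgroup.index_ker, MonoidHom.range_eq_top.2 s.surj, Subgroup.card_top, Nat.card_congr e.toEquiv]
    ring
  have h3 : s.H1.index * Nat.card ↥s.π.ker ≠ 0 := mul_ne_zero Subgroup.index_ne_zero_of_finite Nat.card_pos.ne'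
  rw [Full, h2, ← s.card_Tb e hA, mul_right_comm, ← h1, Nat.factorization_mul Nat.card_pos.ne' h3,
    Nat.factorization_mul Nat.card_pos.ne' h3, Finsupp.add_apply, Finsupp.add_apply, add_left_inj] at hF
  refine not_dvd_index ?_
  rw [← N₀.card_mul_index, ← card_inf_mul (s.sup_Ah e hA hC),
    Nat.factorization_mul Nat.card_pos.ne' Subgroup.index_ne_zero_of_finite,
    Nat.factorization_mul Nat.card_pos.ne' Subgroup.index_ne_zero_of_finite, Finsupp.add_apply, Finsupp.add_apply, hF]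

theorem Sit.exists_Θ : ∃ Θ : Lbl D → ↥(s.Tb w₀ e) → ℂˣ, ∀ c, Fx D w₀ c → s.Zw f w₀ c →
    ∀ (a : ↥(s.Tb w₀ e)) (h : ↥s.H0), s.io e h = a → (Θ c a : ℂ) = th f w₀ c h := by
  classical
  choose l h1 h2 using fun a : ↥(s.Tb w₀ e) => a.2
  refine ⟨fun c a => if hc : Fx D w₀ c then (th_spec f hc).1.hom ⟨l a, h1 a, s.le (l a).2⟩ else 1,
    fun c hc hz a h h3 => ?_⟩
  have h4 := s.π_div e ((h2 a).trans h3.symm)
  simp only [dif_pos hc]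
  rw [← mul_inv_cancel_left (l a) h, Subgroup.coe_mul,
    (th_spec f hc).1.mul (l a) ⟨h1 a, s.le (l a).2⟩ _ (s.ker_mem h4 w₀), (s.zw_iff hc).1 hz _ h4, mul_one]
  rfl

theorem Sit.loc_of_le (hA : Api f) (hC : AdmC D Adm w₀) (hR : s.Reg w₀) {P : Sylow 3 A}
    (hP : (P : Subgroup A) ≤ s.Ah w₀ e) : Nonempty (Loc2 f s w₀ A N₀ P) := by
  have := s.normal
  obtain ⟨ω, hω⟩ := s.exists_ω e hR
  obtain ⟨Θ, hΘ⟩ := s.exists_Θ (f := f) (w₀ := w₀) e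
  choose g α A' L hL using s.exists_lf e
  have hv : ∀ x ∈ s.Ah w₀ e, D.Rp (D.pr ((yw D w₀)⁻¹ * g x * α x (yw D w₀))) ((yw D w₀)⁻¹ * g x * α x (yw D w₀)) :=
    fun x hx => D.rp_pr ((L x).mem_NN hR hx)
  have hT : ∀ {h : ↥s.H0}, (h : Y) ∈ Lie.Tw D w₀ → (h : Y) ∈ Lie.Tw D w₀ ⊓ GF F G := fun h => ⟨h, s.le (Subtype.prop _)⟩
  have hc := (sys' D).comm _ (Tw_mem w₀)
  have := finite_inf_GF D (Lie.Tw D w₀)
  refine ⟨{
    Ah := s.Ah w₀ e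
    N1 := s.Ah w₀ e ⊓ N₀
    Tb := s.Tb w₀ e
    P_le := hP
    sup := s.sup_Ah e hA hC
    N1_eq := rfl
    Tb_le := s.Tb_le e
    Tb_norm := fun x hx t ht => (Subgroup.mem_normalizer_iff.1 hx t).1 ht
    Tb_comm := ?_
    ω := ω
    ω_range := Sit.ω_range hω hA
    ω_ker := Sit.ω_ker hω
    Θ := Θ
    Θ_mul := fun c h1 h2 ⟨_, a, ha, rfl⟩ ⟨_, b, hb, rfl⟩ => Units.ext ?_
    Θ_mul' := fun c c' h1 h2 h1' h2' ⟨_, a, ha, rfl⟩ => Units.ext ?_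
    Θ_one := fun c h1 h2 => ⟨fun h => ?_, fun ⟨l, h3, h4⟩ ⟨_, a, ha, rfl⟩ => Units.ext ?_⟩
    Θ_surj := fun μ => ?_
    B := fun x => D.Wm (D.pr ((yw D w₀)⁻¹ * g x * α x (yw D w₀))) * A' x
    B_adm := fun x _ => ⟨_, _, (L x).adm, rfl⟩
    B_comm := fun x hx => lf_comm (hv x hx) (L x).mem (L x).au
    B_N1 := fun x => ?_
    B_ω := fun x hx n n' h => ?_
    B_Θ := fun x hx c c' h1 h2 h3 => ?_
    e := e
    B_aut := fun x _ => ⟨g x, (L x).mem, α x, A' x, _, (L x).au, (L x).adm, rfl, fun h => ((L x).act h).imp fun h1 h2 =>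
      ⟨h2.1, fun n n1 h3 h4 => (s.io_eq_iff e).1 (by rw [h2.2, h4, (s.io_eq_iff e).2 h3])⟩⟩
    card_Tb := s.card_Tb e hA }⟩
  · rintro _ ⟨a, ha, rfl⟩ _ ⟨b, hb, rfl⟩
    rw [← map_mul, ← map_mul]
    exact congrArg _ (Subtype.ext (hc a (hT ha) b (hT hb)))
  · rw [Units.val_mul, hΘ c h1 h2 _ (a * b) (map_mul _ _ _), hΘ c h1 h2 _ a rfl, hΘ c h1 h2 _ b rfl]
    exact (th_spec f h1).1.mul _ (hT ha) _ (hT hb)
  · rw [Units.val_mul, hΘ c h1 h2 _ a rfl, hΘ c' h1' h2' _ a rfl, hΘ _ (fx_mul h1 h1') (h2.mul h2' h1 h1') _ a rfl]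
    exact th_mul h1 h1' _ (hT ha)
  · obtain ⟨l, h3, h4⟩ := exists_lin_of_sup (N := s.H1) (Subgroup.inclusion (inf_le_right : Lie.Tw D w₀ ⊓ GF F G ≤ _))
      (fun x => let ⟨a, ha, t, ht, h3⟩ := s.exists_T hA w₀ x.2; ⟨⟨a, s.le ha⟩, ha, ⟨t, ht⟩, Subtype.ext h3⟩)
      (th_spec f h1).1.hom fun b hb => Units.ext ((hΘ c h1 h2 ⟨_, ⟨b, hb⟩, b.2.1, rfl⟩ ⟨b, hb⟩ rfl).symm.trans
        (congrArg Units.val (h _)))
    obtain ⟨cl, h5, -, h6, -, h7⟩ := s.exists_lbl hA (s.lin_iff.2 h3)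
    rwa [eq_of_chr D (c := c) (c' := cl) fun v => Units.ext ?_]
    have h8 := nrm_mem f.L f.hζ (yw_mem D w₀) (yw_rp D w₀) v
    rw [← (th_spec f h1).2, ← (th_spec f (h6 w₀)).2, s.th_lin hA (s.lin_iff.2 h3) h7 w₀ h8]
    exact (congrArg Units.val (h4 ⟨_, h8⟩)).symm
  · rw [hΘ c h1 h2 _ a rfl, s.th_lin hA h3 h4 w₀ (hT ha), h3]
  · obtain ⟨θ, h1⟩ := exists_ext_lin (K := Lie.Tw D w₀ ⊓ s.H0) hc (inf_le_inf_left _ s.le)
      (μ.comp (MonoidHom.mk' (fun t => ⟨s.io e ⟨t, t.2.2⟩, _, t.2.1, rfl⟩) fun a b =>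
        Subtype.ext (map_mul (s.io e) ⟨a, a.2.2⟩ ⟨b, b.2.2⟩)))
    obtain ⟨c, h2⟩ := exists_lab f.L f.hζ (yw_mem D w₀) (yw_rp D w₀) (isLin_lin θ)
    have h3 := h2.fx f.L f.hζ (yw_mem D w₀) (yw_rp D w₀)
    have h4 : ∀ (a : ↥s.H0) (ha : (a : Y) ∈ Lie.Tw D w₀), th f w₀ c a = μ ⟨_, a, ha, rfl⟩ := fun a ha => by
      rw [th_ext h3 h2 _ (hT ha), lin_apply _ (hT ha)]
      exact congrArg Units.val (h1 ⟨a, ha, a.2⟩)
    have h5 : s.Zw f w₀ c := (s.zw_iff h3).2 fun z hz => by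
      rw [h4 z (s.ker_mem hz w₀).1, ← Units.val_one, ← map_one μ]
      exact congrArg (fun x => (μ x : ℂ)) (Subtype.ext ((s.io_eq_one e).2 hz))
    exact ⟨c, h3, h5, fun ⟨_, a, ha, rfl⟩ => Units.ext ((hΘ c h3 h5 _ a rfl).trans (h4 a ha))⟩
  · obtain ⟨h1, h2, h, h3, h4⟩ := hL x x.2.2
    simp only [h1, h2, ← h3, mul_one, MulAut.one_apply, (hω x h h4).pr_eq]
  · obtain ⟨a, h1⟩ := s.exists_io e n.2.2
    obtain ⟨b, h2, h3⟩ := (L x).act a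
    exact lf_wm (hv x hx) (L x).au (hω n a h1) (hω n' b (by rw [h3, h, h1])) h2
  · obtain ⟨h4, h5⟩ := lf_th (f := f) (hv x hx) (L x).mem (L x).au h1 h2
    have h6 : s.Zw f w₀ c := (s.zw_iff h4).2 fun z hz => by
      obtain ⟨b, h6, h7⟩ := (L x).act z
      rw [(s.io_eq_one e).2 hz, mul_one, mul_inv_cancel, s.io_eq_one] at h7
      rw [h5 _ (s.ker_mem hz w₀), ← h6, (s.zw_iff h2).1 h3 b h7]
    refine ⟨h4, h6, fun ⟨_, a, ha, rfl⟩ t' h7 => Units.ext ?_⟩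
    obtain ⟨b, h8, h9⟩ := (L x).act a
    rw [hΘ c h4 h6 _ a rfl, hΘ c' h2 h3 t' b (h9.trans h7.symm), h5 _ (hT ha), h8]

omit hN in
theorem exists_loc (hA : Api f) (hp : p ≠ 3) {w₀ : D.W} (hF : Full D w₀) (hC : AdmC D Adm w₀) (hR : RegC D w₀)
    (h3 : CW D w₀ = ⊤ ∨ ¬ 3 ∣ s.H1.index) (A : Type) [Group A] [Finite A] (N₀ : Subgroup A) [N₀.Normal]
    (e : ↥N₀ ≃* S) (P : Sylow 3 A) : Nonempty (Loc2 f s w₀ A N₀ P) := by
  have : Fact (Nat.Prime 3) := ⟨Nat.prime_three⟩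
  have h1 := s.reg_of hp hR h3
  obtain ⟨Q, hQ⟩ := exists_sylow_le (s.index_Ah e hA hF hC h1)
  obtain ⟨a, rfl⟩ := MulAction.exists_smul_eq A Q P
  refine s.loc_of_le ((MulAut.conjNormal a : MulAut ↥N₀).symm.trans e) hA hC h1 ?_
  rintro _ ⟨x, hx, rfl⟩
  refine Subgroup.mem_normalizer_fintype ?_
  rintro _ ⟨t, ht, rfl⟩
  obtain ⟨u, h4, h5⟩ := (Subgroup.mem_normalizer_iff.1 (hQ hx) _).1 ⟨t, ht, rfl⟩
  refine ⟨u, h4, ?_⟩
  show a * s.io e u * a⁻¹ = a * x * a⁻¹ * (a * s.io e t * a⁻¹) * (a * x * a⁻¹)⁻¹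
  rw [h5]
  group

end Cfsg.Agent.KZ.Lie
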