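import Cfsg.Agent.KZ.Lie.Desc
import Cfsg.Agent.KZ.Lie.McTor

/-!
# KZ: automorphisms and types, linear characters on the torus, descent in the coprime case (helper61)

`tc_iff`, `AutC.admC`, `Sit.th_lin`, `Sit.sup_T`, `Sit.Cop.down`, `Sit.Cop.up`, `Sit.Cop.k0_eq`, `Sit.Cop.mv`.
-/

set_option autoImplicit false
set_option linter.unusedSectionVars false

namespace Cfsg.Agent.KZ.Lie

open Cfsg Cfsg.Agent.DL Cfsg.Agent.DL.PP Cfsg.Agent.DL.Uni Cfsg.Agent.DL.Asm Cfsg.Agent.Nodes.Reps Matrix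
  Cfsg.Agent.Characters.Core

/-! ## group theory -/

section Gen

theorem mul_eq_iff_of_comm {R : Type*} [Monoid R] {A a b c d a' b' c' d' : R} (hA : IsRegular A) (ha : a' * A = A * a)
    (hb : b' * A = A * b) (hc : c' * A = A * c) (hd : d' * A = A * d) : a' * b' = c' * d' ↔ a * b = c * d := by
  rw [← hA.right.eq_iff, ← hA.left.eq_iff (a := a * b)]
  simp only [mul_assoc, hb, hd]
  simp only [← mul_assoc, ha, hc]

theorem reg_of_det {R : Type} [Fintype R] [DecidableEq R] {A : Matrix R R ℤ} (h : A.det ≠ 0) : IsRegular A :=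
  isRegular_of_isLeftRegular_det (IsRegular.of_ne_zero h).left

variable {H : Type} [Group H] [Finite H]

theorem eq_top_of_lin {K : Subgroup H} (hK : ∀ x y : H, x * y * x⁻¹ * y⁻¹ ∈ K)
    (h : ∀ l : H →* ℂˣ, (∀ n ∈ K, l n = 1) → l = 1) : K = ⊤ := by
  have : K.Normal := ⟨fun n hn g => by
    have := K.mul_mem (hK g n) hn
    rwa [inv_mul_cancel_right] at this⟩
  rw [← Subgroup.index_eq_one, ← Res.card_lin hK, Nat.card_eq_one_iff_exists]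
  exact ⟨⟨1, fun _ _ => rfl⟩, fun l => Subtype.ext (h l.1 l.2)⟩

theorem exists_sylow_le {K : Subgroup H} (h : ¬ 3 ∣ K.index) : ∃ P : Sylow 3 H, (P : Subgroup H) ≤ K := by
  have : Fact (Nat.Prime 3) := ⟨Nat.prime_three⟩
  obtain ⟨Q⟩ : Nonempty (Sylow 3 ↥K) := inferInstance
  refine ⟨Sylow.ofCard ((Q : Subgroup ↥K).map K.subtype) ?_, Subgroup.map_subtype_le _⟩
  rw [Subgroup.card_map_of_injective K.subtype_injective, Q.card_eq_multiplicity, ← K.card_mul_index,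
    Nat.factorization_mul Nat.card_pos.ne' Subgroup.index_ne_zero_of_finite, Finsupp.add_apply,
    Nat.factorization_eq_zero_of_not_dvd h, add_zero]

theorem not_dvd_index {K : Subgroup H} (h : (Nat.card H).factorization 3 = (Nat.card ↥K).factorization 3) :
    ¬ 3 ∣ K.index := fun h3 => by
  rw [← K.card_mul_index, Nat.factorization_mul Nat.card_pos.ne' Subgroup.index_ne_zero_of_finite, Finsupp.add_apply,
    add_eq_left] at h
  exact (Nat.prime_three.factorization_pos_of_dvd Subgroup.index_ne_zero_of_finite h3).ne' h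

/-- the product of the conjugates -/
theorem exists_norm {B P : Subgroup H} (hB : ∀ a ∈ B, ∀ b ∈ B, a * b = b * a) (hP : ∀ x ∈ P, ∀ b ∈ B, x * b * x⁻¹ ∈ B)
    (l : H →* ℂˣ) {t : H} (ht : t ∈ B) : ∃ n ∈ Subgroup.centralizer (P : Set H), l n = l t ^ Nat.card ↥P := by
  let _ : CommGroup ↥B := { (inferInstance : Group ↥B) with mul_comm := fun a b => Subtype.ext (hB a a.2 b b.2) }
  have := Fintype.ofFinite ↥P
  let c : ↥P → ↥B →* ↥B := fun x => MonoidHom.mk' (fun b => ⟨x * b * x⁻¹, hP x x.2 b b.2⟩) fun a b =>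
    Subtype.ext (by simp [mul_assoc])
  refine ⟨(∏ x, c x ⟨t, ht⟩ : ↥B), fun y hy => ?_, ?_⟩
  · have h1 : c ⟨y, hy⟩ (∏ x, c x ⟨t, ht⟩) = ∏ x, c x ⟨t, ht⟩ := by
      rw [map_prod, ← Equiv.prod_comp (Equiv.mulLeft (⟨y, hy⟩ : ↥P)) fun x => c x ⟨t, ht⟩]
      exact Finset.prod_congr rfl fun x _ => Subtype.ext (by simp [c, mul_assoc])
    exact mul_inv_eq_iff_eq_mul.1 (congrArg Subtype.val h1)
  · rw [← Subgroup.subtype_apply, ← MonoidHom.comp_apply, map_prod, Nat.card_eq_fintype_card, ← Finset.card_univ,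
      ← Finset.prod_const]
    exact Finset.prod_congr rfl fun x _ => by simp [c]

end Gen

variable {p : ℕ} [Fact p.Prime] {k : Type} [Field k] [CharP k p] {Y : Type} [Group Y] {N : Type} [Fintype N]
  [DecidableEq N] {ρ : Y →* GL N k} {F : MulAut Y} {G : Subgroup Y} [IsAlgClosed k]
  {D : Datum p ρ F G} {f : Fr D} {α : MulAut Y} {A : Matrix D.R D.R ℤ} [Fintype ↥(GF F G)]

/-! ## types and automorphisms -/

theorem tc_iff {v w w' : D.W} : Tc D v w w' ↔ D.Wm v * (D.Wm w * D.Mx) = D.Wm w' * D.Mx * D.Wm v := by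
  rw [mul_assoc (D.Wm w'), D.Mx_Wm, ← mul_assoc, ← mul_assoc, ← D.Wm_mul, ← D.Wm_mul,
    (reg_of_det D.det_Mx_ne_zero).right.eq_iff, D.Wm_injective.eq_iff, eq_comm]
  rfl

theorem _root_.Cfsg.Agent.DL.PP.Au.mem_NN (h : Au D α A) {m : Y} (hm : m ∈ D.NN) : α m ∈ D.NN :=
  D.mem_NN_of_conj ((h.memG _).2 (D.NN_le_G hm)) fun t ht => by
    obtain ⟨t, rfl⟩ := α.surjective t
    rw [← map_inv, ← map_mul, ← map_mul, h.memT]
    exact D.conj_mem_T hm ((h.memT _).1 ht)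

theorem _root_.Cfsg.Agent.DL.PP.Au.wm_rp (h : Au D α A) {v v' : D.W} {m : Y} (hm : D.Rp v m) (hm' : D.Rp v' (α m)) :
    D.Wm v' * A = A * D.Wm v :=
  mon_inj (k := k) fun x => D.τ_inj (by
    rw [mon_mul, mon_mul, ← h.tau, ← D.conj_τ hm', ← D.conj_τ hm, ← h.tau, map_mul, map_mul, map_inv])

theorem _root_.Cfsg.Agent.DL.PP.Au.exists_perm (h : Au D α A) :
    ∃ a : D.W ≃ D.W, ∀ w, D.Wm (a w) * A = A * D.Wm w := by
  have h1 : ∀ w, ∃ w', D.Wm w' * A = A * D.Wm w := fun w =>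
    let ⟨_, hm, _⟩ := D.exists_rp w
    let ⟨w', hw'⟩ := h.mem_NN ⟨w, hm⟩
    ⟨w', h.wm_rp hm hw'⟩
  choose a ha using h1
  exact ⟨Equiv.ofBijective a (Finite.injective_iff_bijective.1 fun u v e =>
    D.Wm_injective ((reg_of_det h.det_ne).left (by simp only [← ha, e]))), ha⟩

theorem _root_.Cfsg.Agent.DL.PP.Au.wm_Mx (h : Au D α A) {w w' : D.W} (e : D.Wm w' * A = A * D.Wm w) :
    D.Wm w' * D.Mx * A = A * (D.Wm w * D.Mx) := by
  rw [mul_assoc, ← h.comm_Mx, ← mul_assoc, e, mul_assoc]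

variable {Adm : Matrix D.R D.R ℤ → Prop} {S : Type} [Group S] {M : Ideal AlgInt}

theorem AutC.admC {w₀ : D.W} (h : AutC D w₀) : AdmC D Adm w₀ := fun α A h1 _ => by
  obtain ⟨a, ha⟩ := h1.exists_perm
  have h2 := h1.wm_Mx (ha w₀)
  refine (h (a w₀) ?_ ?_).elim fun v hv => ⟨v⁻¹, by rw [mul_assoc, ← h2, ← mul_assoc, tc_iff.1 hv.symm, mul_assoc]⟩
  · have h3 : (D.Wm (a w₀) * D.Mx - 1) * A = A * (D.Wm w₀ * D.Mx - 1) := by
      rw [sub_mul, mul_sub, h2, one_mul, mul_one]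
    have h4 := congrArg det h3
    rw [det_mul, det_mul, mul_comm] at h4
    rw [ordT, ordT, mul_left_cancel₀ h1.det_ne h4]
  · refine (Nat.card_congr (a.subtypeEquiv fun u => ?_)).symm
    exact (tc_iff.trans (mul_eq_iff_of_comm (reg_of_det h1.det_ne) (ha u) h2 h2 (ha u)).symm).trans tc_iff.symm

/-! ## linear characters -/

variable (s : Sit D Adm S) {χ χ' : IrrCharacter ↥(GF F G)} {ψ ψ' : IrrCharacter S}

/-- the label of a linear character is the label of its restriction -/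
theorem Sit.th_lin (hA : Api f) {l : ↥(GF F G) →* ℂˣ} (hl : ∀ h : ↥s.H0, l ⟨h, s.le h.2⟩ = 1) {cl : Lbl D}
    (h : ∀ w c g, RW f w (c * cl) g = l g * RW f w c g) (w : D.W) {t : Y} (ht : t ∈ Lie.Tw D w ⊓ GF F G) :
    th f w cl t = l ⟨t, ht.2⟩ := by
  obtain ⟨h1, h2, -⟩ := Sit.Tw.props hA (show s.Tw f cl from ⟨l, hl, h⟩)
  obtain ⟨c, hc⟩ := exists_lab f.L f.hζ (yw_mem D w) (yw_rp D w) ((isLin_lin l).mono inf_le_right)
  have h3 : PConst p (GF F G) (lin l) := ⟨fun g hg x hx => ?_, fun a ha u hu _ h4 _ => ?_⟩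
  · have h4 : RW f w c = RW f w cl := funext fun g => by
      rw [← R_eq_RW f (yw_mem D w) (yw_rp D w) hc, ← one_mul cl, h, RW_apply, ← lin_coe,
        ← (sys' D).pconst _ (Tw_mem w) _ _ h3 g g.2]
      exact (sys' D).R_congr (Tw_mem w) (fun t ht => by rw [Pi.mul_apply, th_one w t ht, mul_one]) g g.2
    have h5 := RW_ne (f := f) (h2 w)
    nth_rw 2 [← h4] at h5
    obtain ⟨-, -, v, -, h6⟩ := rel_of_ne h5
    rw [th_ext (h2 w) (eq_of_rel h6 (h1 v) ▸ hc) t ht, lin_apply _ ht.2]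
  · rw [(isLin_lin l).mul _ (mul_mem hx hg) _ (inv_mem hx), (isLin_lin l).mul _ hx _ hg, mul_right_comm,
      (isLin_lin l).mul_inv hx, one_mul]
  · rw [(isLin_lin l).mul _ ha _ hu, lin_apply _ hu, hl ⟨u, s.uni u hu h4⟩, Units.val_one, mul_one]

theorem eq_one_of_th {w : D.W} {c : Lbl D} (hc : Fx D w c) (h : ∀ t ∈ Tw D w ⊓ GF F G, th f w c t = 1) : c = 1 :=
  eq_of_chr D fun v => Units.ext (by
    rw [← (th_spec f hc).2 v, h _ (nrm_mem f.L f.hζ (yw_mem D w) (yw_rp D w) v), map_one, Units.val_one])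

theorem Sit.lin_eq_one (hA : Api f) (w : D.W) {l : ↥(GF F G) →* ℂˣ} (hl : ∀ n ∈ s.H1, l n = 1)
    (h : ∀ t : ↥(GF F G), (t : Y) ∈ Lie.Tw D w → l t = 1) : l = 1 := by
  obtain ⟨cl, -, -, h1, h2, h3⟩ := s.exists_lbl hA (s.lin_iff.2 hl)
  refine eq_one_of_pow_one ((h2 1).2 ?_)
  rw [eq_one_of_th (h1 w) fun t ht => by rw [s.th_lin hA (s.lin_iff.2 hl) h3 w ht, h _ ht.1, Units.val_one], one_pow]

/-- `G ^ F = H0 T ^ F` -/
theorem Sit.sup_T (hA : Api f) (w : D.W) : s.H1 ⊔ (Lie.Tw D w).subgroupOf (GF F G) = ⊤ :=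
  eq_top_of_lin (fun x y => Subgroup.mem_sup_left (s.comm1 x y)) fun _ hl =>
    s.lin_eq_one hA w (fun _ hn => hl _ (Subgroup.mem_sup_left hn)) fun _ ht => hl _ (Subgroup.mem_sup_right ht)

theorem Sit.exists_T (hA : Api f) (w : D.W) {g : Y} (hg : g ∈ GF F G) :
    ∃ h ∈ s.H0, ∃ t ∈ Lie.Tw D w ⊓ GF F G, h * t = g := by
  have := s.normal
  obtain ⟨h, h1, t, h2, e⟩ := Subgroup.mem_sup_of_normal_left.1 ((s.sup_T hA w).ge (Subgroup.mem_top ⟨g, hg⟩))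
  exact ⟨h, h1, t, ⟨h2, t.2⟩, congrArg Subtype.val e⟩

theorem Full.index {w₀ : D.W} (h : Full D w₀) : ¬ 3 ∣ (Nz F G (Tw D w₀)).index :=
  not_dvd_index (by rw [Tw, card_Nz (yw_mem D w₀) (yw_rp D w₀)]; exact h)

/-! ## D5 -/

theorem Sit.Cop.sup_cent {s : Sit D Adm S} (h : s.Cop) (hA : Api f) {w₀ : D.W} (hF : Full D w₀) :
    ∃ P : Sylow 3 ↥(GF F G), s.H1 ⊔ Subgroup.centralizer ((P : Subgroup ↥(GF F G)) : Set ↥(GF F G)) = ⊤ := by
  have : Fact (Nat.Prime 3) := ⟨Nat.prime_three⟩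
  have := s.normal
  obtain ⟨P, hP⟩ := exists_sylow_le hF.index
  refine ⟨P, eq_top_of_lin (fun x y => Subgroup.mem_sup_left (s.comm1 x y)) fun l hl => ?_⟩
  have h1 : ∀ n ∈ s.H1, l n = 1 := fun _ hn => hl _ (Subgroup.mem_sup_left hn)
  refine s.lin_eq_one hA w₀ h1 fun t ht => ?_
  obtain ⟨n, h2, h3⟩ := exists_norm (B := (Lie.Tw D w₀).subgroupOf (GF F G)) (P := P)
    (fun a ha b hb => Subtype.ext ((sys' D).comm _ (Tw_mem w₀) a ⟨ha, a.2⟩ b ⟨hb, b.2⟩))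
    (fun x hx b hb => show (x : Y) * b * (x : Y)⁻¹ ∈ Lie.Tw D w₀ from mem_Nz.1 (hP hx) ▸ conj_mem_cj.2 hb) l ht
  rw [hl _ (Subgroup.mem_sup_right h2), P.card_eq_multiplicity] at h3
  exact orderOf_eq_one_iff.1 (Nat.eq_one_of_dvd_coprimes
    (Nat.Coprime.pow_left _ ((Nat.Prime.coprime_iff_not_dvd Nat.prime_three).2 h.idx))
    (orderOf_dvd_of_pow_eq_one h3.symm) (orderOf_dvd_of_pow_eq_one (Res.lin_pow ⟨l, h1⟩ t)))

theorem Sit.card_ker : Nat.card ↥s.π1.ker = Nat.card ↥s.π.ker :=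
  Nat.card_congr ((Subgroup.subgroupOfEquivOfLe s.le).toEquiv.subtypeEquiv fun _ => Iff.rfl)

theorem Sit.Cop.down {s : Sit D Adm S} (h : s.Cop) (hA : Api f) {w₀ : D.W} (hF : Full D w₀) (hM : IsPModular 3 M)
    (hχ : Mem M χ) : ∃ ψ : IrrCharacter S, Mem M ψ ∧ s.Dn χ ψ := by
  have : Fact (Nat.Prime 3) := ⟨Nat.prime_three⟩
  have := s.normal
  obtain ⟨P, hP⟩ := h.sup_cent hA hF
  obtain ⟨θ, -, h1⟩ := (S4551.result 3 M hM s.H1 h.idx P hP).1 χ hχ.1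
  obtain ⟨ψ, rfl⟩ := DGen.exists_push s.π1 s.π1_surj (θ := θ) fun z hz =>
    DGen.mem_central hM (Res.mem_of_res hM hχ h1) s.π1.ker (s.card_ker ▸ h.ker) hz
  exact ⟨ψ, (s.dn_iff.2 h1).ov.mem hM hχ, s.dn_iff.2 h1⟩

theorem Sit.Cop.up {s : Sit D Adm S} (h : s.Cop) (hA : Api f) {w₀ : D.W} (hF : Full D w₀) (hM : IsPModular 3 M)
    (hψ : Mem M ψ) : ∃! χ : IrrCharacter ↥(GF F G), Mem M χ ∧ s.Dn χ ψ := by
  have : Fact (Nat.Prime 3) := ⟨Nat.prime_three⟩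
  have := s.normal
  obtain ⟨P, hP⟩ := h.sup_cent hA hF
  have h1 := Res.mem_pull hM s.π1 s.π1_surj hψ
  obtain ⟨χ, ⟨h2, h3⟩, h4⟩ := (S4551.result 3 M hM s.H1 h.idx P hP).2 _ h1.1
  exact ⟨χ, ⟨⟨h2, by rw [Res.deg_of_res h3]; exact h1.2⟩, s.dn_iff.2 h3⟩, fun χ' h5 => h4 χ' ⟨h5.1.1, s.dn_iff.1 h5.2⟩⟩

theorem Sit.Cop.k0_eq {s : Sit D Adm S} (h : s.Cop) (hA : Api f) {w₀ : D.W} (hF : Full D w₀) (hM : IsPModular 3 M) :
    k0 M S = k0 M ↥(GF F G) := by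
  choose r h1 h2 using fun χ : {χ : IrrCharacter ↥(GF F G) // Mem M χ} => h.down hA hF hM χ.2
  refine (Nat.card_congr (Equiv.ofBijective (fun χ => (⟨r χ, h1 χ⟩ : {ψ : IrrCharacter S // Mem M ψ}))
    ⟨fun χ χ' e => ?_, fun ψ => ?_⟩)).symm
  · have e' : r χ = r χ' := congrArg Subtype.val e
    exact Subtype.ext ((h.up hA hF hM (h1 χ)).unique ⟨χ.2, h2 χ⟩ ⟨χ'.2, e' ▸ h2 χ'⟩)
  · obtain ⟨χ, ⟨h3, h4⟩, -⟩ := h.up hA hF hM ψ.2
    exact ⟨⟨χ, h3⟩, Subtype.ext (Subtype.ext ((h2 ⟨χ, h3⟩).unique h4))⟩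

/-- no twist -/
theorem Sit.Cop.mv {s : Sit D Adm S} (h : s.Cop) (hA : Api f) {w₀ : D.W} (hF : Full D w₀) (hM : IsPModular 3 M)
    (hχ : Mem M χ) (hχ' : Mem M χ') (h1 : s.Dn χ ψ) (h2 : s.Dn χ' ψ') {σ : MulAut S}
    (e : ∀ x, (ψ : S → ℂ) (σ x) = (ψ' : S → ℂ) x) :
    ∃ α A, ∃ h : Au D α A, Adm A ∧ (∀ g, χ.1 (h.aut g) = χ'.1 g) ∧ Mv f A 1 χ χ' := by
  obtain ⟨α, A, h3, h4, h5, -⟩ := s.exists_aut σ
  have h6 := h5 χ ψ h1
  rw [funext e] at h6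
  have h7 : Res.tr h3.aut χ = χ' :=
    (h.up hA hF hM (h2.ov.mem hM hχ')).unique ⟨(Res.mem_tr hM _).2 hχ, h6⟩ ⟨hχ', h2⟩
  refine ⟨α, A, h3, h4, fun g => by rw [← h7]; rfl, fun w w' c c' e1 e2 e3 => ?_⟩
  rw [ip_aut hA h3 _ e1 e2 e3, mul_one, ← h7]
  rfl

end Cfsg.Agent.KZ.Lie
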