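import Cfsg.Agent.KZ.Lie.Iface

/-!
# KZ-UNIF, part A: frames, scalar products, sums over the tori (helper2)
-/

set_option autoImplicit false
set_option linter.unusedSectionVars false

namespace Cfsg.Agent.KZ.Lie

open Cfsg Cfsg.Agent.DL Cfsg.Agent.DL.PP Cfsg.Agent.DL.Uni Cfsg.Agent.DL.Asm Cfsg.Agent.Nodes.Reps Matrix
  Cfsg.Agent.DL.Mk Cfsg.Agent.Nodes.BNOf Cfsg.Agent.Characters.Core
open scoped ComplexConjugate

variable {p : ℕ} [Fact p.Prime] {k : Type} [Field k] [CharP k p] {Y : Type} [Group Y] {N : Type} [Fintype N]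
  [DecidableEq N] {ρ : Y →* GL N k} {F : MulAut Y} {G : Subgroup Y} [IsAlgClosed k] {D : Datum p ρ F G}
  {y y' m : Y} {w w' v : D.W} {θ θ' : Y → ℂ} {c c' : Lbl D}

theorem nrm_cj {h : Y} (hh : F h = h) (d : ℕ) (t : Y) : nrm F d (h * t * h⁻¹) = h * nrm F d t * h⁻¹ :=
  nrm_map (α := MulAut.conj h) (fun z => by simp only [MulAut.conj_apply, map_mul, map_inv, hh]) d t

theorem mem_tori (hy : y ∈ G) (hw : D.Rp w (y⁻¹ * F y)) : cj y D.T ∈ tori D :=
  ⟨y, hy, rfl, (D.stable_iff hy).2 ⟨w, hw⟩⟩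

theorem Tw_mem (w : D.W) : Tw D w ∈ tori D := mem_tori (yw_mem D w) (yw_rp D w)

theorem card_Tw (w : D.W) : Nat.card ↥(Tw D w ⊓ GF F G) = ordT D w := D.card_cj_TF (yw_mem D w) (yw_rp D w)

theorem ordT_ne (w : D.W) : ordT D w ≠ 0 := Int.natAbs_ne_zero.2 (det_ne_zero D w)

theorem tc_one (w : D.W) : Tc D 1 w w := by simp [Tc]

theorem tc_of_fix (hw : D.Rp w (y⁻¹ * F y)) (hw' : D.Rp w' (y'⁻¹ * F y')) (hm : D.Rp v m)
    (h : F (y' * m * y⁻¹) = y' * m * y⁻¹) : Tc D v w w' := by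
  refine D.rp_unique (hw'.mul hm.mapF) ?_
  convert hm.mul hw using 1
  rw [map_mul, map_mul, map_inv] at h
  calc _ = y'⁻¹ * (F y' * F m * (F y)⁻¹) * F y := by group
    _ = _ := by rw [h]; group

theorem exists_fix (hy : y ∈ G) (hw : D.Rp w (y⁻¹ * F y)) (hw' : D.Rp w' (y'⁻¹ * F y')) (h : Tc D v w w') :
    ∃ m, D.Rp v m ∧ F (y' * m * y⁻¹) = y' * m * y⁻¹ := by
  obtain ⟨m, hm, -⟩ := D.exists_rp v
  have h1 := (hm.mul hw).inv.unique (h ▸ hw'.mul hm.mapF : D.Rp (v * w) _).inv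
  have h2 := D.conj_mem_T (inv_mem ⟨v, hm⟩) (inv_mem h1)
  obtain ⟨s, hs, e⟩ := (D.conj hy ⟨w, hw⟩).lang_T (conj_mem_cj.2 h2)
  refine ⟨m * (y⁻¹ * s⁻¹ * y), hm.mul_mem_right (mem_cj.1 (inv_mem hs)), ?_⟩
  have h3 : F s = s * (y * m⁻¹ * y'⁻¹ * F y' * F m * (F y)⁻¹) := by
    rw [← mul_inv_cancel_left s (F s), ← e]
    group
  simp only [map_mul, map_inv, h3]
  group

variable (f : Fr D)

theorem conj_iff (hy : y ∈ G) (hw : D.Rp w (y⁻¹ * F y)) (h : Lab D f.d f.ζ y θ c) (h' : Lab D f.d f.ζ y' θ' c')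
    (hm : D.Rp v m) (hF : F (y' * m * y⁻¹) = y' * m * y⁻¹) :
    Conj (GF F G) (cj y D.T) θ (cj y' D.T) θ' (y' * m * y⁻¹) ↔ Rel D v c c' := by
  have key : ∀ x, y' * m * y⁻¹ * nrm F f.d (y * D.τ (coch x f.ζ) * y⁻¹) * (y' * m * y⁻¹)⁻¹ =
      nrm F f.d (y' * D.τ (coch (D.Wm v *ᵥ x) f.ζ) * y'⁻¹) := fun x => by
    rw [← nrm_cj hF, ← mon_coch, ← D.conj_τ hm]
    congr 1
    group
  refine ⟨fun hc x => Units.ext ?_, fun hr => ⟨?_, fun t ht => ?_⟩⟩
  · rw [← h, ← h', ← key, hc.2 _ (nrm_mem f.L f.hζ hy hw x)]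
  · rw [← cj_mul, inv_mul_cancel_right, cj_mul, D.cj_T ⟨v, hm⟩]
  · obtain ⟨x, rfl⟩ := exists_nrm f.L f.hζ hy hw ht
    rw [key, h, h', hr]

theorem card_cosets {Γ W : Type*} [Group Γ] [Finite W] {H K : Subgroup Γ} [Finite K] {P : Γ → Prop} {Q : W → Prop}
    (q : Γ → W) (h1 : ∀ g ∈ H, P g → Q (q g)) (h2 : ∀ v, Q v → ∃ a, ∀ g, (g ∈ H ∧ P g ∧ q g = v) ↔ a⁻¹ * g ∈ K) :
    Nat.card {g : H // P g} = Nat.card {v // Q v} * Nat.card K := by
  refine St.card_of_fibers (fun g => (⟨q g.1, h1 _ g.1.2 g.2⟩ : {v // Q v})) Nat.card_pos.ne' ?_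
  rintro ⟨v, hv⟩
  obtain ⟨a, ha⟩ := h2 v hv
  have h3 : ∀ t : K, a * t ∈ H ∧ P (a * t) ∧ q (a * t) = v := fun t => (ha _).2 (by simp)
  exact Nat.card_congr ⟨fun g => ⟨a⁻¹ * g.1.1, (ha _).1 ⟨g.1.1.2, g.1.2, congrArg Subtype.val g.2⟩⟩,
    fun t => ⟨⟨⟨a * t, (h3 t).1⟩, (h3 t).2.1⟩, Subtype.ext (h3 t).2.2⟩, fun g => by simp, fun t => by simp⟩

theorem card_conj (hy : y ∈ G) (hw : D.Rp w (y⁻¹ * F y)) (hy' : y' ∈ G) (hw' : D.Rp w' (y'⁻¹ * F y'))
    (h : Lab D f.d f.ζ y θ c) (h' : Lab D f.d f.ζ y' θ' c') :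
    Nat.card {g : GF F G // Conj (GF F G) (cj y D.T) θ (cj y' D.T) θ' g} =
      Nat.card {v // Tc D v w w' ∧ Rel D v c c'} * Nat.card ↥(cj y D.T ⊓ GF F G) := by
  have := finite_inf_GF D (cj y D.T)
  have h1 : ∀ g ∈ GF F G, Conj (GF F G) (cj y D.T) θ (cj y' D.T) θ' g →
      D.Rp (D.pr (y'⁻¹ * (g * y))) (y'⁻¹ * (g * y)) := fun g hg hc =>
    D.rp_pr (St.mem_NN_of_cj D hy' (mul_mem hg.1 hy) (by rw [cj_mul, hc.1]))
  have h2 : ∀ g : Y, y' * (y'⁻¹ * (g * y)) * y⁻¹ = g := fun g => by group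
  refine card_cosets (fun g => D.pr (y'⁻¹ * (g * y))) (fun g hg hc => ?_) ?_
  · have h3 : F (y' * (y'⁻¹ * (g * y)) * y⁻¹) = y' * (y'⁻¹ * (g * y)) * y⁻¹ := by rw [h2]; exact hg.2
    exact ⟨tc_of_fix hw hw' (h1 g hg hc) h3, (conj_iff f hy hw h h' (h1 g hg hc) h3).1 (by rwa [h2])⟩
  rintro v ⟨h3, h4⟩
  obtain ⟨m, hm, hF⟩ := exists_fix hy hw hw' h3
  have h5 : y' * m * y⁻¹ ∈ GF F G := ⟨G.mul_mem (G.mul_mem hy' hm.mem_G) (G.inv_mem hy), hF⟩
  refine ⟨y' * m * y⁻¹, fun g => ⟨fun ⟨hg, hc, e⟩ => ⟨?_, (GF F G).mul_mem ((GF F G).inv_mem h5) hg⟩, fun ht => ?_⟩⟩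
  · have h9 := hm.unique (e ▸ h1 g hg hc)
    refine mem_cj.2 ?_
    convert h9 using 1
    group
  · have h6 : D.Rp v (y'⁻¹ * (g * y)) := by
      convert hm.mul_mem_right (mem_cj.1 ht.1) using 1
      group
    have h7 : g ∈ GF F G := by
      have := (GF F G).mul_mem h5 ht.2
      rwa [mul_inv_cancel_left] at this
    have h8 := (conj_iff f hy hw h h' h6 (by rw [h2]; exact h7.2)).2 h4
    rw [h2] at h8
    exact ⟨h7, h8, h6.pr_eq⟩

theorem RW_apply (w : D.W) (c : Lbl D) (g : GF F G) : RW f w c g = R D (Tw D w) (th f w c) g := rfl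

/-- the characters `RW` in an arbitrary frame -/
theorem R_eq_RW' (hy : y ∈ G) (hw : D.Rp w (y⁻¹ * F y)) (h : Lab D f.d f.ζ y θ c) (ht : Tc D v w w')
    (hr : Rel D v c c') (g : GF F G) : R D (cj y D.T) θ g = RW f w' c' g := by
  have h1 : Fx D w' c' := by
    have := (h.fx f.L f.hζ hy hw).rel hr
    rwa [← ht, mul_inv_cancel_right] at this
  obtain ⟨m, hm, hF⟩ := exists_fix hy hw (yw_rp D w') ht
  exact ((sys' D).R_eq_of_conj (mem_tori hy hw) ⟨G.mul_mem (G.mul_mem (yw_mem D w') hm.mem_G) (G.inv_mem hy), hF⟩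
    ((conj_iff f hy hw h (th_spec f h1).2 hm hF).2 hr) g g.2).symm

theorem R_eq_RW (hy : y ∈ G) (hw : D.Rp w (y⁻¹ * F y)) (h : Lab D f.d f.ζ y θ c) (g : GF F G) :
    R D (cj y D.T) θ g = RW f w c g := R_eq_RW' f hy hw h (tc_one w) (rel_one D c) g

theorem RW_zero (h : ¬ Fx D w c) : RW f w c = 0 := by
  funext g
  rw [RW_apply, th, dif_neg h, map_zero]
  rfl

theorem RW_gen (w : D.W) (c : Lbl D) : IsGeneralizedCharacter ↥(GF F G) (RW f w c) := by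
  by_cases h : Fx D w c
  · exact (sys' D).gen _ (Tw_mem w) _ (th_spec f h).1
  · rw [RW_zero f h]
    exact gen_of_char isCharacter_zero

theorem Tc.symm (h : Tc D v w w') : Tc D v⁻¹ w' w := by
  have h1 : w' * D.Fw v = v * w := h
  show w * D.Fw v⁻¹ = v⁻¹ * w'
  rw [map_inv, eq_inv_mul_iff_mul_eq, ← mul_assoc, ← h1, mul_inv_cancel_right]

theorem fx_of_tc (ht : Tc D v w w') (hr : Rel D v c c') (h : Fx D w c) : Fx D w' c' := by
  have := h.rel hr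
  rwa [← ht, mul_inv_cancel_right] at this

theorem RW_conj (ht : Tc D v w w') (hr : Rel D v c c') : RW f w c = RW f w' c' := by
  by_cases h : Fx D w c
  · exact funext (R_eq_RW' f (yw_mem D w) (yw_rp D w) (th_spec f h).2 ht hr)
  · rw [RW_zero f h, RW_zero f fun h' => h (fx_of_tc ht.symm hr.symm h')]

theorem RW_ip [Fintype ↥(GF F G)] (h : Fx D w c) (h' : Fx D w' c') :
    classInner (RW f w c) (RW f w' c') = Nat.card {v : D.W // Tc D v w w' ∧ Rel D v c c'} := by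
  rw [RW, RW, ← ip_eq_classInner, (sys' D).ip_R_R (Tw_mem w) (Tw_mem w') (th_spec f h).1 (th_spec f h').1]
  have := card_conj f (yw_mem D w) (yw_rp D w) (yw_mem D w') (yw_rp D w') (th_spec f h).2 (th_spec f h').2
  rw [Tw, Tw, this, Nat.cast_mul, mul_div_cancel_right₀ _ ((sys' D).cardT_ne _)]

theorem RW_all {T : Subgroup Y} (hT : T ∈ tori D) (hθ : IsLin (T ⊓ GF F G) θ) :
    ∃ w c, Fx D w c ∧ res (GF F G) (R D T θ) = RW f w c := by
  obtain ⟨y, hy, w, hw, rfl⟩ := exists_y hT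
  obtain ⟨c, hc⟩ := exists_lab f.L f.hζ hy hw hθ
  exact ⟨w, c, hc.fx f.L f.hζ hy hw, funext (R_eq_RW f hy hw hc)⟩

theorem fx_gal (σ : ℂ ≃+* ℂ) : Fx D w (fun j => Units.map (σ : ℂ →* ℂ) (c j)) ↔ Fx D w c := by
  refine forall_congr' fun x => ?_
  rw [chr_gal, chr_gal, (Units.map_injective σ.injective).eq_iff]

theorem RW_gal (σ : ℂ ≃+* ℂ) (w : D.W) (c : Lbl D) (g : GF F G) :
    RW f w (fun j => Units.map (σ : ℂ →* ℂ) (c j)) g = σ (RW f w c g) := by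
  have := finite_GF D
  have := Fintype.ofFinite (GF F G)
  by_cases h : Fx D w c
  · rw [RW_apply f w c, ← R_gal σ (Tw_mem w) _ g.2]
    exact (R_eq_RW f (yw_mem D w) (yw_rp D w)
      (fun x => by rw [chr_gal]; exact congrArg σ ((th_spec f h).2 x)) g).symm
  · rw [RW_zero f h, RW_zero f fun h' => h ((fx_gal σ).1 h'), Pi.zero_apply, map_zero]

/-! ### sums over the tori -/

theorem card_fiber_type (w : D.W) :
    Nat.card {y : St.Zf D // D.pr (y.1⁻¹ * F y.1) = w} = Nat.card (GF F G) := by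
  obtain ⟨x, hx, e⟩ := D.lang_G (D.NN_le_G (St.rp_mem D w))
  refine Eq.trans (Nat.card_congr ?_) (St.card_lang F.toMonoidHom hx e)
  refine ⟨fun y => ⟨y.1.1, y.1.2.1, ?_⟩, fun y => ⟨⟨y.1, y.2.1, w, y.2.2.symm⟩, ?_⟩, fun _ => rfl, fun _ => rfl⟩
  · obtain ⟨⟨y, h1, v, h2⟩, h3⟩ := y
    dsimp only at h3 ⊢
    rw [h2, St.pr_rp] at h3
    rw [← h3]
    exact h2.symm
  · have h : St.rp D w = y.1⁻¹ * F y.1 := y.2.2
    show D.pr (y.1⁻¹ * F y.1) = w
    rw [← h, St.pr_rp]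

theorem sum_fib {X Z : Type*} [Fintype X] [Fintype Z] (q : X → Z) (a : Z → ℂ) :
    ∑ x, a (q x) = ∑ z, (Nat.card {x // q x = z} : ℂ) * a z := by
  classical
  rw [← Finset.sum_fiberwise Finset.univ q]
  refine Finset.sum_congr rfl fun z _ => ?_
  rw [Finset.sum_congr rfl fun x hx => by rw [(Finset.mem_filter.1 hx).2], Finset.sum_const, nsmul_eq_mul,
    Nat.card_eq_fintype_card, Fintype.card_subtype]

variable (D) in
/-- a weighted sum over the tori is an average over the Weyl group -/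
theorem sum_tori (g : Subgroup Y → ℂ) (a : D.W → ℂ)
    (h : ∀ y ∈ G, ∀ w, D.Rp w (y⁻¹ * F y) → g (cj y D.T) = a w) :
    ∑ T ∈ (sys' D).tori, (wt (GF F G) T : ℂ) * g T = (Nat.card D.W : ℂ)⁻¹ * ∑ᶠ w, a w := by
  have := St.finite_Zf D
  have := Fintype.ofFinite (St.Zf D)
  have := Fintype.ofFinite D.W
  have : Fintype (tori D) := (St.finite_tori D).fintype
  have h1 := sum_fib (St.Zf.tor D) fun T => g T
  have h2 := sum_fib (fun y : St.Zf D => D.pr (y.1⁻¹ * F y.1)) a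
  rw [← Finset.sum_congr rfl fun (y : St.Zf D) _ => h y.1 y.2.1 _ (D.rp_pr (St.Zf.mem D y))] at h2
  have h3 := h1.symm.trans h2
  simp only [St.card_fiber_tor, card_fiber_type, Nat.cast_mul, mul_assoc, ← Finset.mul_sum] at h3
  rw [Finset.sum_subtype (sys' D).tori (p := fun T => T ∈ tori D) fun T => (sys' D).mem_tori,
    finsum_eq_sum_of_fintype, eq_inv_mul_iff_mul_eq₀ (Nat.cast_ne_zero.2 Nat.card_pos.ne')]
  simp only [wt_coe, div_mul_eq_mul_div, ← Finset.sum_div]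
  rw [← mul_div_assoc, h3, mul_div_cancel_left₀ _ (sys' D).cardH_ne]

theorem usum_eq (φ : Subgroup Y → Y → ℂ) (g : Y) (a : D.W → ℂ)
    (h : ∀ y ∈ G, ∀ w, D.Rp w (y⁻¹ * F y) → R D (cj y D.T) (φ (cj y D.T)) g = a w) :
    usum (GF F G) (tori D) (R D) φ g = (Nat.card D.W : ℂ)⁻¹ * ∑ᶠ w, a w := by
  rw [(sys' D).usum_apply]
  exact sum_tori D (fun T => R D T (φ T) g) a h

theorem finsum_subtype_eq_finsum {α M : Type*} [AddCommMonoid M] (a : α → M) (P : α → Prop)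
    (h : ∀ x, ¬ P x → a x = 0) : ∑ᶠ x : {x // P x}, a x = ∑ᶠ x, a x := by
  classical
  rw [finsum_subtype_eq_finsum_cond]
  refine finsum_congr fun x => ?_
  rw [finsum_eq_if]
  split_ifs with h1
  · rfl
  · exact (h x h1).symm

/-- a sum over the characters of a torus is a sum over the labels -/
theorem sum_lab {M : Type*} [AddCommMonoid M] (hy : y ∈ G) (hw : D.Rp w (y⁻¹ * F y))
    [Fintype (↥(cj y D.T ⊓ GF F G) →* ℂˣ)] (Φ : (GF F G → ℂ) → M) (h0 : Φ 0 = 0) :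
    ∑ θ : ↥(cj y D.T ⊓ GF F G) →* ℂˣ, Φ (res (GF F G) (R D (cj y D.T) (lin θ))) = ∑ᶠ c : Lbl D, Φ (RW f w c) := by
  have := finite_Fx D w
  have := Fintype.ofFinite {c : Lbl D // Fx D w c}
  choose l hl using fun θ : ↥(cj y D.T ⊓ GF F G) →* ℂˣ => exists_lab f.L f.hζ hy hw (isLin_lin θ)
  rw [← finsum_subtype_eq_finsum (fun c => Φ (RW f w c)) (Fx D w) fun c hc => by rw [RW_zero f hc, h0],
    finsum_eq_sum_of_fintype]
  refine Fintype.sum_bijective (fun θ => ⟨l θ, (hl θ).fx f.L f.hζ hy hw⟩) ⟨fun θ θ' e => ?_, fun c => ?_⟩ _ _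
    fun θ => congrArg Φ (funext (R_eq_RW f hy hw (hl θ)))
  · refine MonoidHom.ext fun t => Units.ext ?_
    rw [← lin_coe, ← lin_coe]
    exact (hl θ).ext f.L f.hζ hy hw (by rw [show l θ = l θ' from congrArg Subtype.val e]; exact hl θ') t t.2
  · obtain ⟨θ, h1, h2⟩ := exists_theta f.L f.hζ hy hw c.2
    refine ⟨h1.hom, Subtype.ext (eq_of_chr D fun x => Units.ext ?_)⟩
    rw [← hl, ← h2, h1.lin_hom _ (nrm_mem f.L f.hζ hy hw x)]

theorem lab_one (y : Y) : Lab D f.d f.ζ y 1 1 := fun x => by rw [map_one]; rfl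

theorem avg_top (φ : D.W → ℂ) (c : Lbl D) (g : GF F G) :
    avg f ⊤ φ 1 c g = (Nat.card D.W : ℂ)⁻¹ * ∑ᶠ w, φ w * RW f w c g := by
  rw [avg, Subgroup.card_top, ← finsum_comp_equiv (Subgroup.topEquiv (G := D.W)).toEquiv]
  simp only [mul_one]
  rfl

theorem avg_one : avg f ⊤ (fun _ => 1) 1 1 = fun _ => 1 := by
  funext g
  rw [avg_top]
  have h1 := (sys' D).pconst_eq_usum (φ := 1) ⟨isCls_one, fun _ _ _ _ _ _ _ => rfl⟩ g g.2
  rw [usum_eq (D := D) (fun _ => 1) (g : Y) (fun w => 1 * RW f w 1 g) fun y hy w hw => by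
    rw [one_mul, R_eq_RW f hy hw (lab_one f y)]] at h1
  exact h1.symm

theorem bessel [Fintype ↥(GF F G)] (χ : GF F G → ℂ) :
    ((Nat.card D.W : ℝ)⁻¹ * ∑ᶠ (w : D.W) (c : Lbl D), ‖classInner χ (RW f w c)‖ ^ 2) ≤ (classInner χ χ).re := by
  have h0 : res (GF F G) (extendByZero (GF F G) χ) = χ := funext fun g => extendByZero_of_mem _ _ g.2
  have S := sys' D
  have h1 := S.bessel (extendByZero (GF F G) χ)
  rw [ip_eq_classInner (extendByZero _ _), h0, S.ip_pr_pr,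
    sum_tori D _ (fun w => ((∑ᶠ c : Lbl D, ‖classInner χ (RW f w c)‖ ^ 2 : ℝ) : ℂ)) fun y hy w hw => ?_] at h1
  · have := Fintype.ofFinite D.W
    rw [finsum_eq_sum_of_fintype, ← Complex.ofReal_sum, ← Complex.ofReal_natCast, ← Complex.ofReal_inv,
      ← Complex.ofReal_mul, Complex.ofReal_re] at h1
    rwa [finsum_eq_sum_of_fintype]
  · have := S.finT (cj y D.T)
    have := finite_hom (cj y D.T ⊓ GF F G)
    have := Fintype.ofFinite (↥(cj y D.T ⊓ GF F G) →* ℂˣ)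
    rw [parseval (S.comm _ (mem_tori hy hw)), ← sum_lab f hy hw (fun ψ => ‖classInner χ ψ‖ ^ 2) (by simp [classInner]),
      Complex.ofReal_sum]
    refine Finset.sum_congr rfl fun θ _ => ?_
    rw [← S.ip_rst (mem_tori hy hw), ip_eq_classInner, h0, Complex.mul_conj', Complex.ofReal_pow]

theorem val_one [Fintype ↥(GF F G)] (χ : GF F G → ℂ) :
    χ 1 = (Nat.card D.W : ℂ)⁻¹ * ∑ᶠ (w : D.W) (c : Lbl D), classInner χ (RW f w c) * RW f w c 1 := by
  have h0 : res (GF F G) (extendByZero (GF F G) χ) = χ := funext fun g => extendByZero_of_mem _ _ g.2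
  have S := sys' D
  obtain ⟨St, hSt⟩ := St.stD D
  have h1 := S.ip_pr_unif (extendByZero (GF F G) χ) (hSt.unif_dl_one S)
  rw [ip_dl_right _ (one_mem _), ip_dl_right _ (one_mem _), mul_right_inj' (inv_ne_zero S.cardH_ne)] at h1
  refine (congrFun h0 1).symm.trans (h1.symm.trans (usum_eq _ 1 _ fun y hy w hw => ?_))
  have := S.finT (cj y D.T)
  have := finite_hom (cj y D.T ⊓ GF F G)
  have := Fintype.ofFinite (↥(cj y D.T ⊓ GF F G) →* ℂˣ)
  rw [S.R_eq_sum_lin (mem_tori hy hw) _ 1 (one_mem _), Finset.sum_apply,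
    ← sum_lab f hy hw (fun ψ => classInner χ ψ * ψ 1) (by simp)]
  refine Finset.sum_congr rfl fun θ _ => ?_
  rw [← S.ip_rst (mem_tori hy hw), ip_eq_classInner, h0]
  rfl

/-! ### central elements, linear characters -/

theorem R_central {T : Subgroup Y} {z g : Y} (hz : z ∈ T ⊓ GF F G) (hc : ∀ y ∈ G, y * z = z * y)
    (hθ : IsLin (T ⊓ GF F G) θ) (hg : g ∈ G) : R D T θ (z * g) = θ z * R D T θ g := by
  have := finite_inf_GF D T
  have := Fintype.ofFinite ↥(T ⊓ GF F G)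
  have h1 : ∀ t ∈ G, CF.lam F G (Vof D T) (z * g) (z * t) = CF.lam F G (Vof D T) g t := fun t ht =>
    congrArg CF.glef (funext fun m => congrArg Nat.cast (Nat.card_congr (Equiv.subtypeEquivRight fun x => by
      simp only [CF.mem_pts]
      refine and_congr_right fun hx => and_congr_right fun _ => ?_
      rw [show z * g * x * (z * t)⁻¹ = z * (g * x * t⁻¹) * z⁻¹ by group,
        ← hc _ (G.mul_mem (G.mul_mem hg hx) (G.inv_mem ht)), mul_inv_cancel_right])))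
  rw [R, CF.ind_apply', CF.ind_apply', mul_left_comm, Finset.mul_sum _ _ (θ z),
    ← Equiv.sum_comp (Equiv.mulLeft (⟨z, hz⟩ : ↥(T ⊓ GF F G)))]
  refine congrArg _ (Finset.sum_congr rfl fun t _ => ?_)
  rw [Equiv.coe_mulLeft, Subgroup.coe_mul, h1 _ t.2.2.1, hθ.mul _ hz _ t.2, mul_left_comm]

theorem central_mem {z : Y} (hz : z ∈ G) (hc : ∀ y ∈ G, y * z = z * y) (hy : y ∈ G) : z ∈ cj y D.T := by
  rw [mem_cj, mul_assoc, ← hc y hy, inv_mul_cancel_left, ← D.centralizer_T]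
  exact ⟨hz, fun t ht => hc t (D.T_le_G ht)⟩

theorem τ_central {a : D.R → kˣ} (h : ∀ b, D.Rt b → chr (D.wt b) a = 1) : ∀ y ∈ G, y * D.τ a = D.τ a * y := by
  have h1 : G ≤ Subgroup.centralizer {D.τ a} := by
    refine D.G_eq.ge.trans (sup_le (fun t ht z hz => ?_) (RGD.Sup_le fun b hb x hx z hz => ?_))
    · rw [hz]
      exact D.T_comm (D.τ_mem a) ht
    · obtain ⟨u, rfl⟩ := (D.mem_X b hb x).1 hx
      have := D.tor b hb a u
      rw [h b hb, Units.val_one, one_mul] at this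
      rw [hz]
      exact mul_inv_eq_iff_eq_mul.1 this
  exact fun y hy => (h1 hy _ rfl).symm

variable (D) in
include D in
theorem nrm_central {z : Y} (hc : ∀ y ∈ G, y * z = z * y) (d : ℕ) : ∀ y ∈ G, y * nrm F d z = nrm F d z * y := by
  have h1 : ∀ n, ∀ y ∈ G, y * (F ^ n) z = (F ^ n) z * y := fun n => by
    induction n with
    | zero => exact hc
    | succ n ih =>
      intro y hy
      obtain ⟨y, rfl⟩ := F.surjective y
      rw [pow_succ_apply, ← map_mul, ← map_mul, ih y ((D.F_mem_G_iff y).1 hy)]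
  induction d with
  | zero => simp [nrm_zero]
  | succ d ih =>
    intro y hy
    rw [nrm_succ, ← mul_assoc, ih y hy, mul_assoc, h1 d y hy, mul_assoc]

theorem RW_cen (z : GF F G) (x : D.R → ℤ) (hx : ∀ a, D.wt a ⬝ᵥ x = 0) (hz : (z : Y) = nrm F f.d (D.τ (coch x f.ζ)))
    (w : D.W) (c : Lbl D) (g : GF F G) : RW f w c (z * g) = chr x c * RW f w c g := by
  by_cases h : Fx D w c
  · have h1 := τ_central (D := D) (a := coch x f.ζ) fun b _ => by
      rw [chr_coch, show ∑ j, D.wt b j * x j = 0 from hx b, zpow_zero]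
    have h2 := nrm_central D h1 f.d
    rw [← hz] at h2
    rw [RW_apply, RW_apply, Subgroup.coe_mul,
      R_central (T := Tw D w) ⟨central_mem z.2.1 h2 (yw_mem D w), z.2⟩ h2 (th_spec f h).1 g.2.1, ← (th_spec f h).2 x,
      h1 _ (yw_mem D w), mul_inv_cancel_right, hz]
  · simp [RW_zero f h]

theorem RW_cen' (z : GF F G) (hz : ∀ y ∈ G, y * z = z * y) (w : D.W) (c : Lbl D) (n : ℕ) (hc : c ^ n = 1)
    (hn : n.Coprime (orderOf z)) (g : GF F G) : RW f w c (z * g) = RW f w c g := by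
  by_cases h : Fx D w c
  · have h1 : (z : Y) ∈ Tw D w ⊓ GF F G := ⟨central_mem z.2.1 hz (yw_mem D w), z.2⟩
    rw [RW_apply, RW_apply, Subgroup.coe_mul, R_central h1 hz (th_spec f h).1 g.2.1]
    obtain ⟨x, hx⟩ := exists_nrm f.L f.hζ (yw_mem D w) (yw_rp D w) h1
    have h2 : (th_spec f h).1.hom ⟨z, h1⟩ = chr x c := Units.ext (by rw [← (th_spec f h).2 x, ← hx]; rfl)
    have h3 : orderOf (chr x c) ∣ n := orderOf_dvd_of_pow_eq_one (by rw [← map_pow, hc, map_one])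
    have h4 : orderOf (chr x c) ∣ orderOf z := orderOf_dvd_of_pow_eq_one (by
      rw [← h2, ← map_pow, ← map_one (th_spec f h).1.hom]
      exact congrArg _ (Subtype.ext (congrArg (fun x : GF F G => (x : Y)) (pow_orderOf_eq_one z))))
    have h5 : th f w c z = 1 := congrArg Units.val (h2.trans (orderOf_eq_one_iff.1 (Nat.eq_one_of_dvd_coprimes hn h3 h4)))
    rw [h5, one_mul]
  · simp [RW_zero f h]

end Cfsg.Agent.KZ.Lie
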