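import Cfsg.Agent.KZ.Lie.McLev
import Cfsg.Agent.Blocks.ExistsModular

/-!
# KZ, the membership test (helper22)

* `mc_of_lev` : `LevC`, `RegC`, `CardC` give `Mc`;
* `mc_of_syl` : `SylC`, `RegC` give `Mc`;
* `card_of_le` : a criterion for `CardC`.
-/

set_option autoImplicit false
set_option linter.unusedSectionVars false

namespace Cfsg.Agent.KZ.Lie

open Cfsg Cfsg.Agent.DL Cfsg.Agent.DL.PP Cfsg.Agent.DL.Uni Cfsg.Agent.DL.Asm Cfsg.Agent.Nodes.Reps Matrix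
  Cfsg.Agent.Characters.Core Cfsg.Agent.Blocks.Local Cfsg.Agent.Blocks

variable {p : ℕ} [Fact p.Prime] {k : Type} [Field k] [CharP k p] {Y : Type} [Group Y] {N : Type} [Fintype N]
  [DecidableEq N] {ρ : Y →* GL N k} {F : MulAut Y} {G : Subgroup Y} [IsAlgClosed k] {D : Datum p ρ F G} {w₀ : D.W}

variable (D w₀) in
/-- the normaliser of the torus of type `w₀` has index prime to `3` -/
def CardC : Prop := (Nat.card ↥(GF F G)).factorization 3 = (ordT D w₀ * Nat.card (CW D w₀)).factorization 3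

theorem card_Nz_Tw (w : D.W) : Nat.card (Nz F G (Tw D w)) = ordT D w * Nat.card (CW D w) :=
  card_Nz (yw_mem D w) (yw_rp D w)

theorem fact_le_card (w : D.W) :
    (ordT D w * Nat.card (CW D w)).factorization 3 ≤ (Nat.card ↥(GF F G)).factorization 3 := by
  have := finite_GF D
  rw [← card_Nz_Tw]
  exact (Nat.factorization_le_iff_dvd Nat.card_pos.ne' Nat.card_pos.ne').2 (Subgroup.card_subgroup_dvd_card _) 3

/-- the type of a torus which is normalised by a Sylow subgroup -/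
theorem card_le_fact (P : Sylow 3 (GF F G)) {y : Y} {w : D.W} (hy : y ∈ G) (hw : D.Rp w (y⁻¹ * F y))
    (h : (P : Subgroup (GF F G)) ≤ Nz F G (cj y D.T)) : CardC D w := by
  have := finite_GF D
  have : Fact (Nat.Prime 3) := ⟨Nat.prime_three⟩
  refine le_antisymm ?_ (fact_le_card w)
  have h1 := Subgroup.card_dvd_of_le h
  rwa [P.card_eq_multiplicity, Nat.prime_three.pow_dvd_iff_le_factorization Nat.card_pos.ne', card_Nz hy hw] at h1

theorem CardC.exists_sylow (h : CardC D w₀) :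
    ∃ P : Sylow 3 (GF F G), (P : Subgroup (GF F G)) ≤ Nz F G (Tw D w₀) := by
  have := finite_GF D
  have : Fact (Nat.Prime 3) := ⟨Nat.prime_three⟩
  obtain ⟨Q⟩ : Nonempty (Sylow 3 (Nz F G (Tw D w₀))) := inferInstance
  exact ⟨Sylow.ofCard ((Q : Subgroup _).map (Nz F G (Tw D w₀)).subtype) (by
    rw [Subgroup.card_map_of_injective (Subgroup.subtype_injective _), Q.card_eq_multiplicity, card_Nz_Tw, h]),
    Subgroup.map_subtype_le _⟩

variable (D) in
/-- the tori fixed by a Sylow subgroup -/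
theorem exists_fixed (hp : p ≠ 3) (P : Sylow 3 (GF F G)) : ∃ X : Finset (Subgroup Y), ¬ 3 ∣ X.card ∧
    ∀ T, T ∈ X ↔ T ∈ tori D ∧ ∀ u ∈ (P : Subgroup (GF F G)).map (GF F G).subtype, cj u T = T := by
  classical
  obtain ⟨M, hM⟩ := ExistsModular.exists_isPModular Nat.prime_three
  obtain ⟨St, hSt⟩ := DL.St.stD D
  have h : ∀ T, T ∈ (sys' D).tori.filter (fun T => ∀ u ∈ (P : Subgroup (GF F G)).map (GF F G).subtype, cj u T = T) ↔
      T ∈ tori D ∧ ∀ u ∈ (P : Subgroup (GF F G)).map (GF F G).subtype, cj u T = T := fun T => by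
    rw [Finset.mem_filter, (sys' D).mem_tori]
  exact ⟨_, not_dvd_fixed (sys' D) hM (P.2.map _) (Subgroup.map_subtype_le _) h hSt hp, h⟩

variable (D) in
/-- some torus has a normaliser of index prime to `3` -/
theorem exists_cardC (hp : p ≠ 3) : ∃ w, CardC D w := by
  obtain ⟨P⟩ : Nonempty (Sylow 3 (GF F G)) := inferInstance
  obtain ⟨X, h1, h2⟩ := exists_fixed D hp P
  obtain ⟨T, hT⟩ := Finset.card_ne_zero.1 (fun h => h1 (h ▸ dvd_zero 3) : X.card ≠ 0)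
  obtain ⟨y, hy, w, hw, rfl⟩ := exists_y ((h2 T).1 hT).1
  exact ⟨w, card_le_fact P hy hw fun u hu => mem_Nz.2 (((h2 _).1 hT).2 u ⟨u, hu, rfl⟩)⟩

theorem card_of_le (hp : p ≠ 3) (h : ∀ w, (ordT D w * Nat.card (CW D w)).factorization 3 ≤
    (ordT D w₀ * Nat.card (CW D w₀)).factorization 3) : CardC D w₀ := by
  obtain ⟨w, hw⟩ := exists_cardC D hp
  exact le_antisymm (hw.le.trans (h w)) (fact_le_card w₀)

theorem SylC.tc (h : SylC D w₀) {w : D.W} (hw : CardC D w) : ∃ v, Tc D v w₀ w := by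
  by_contra h1
  exact absurd (h w (not_exists.1 h1)) (not_lt.2 ((fact_le_card w₀).trans hw.le))

theorem SylC.cardC (h : SylC D w₀) (hp : p ≠ 3) : CardC D w₀ := by
  obtain ⟨w, hw⟩ := exists_cardC D hp
  obtain ⟨v, hv⟩ := h.tc hw
  obtain ⟨g, hg, e⟩ := conj_of_tc (yw_mem D w) (yw_rp D w) (yw_mem D w₀) (yw_rp D w₀) hv.symm
  obtain ⟨P, hP⟩ := hw.exists_sylow
  have : Fact (Nat.Prime 3) := ⟨Nat.prime_three⟩
  refine card_le_fact ((⟨g, hg⟩ : GF F G) • P) (yw_mem D w₀) (yw_rp D w₀) ?_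
  rintro _ ⟨u, hu, rfl⟩
  refine mem_Nz.2 ?_
  show cj (g * u * g⁻¹) _ = _
  rw [e, ← cj_mul, inv_mul_cancel_right, cj_mul]
  exact congrArg _ (mem_Nz.1 (hP hu))

variable (f : Fr D) [Fintype ↥(GF F G)]

theorem mc_of_congr (hp : p ≠ 3) (hR : RegC D w₀) (hC : CardC D w₀) (P : Sylow 3 (GF F G)) {X : Finset (Subgroup Y)}
    (hX : ¬ 3 ∣ X.card) (h0 : ∀ T ∈ X, ∃ h ∈ GF F G, T = cj h (Tw D w₀))
    (h1 : ∀ T ∈ X, ∀ u ∈ (P : Subgroup (GF F G)), cj (u : Y) T = T)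
    (h3 : ∀ M, IsPModular 3 M → ∀ χ : Y → ℂ, IsGeneralizedCharacter (GF F G) (res (GF F G) χ) →
      ∀ y ∈ Subgroup.centralizer ((P : Subgroup (GF F G)) : Set (GF F G)), (∀ T ∈ X, (y : Y) ∈ T) → ¬ 3 ∣ orderOf y →
        MemLocalIdeal M (X.card * χ y - ∑ T ∈ X, rst (GF F G) (R D) T χ y)) : Mc f w₀ := by
  have h2 : ∀ T ∈ X, ∀ y ∈ Subgroup.centralizer ((P : Subgroup (GF F G)) : Set (GF F G)), ¬ 3 ∣ orderOf y →
      (y : Y) ∈ T := fun T hT y hy ho => by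
    obtain ⟨h, hh, rfl⟩ := h0 T hT
    exact cent_mem hp hR hh P (fun u hu => mem_Nz.2 (h1 _ hT u hu)) hy ho
  have key : ∀ M, IsPModular 3 M → ∀ χ : IrrCharacter ↥(GF F G), ∀ m : ℤ, mS f w₀ χ = m → (Mem M χ ↔ ¬ 3 ∣ m) :=
    fun M hM χ m hm => by
      have e : res (GF F G) (extendByZero (GF F G) χ) = χ := funext fun x => extendByZero_of_mem _ _ x.2
      rw [mem_iff_m3 (sys' D) hM P (Tw_mem w₀) hX h0 h1 h2 χ e fun y hy ho =>
        h3 M hM _ (by rw [e]; exact gen_of_irr χ.2) y hy (fun T hT => h2 T hT y hy ho) ho, ← mS_eq f, e, hm,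
        memLocalIdeal_intCast_iff hM]
      rfl
  exact ⟨hC, fun M hM χ _ => key M hM χ, fun _ => key⟩

/-- **The membership test**, through a chain of Levi subgroups. -/
theorem mc_of_lev (hp : p ≠ 3) (hL : LevC D w₀) (hR : RegC D w₀) (hC : CardC D w₀) : Mc f w₀ := by
  obtain ⟨P, hP⟩ := hC.exists_sylow
  refine mc_of_congr f hp hR hC P (X := {Tw D w₀}) (by simp) (fun T hT => ⟨1, one_mem _, ?_⟩) (fun T hT u hu => ?_)
    fun M hM χ hχ y _ hy ho => ?_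
  · rw [cj_one, Finset.mem_singleton.1 hT]
  · rw [Finset.mem_singleton.1 hT]
    exact mem_Nz.1 (hP hu)
  · rw [Finset.card_singleton, Nat.cast_one, one_mul, Finset.sum_singleton]
    exact lev_congr hp hM hL hχ ⟨hy _ (Finset.mem_singleton_self _), y.2⟩ (by rwa [Subgroup.orderOf_coe])

/-- **The membership test**, if the type of the Sylow torus is unique. -/
theorem mc_of_syl (hp : p ≠ 3) (hS : SylC D w₀) (hR : RegC D w₀) : Mc f w₀ := by
  obtain ⟨P⟩ : Nonempty (Sylow 3 (GF F G)) := inferInstance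
  obtain ⟨X, h1, h2⟩ := exists_fixed D hp P
  obtain ⟨St, hSt⟩ := DL.St.stD D
  have h3 : ∀ T ∈ X, ∀ u ∈ (P : Subgroup (GF F G)), cj (u : Y) T = T := fun T hT u hu => ((h2 T).1 hT).2 u ⟨u, hu, rfl⟩
  have h0 : ∀ T ∈ X, ∃ h ∈ GF F G, T = cj h (Tw D w₀) := fun T hT => by
    obtain ⟨y, hy, w, hw, rfl⟩ := exists_y ((h2 T).1 hT).1
    obtain ⟨v, hv⟩ := hS.tc (card_le_fact P hy hw fun u hu => mem_Nz.2 (h3 _ hT u hu))
    exact conj_of_tc (yw_mem D w₀) (yw_rp D w₀) hy hw hv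
  refine mc_of_congr f hp hR (hS.cardC hp) P h1 h0 h3 fun M hM χ hχ y hc hy _ =>
    congr_fixed (sys' D) hM (P.2.map _) (Subgroup.map_subtype_le _) h2 hSt (Tw_mem w₀) h0 hχ y.2 ?_ hy
  rintro _ ⟨u, hu, rfl⟩
  exact congrArg Subtype.val (hc u hu)

end Cfsg.Agent.KZ.Lie
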