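import Cfsg.Agent.KZ.Lie.ApiC

/-!
# KZ-UNIF, part E: linear characters of `G ^ F` (helper87)

* `PL.ext` : `G ^ F` is generated by its `p`-elements and the quasi-split torus;
* `Unif D` : a linear character which is trivial on the `p`-elements has one central label on all frames;
* `RW_lin_of` : the field `lin` of `Api` from `Unif D`; `RW_lin` : the same from `ExLin D` and `Cen D`.
-/

set_option autoImplicit false
set_option linter.unusedSectionVars false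

namespace Cfsg.Agent.KZ.Lie

open Cfsg Cfsg.Agent.DL Cfsg.Agent.DL.PP Cfsg.Agent.DL.Uni Cfsg.Agent.DL.Asm Cfsg.Agent.Nodes.Reps Matrix
  Cfsg.Agent.DL.Mk Cfsg.Agent.Nodes.BNOf Cfsg.Agent.KZ.Levi Cfsg.Agent.ChevalleyStructure.CoxeterGeom
  Cfsg.Agent.Tits.Roots Cfsg.Agent.DL.Base CoxeterSystem

variable {p : ℕ} [Fact p.Prime] {k : Type} [Field k] [CharP k p] {Y : Type} [Group Y] {N : Type} [Fintype N]
  [DecidableEq N] {ρ : Y →* GL N k} {F : MulAut Y} {G : Subgroup Y} [IsAlgClosed k] {D : Datum p ρ F G}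
  {y y' : Y} {w w' v : D.W} {θ θ' : Y → ℂ} {c c' : Lbl D}

namespace ApiE

/-- a linear character of `H` which is trivial on the `p`-elements -/
structure PL (p : ℕ) (H : Subgroup Y) (θ : Y → ℂ) : Prop where
  lin : IsLin H θ
  uni : ∀ u ∈ H, IsUni p u → θ u = 1

theorem PL.mono {H H' : Subgroup Y} (h : PL p H θ) (hH : H' ≤ H) : PL p H' θ :=
  ⟨h.lin.mono hH, fun u hu => h.uni u (hH hu)⟩

theorem pl_lin {μ : ↥(GF F G) →* ℂˣ} (h : Pt p μ) : PL p (GF F G) (lin μ) :=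
  ⟨isLin_lin μ, fun u hu h' => by rw [lin_apply μ hu, h ⟨u, hu⟩ h', Units.val_one]⟩

theorem PL.pt (h : PL p (GF F G) θ) : Pt p h.lin.hom := fun u hu => Units.ext (h.uni u u.2 hu)

theorem PL.cls {H : Subgroup Y} (h : PL p H θ) {g t : Y} (hg : g ∈ H) (ht : t ∈ H) : θ (g * t * g⁻¹) = θ t :=
  (pconst_of_lin h.lin h.uni).cls t ht g hg

/-- generation by the `p`-elements and the quasi-split torus -/
theorem eq_top (h : D.QS) (K : Subgroup ↥(GF F G)) [K.Normal] (hU : ∀ u : ↥(GF F G), IsUni p (u : Y) → u ∈ K)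
    (hT : ∀ t : ↥(GF F G), (t : Y) ∈ D.T → t ∈ K) : K = ⊤ := by
  have := finite_GF D
  have h1 := St.card_U D.sbn (St.aut_qs h) (H := GF F G) (fun _ => mem_GF) D.isPGroup_U
    (fun _ => St.eq_one_of_pow D) (St.move h)
  have h2 : ∀ u ∈ D.U, IsUni p u := fun u hu => by
    obtain ⟨n, hn⟩ := D.isPGroup_U ⟨u, hu⟩
    obtain ⟨j, -, hj⟩ := (Nat.dvd_prime_pow Fact.out).1 (orderOf_dvd_of_pow_eq_one (congrArg Subtype.val hn))
    exact ⟨j, hj⟩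
  let P : Sylow p ↥(GF F G) := Sylow.ofCard (D.U.subgroupOf (GF F G)) (by
    rw [← h1, ← Subgroup.inf_subgroupOf_right]
    exact Nat.card_congr (Subgroup.subgroupOfEquivOfLe inf_le_right).toEquiv)
  rw [← P.normalizer_sup_eq_top' (N := K) fun u hu => hU u (h2 _ hu), eq_comm, sup_eq_right]
  intro g hg
  have h3 : (g : Y) ∈ St.Par D.sbn ∅ := by
    by_contra hB
    obtain ⟨i, a, ha, h3⟩ := St.exists_descent D.sbn g.2.1 hB
    obtain ⟨u, hu, h4, h5⟩ := St.move h i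
    exact h5 a ha (h3 u hu (St.U_le_Par D.sbn _
      ((Subgroup.mem_normalizer_iff''.1 hg ⟨u, D.U_le_G hu, h4⟩).1 hu)))
  obtain ⟨u, hu, t, ht, e⟩ := (St.mem_Par_empty D.sbn).1 h3
  have h4 : F t = t := (St.aut_qs h).mid_fix D.sbn (D.T_le_NN ht) ⟨u, hu, 1, one_mem _, by rw [e, mul_one]⟩ g.2.2
  have h5 : t ∈ GF F G := ⟨D.T_le_G ht, h4⟩
  have h6 := mul_mem (hU (g * (⟨t, h5⟩ : ↥(GF F G))⁻¹) (h2 _ (by simpa [e] using hu))) (hT ⟨t, h5⟩ ht)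
  rwa [inv_mul_cancel_right] at h6

theorem PL.ext (h : D.QS) (h1 : PL p (GF F G) θ) (h2 : PL p (GF F G) θ') (e : ∀ t ∈ D.T ⊓ GF F G, θ t = θ' t) :
    ∀ g ∈ GF F G, θ g = θ' g := by
  have h3 : ∀ g : ↥(GF F G), g ∈ (h1.lin.hom / h2.lin.hom).ker ↔ θ g = θ' g := fun g => by
    rw [MonoidHom.mem_ker, MonoidHom.div_apply, div_eq_one, Units.ext_iff]
    rfl
  have h4 := eq_top h _ (fun u hu => (h3 u).2 (by rw [h1.uni u u.2 hu, h2.uni u u.2 hu]))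
    fun t ht => (h3 t).2 (e t ⟨ht, t.2⟩)
  exact fun g hg => (h3 ⟨g, hg⟩).1 (h4 ▸ Subgroup.mem_top _)

theorem rp11 : D.Rp 1 ((1 : Y)⁻¹ * F 1) := by
  rw [map_one, inv_mul_cancel]
  exact rp_one

theorem lab_uniq {d : ℕ} {ζ : kˣ} (h : Lab D d ζ y θ c) (h' : Lab D d ζ y θ c') : c = c' :=
  eq_of_chr D fun x => Units.ext ((h x).symm.trans (h' x))

variable (f : Fr D)

theorem lab_congr (hy : y ∈ G) (hw : y⁻¹ * F y ∈ D.NN) (h : Lab D f.d f.ζ y θ c) (e : ∀ g ∈ GF F G, θ g = θ' g) :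
    Lab D f.d f.ζ y θ' c := fun x => by
  obtain ⟨w, hw⟩ := hw
  rw [← e _ (nrm_mem f.L f.hζ hy hw x).2, h]

theorem PL.lab (h : PL p (GF F G) θ) (hy : y ∈ G) (hw : D.Rp w (y⁻¹ * F y)) : ∃ c, Lab D f.d f.ζ y θ c :=
  exists_lab f.L f.hζ hy hw (h.lin.mono inf_le_right)

/-- the labels on conjugate tori -/
theorem PL.rel (h : PL p (GF F G) θ) (hy : y ∈ G) (hw : D.Rp w (y⁻¹ * F y)) (hy' : y' ∈ G)
    (hw' : D.Rp w' (y'⁻¹ * F y')) (h1 : Lab D f.d f.ζ y θ c) (h2 : Lab D f.d f.ζ y' θ c') (ht : Tc D v w w') :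
    Rel D v c c' := by
  obtain ⟨m, hm, hF⟩ := exists_fix hy hw hw' ht
  refine (conj_iff f hy hw h1 h2 hm hF).1 ⟨?_, fun t ht => h.cls ⟨G.mul_mem (G.mul_mem hy' hm.mem_G) (G.inv_mem hy), hF⟩ ht.2⟩
  rw [← cj_mul, inv_mul_cancel_right, cj_mul, D.cj_T ⟨v, hm⟩]

/-- invariance under diagonal automorphisms -/
theorem PL.diag (h0 : D.QS) (h : PL p (GF F G) θ) (h1 : Lab D f.d f.ζ 1 θ c) (hv : D.Fw v = v) {a : D.R → kˣ}
    (ha : ∀ b, D.Rt b → chr (D.wt b) (a ^ (p ^ f.e - 1)) = 1) {x : D.R → ℤ}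
    (hx : a * (mon (D.Wm v) a)⁻¹ = coch x f.ζ) : chr x c = 1 := by
  obtain ⟨m, hm, hF⟩ := exists_fix (v := v) (one_mem G) rp11 rp11 (by rw [Tc, hv, one_mul, mul_one])
  rw [one_mul, inv_one, mul_one] at hF
  have A := f.L.tor (one_mem G) rp11
  rw [cj_one] at A
  have hm' : m ∈ GF F G := ⟨hm.mem_G, hF⟩
  have ht := A.nrm_mem f.d (D.τ_mem a)
  have h2 : F (nrm F f.d (D.τ a)) = nrm F f.d (D.τ a) * D.τ (a ^ (p ^ f.e - 1)) := by
    have h3 := nrm_mul_F F f.d (D.τ a)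
    have h4 := A.two_le
    rw [A.frob _ (D.τ_mem a), ← Nat.sub_add_cancel (by omega : 1 ≤ p ^ f.e), pow_succ', ← mul_assoc,
      A.comm _ ht _ (D.τ_mem a), mul_assoc, mul_right_inj] at h3
    rw [h3, map_pow]
  have h3 : nrm F f.d (D.τ a) * m * (nrm F f.d (D.τ a))⁻¹ * m⁻¹ = nrm F f.d (1 * D.τ (coch x f.ζ) * 1⁻¹) := by
    rw [one_mul, inv_one, mul_one, ← hx, map_mul, map_inv, ← D.conj_τ hm, conj_inv,
      A.nrm_mul _ (D.τ_mem a) (D.conj_mem_T ⟨v, hm⟩ (inv_mem (D.τ_mem a))), nrm_cj hF,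
      eq_inv_of_mul_eq_one_right (a := nrm F f.d (D.τ a)) (b := nrm F f.d (D.τ a)⁻¹)
        (by rw [← A.nrm_mul _ (D.τ_mem a) (inv_mem (D.τ_mem a)), mul_inv_cancel, nrm_one])]
    group
  generalize nrm F f.d (D.τ a) = t at ht h2 h3
  have h4 : ∀ g ∈ GF F G, t * g * t⁻¹ ∈ GF F G := fun g hg =>
    ⟨G.mul_mem (G.mul_mem (D.T_le_G ht) hg.1) (G.inv_mem (D.T_le_G ht)), by
      show F _ = t * g * t⁻¹
      rw [map_mul, map_mul, map_inv, h2, show F g = g from hg.2, mul_assoc t, ← τ_central ha g hg.1]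
      group⟩
  have h5 := PL.ext h0 (θ := fun g => θ (t * g * t⁻¹)) ⟨⟨by rw [mul_one, mul_inv_cancel, h.lin.one], fun a ha b hb => by
    rw [← h.lin.mul _ (h4 a ha) _ (h4 b hb), conj_mul]⟩, fun u hu ⟨j, hj⟩ =>
      h.uni _ (h4 u hu) ⟨j, ((MulAut.conj t).orderOf_eq u).trans hj⟩⟩ h
    (fun s hs => by rw [D.T_comm ht hs.1, mul_inv_cancel_right]) m hm'
  refine Units.ext ?_
  rw [← h1, ← h3, h.lin.mul _ (h4 m hm') _ (inv_mem hm'), h5, h.lin.mul_inv hm', Units.val_one]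

omit f in
theorem rel_of_cen (h : CenL D c) (u : D.W) : Rel D u c c := by
  obtain ⟨ω, rfl⟩ := D.cs.wordProd_surjective u
  induction ω with
  | nil => rw [wordProd_nil]; exact rel_one D c
  | cons i ω ih =>
    rw [wordProd_cons, ← D.rf_sr]
    exact ih.trans (rel_rf (isRoot_sr _ _ i) (by rw [D.cor_sr, h]))

variable (D) in
/-- every linear character which is trivial on the `p`-elements has one central label -/
def Unif : Prop :=
  ∀ (f : Fr D) (θ : Y → ℂ), PL p (GF F G) θ → ∃ c, CenL D c ∧ ∀ y ∈ G, y⁻¹ * F y ∈ D.NN → Lab D f.d f.ζ y θ c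

omit f in
theorem unif_of (h : D.QS) (hE : ExLin D)
    (hC : ∀ (f : Fr D) (θ : Y → ℂ), PL p (GF F G) θ → ∀ c, Lab D f.d f.ζ 1 θ c → CenL D c) : Unif D := by
  intro f θ hθ
  obtain ⟨c, hc⟩ := hθ.lab f (one_mem G) rp11
  obtain ⟨μ, h1, h2⟩ := hE f.d f.e f.ζ f.L f.hζ c (hC f θ hθ c hc) (hc.fx f.L f.hζ (one_mem G) rp11)
  have h3 := PL.ext h (pl_lin h1) hθ fun t ht =>
    (h2 1 (one_mem G) 1 rp11).ext f.L f.hζ (one_mem G) rp11 hc t (by rwa [cj_one])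
  exact ⟨c, hC f θ hθ c hc, fun y hy ⟨w, hw⟩ => lab_congr f hy ⟨w, hw⟩ (h2 y hy w hw) h3⟩

omit f in
theorem Unif.cen (h : Unif D) : Cen D := fun μ hμ d e ζ L hζ y hy hw c hc => by
  obtain ⟨c', h1, h2⟩ := h ⟨d, e, L, ζ, hζ⟩ _ (pl_lin hμ)
  rwa [lab_uniq hc (h2 y hy ⟨1, hw⟩)]

/-- the level for a conjugate datum -/
def frConj {z : Y} (hz : z ∈ G) (hF : z⁻¹ * F z ∈ D.NN) : Fr (D.conj hz hF) :=
  ⟨f.d, f.e, ⟨f.L.d_pos, f.L.e_pos, fun u => by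
    rw [conj_Wm, D.conj_Mx, ← mul_assoc, ← D.Wm_mul]
    exact f.L.pow _⟩, f.ζ, f.hζ⟩

omit f in
theorem lab_conj {z : Y} (hz : z ∈ G) (hF : z⁻¹ * F z ∈ D.NN) {d : ℕ} {ζ : kˣ} :
    Lab (D.conj hz hF) d ζ y θ c ↔ Lab D d ζ (y * z) θ c :=
  forall_congr' fun x => by
    rw [D.conj_tau, show y * (z * D.τ (coch x ζ) * z⁻¹) * y⁻¹ = y * z * D.τ (coch x ζ) * (y * z)⁻¹ by group]

omit f in
theorem unif_conj {z : Y} (hz : z ∈ G) (hF : z⁻¹ * F z ∈ D.NN) (h : Unif (D.conj hz hF)) : Unif D := by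
  intro f θ hθ
  obtain ⟨c, h1, h2⟩ := h (frConj f hz hF) θ hθ
  refine ⟨c, h1, fun y hy hw => ?_⟩
  have h3 := (lab_conj hz hF).1 (h2 (y * z⁻¹) (G.mul_mem hy (G.inv_mem hz)) (by
    rw [D.conj_NN, mem_cj]
    convert mul_mem hw (inv_mem hF) using 1
    rw [map_mul, map_inv]
    group))
  rwa [inv_mul_cancel_right] at h3

theorem RW_lin_of [Fintype ↥(GF F G)] (h : D.QS) (hU : Unif D) :
    ∀ lam : ↥(GF F G) →* ℂˣ, (∀ u : ↥(GF F G), IsUni p (u : Y) → lam u = 1) → ∃ cl : Lbl D, (∀ u, Rel D u cl cl) ∧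
      (∀ w, Fx D w cl) ∧ (∀ n : ℕ, lam ^ n = 1 ↔ cl ^ n = 1) ∧
      ∀ w c g, RW f w (c * cl) g = lam g * RW f w c g := by
  intro lam hl
  have h0 := pl_lin hl
  obtain ⟨cl, h1, h2⟩ := hU f _ h0
  have h3 : ∀ w, Fx D w cl := fun w =>
    (h2 _ (yw_mem D w) ⟨w, yw_rp D w⟩).fx f.L f.hζ (yw_mem D w) (yw_rp D w)
  refine ⟨cl, rel_of_cen h1, h3, fun n => ?_, fun w c g => ?_⟩
  · have h4 : Lab D f.d f.ζ 1 (lin (lam ^ n)) (cl ^ n) := fun x => by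
      have h5 := (nrm_mem f.L f.hζ (one_mem G) rp11 x).2
      rw [map_pow, Units.val_pow_eq_pow_val, ← h2 1 (one_mem G) ⟨1, rp11⟩ x, lin_apply _ h5, lin_apply _ h5]
      rfl
    refine ⟨fun e => lab_uniq (lab_congr f (one_mem G) ⟨1, rp11⟩ h4 fun g hg => ?_) (lab_one f 1), fun e => ?_⟩
    · rw [e, lin_one g hg, Pi.one_apply]
    · have h5 := PL.ext h (pl_lin (μ := lam ^ n) fun u hu => by rw [MonoidHom.pow_apply, hl u hu, one_pow])
        ⟨isLin_one, fun _ _ _ => rfl⟩ fun t ht =>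
          h4.ext f.L f.hζ (one_mem G) rp11 (e ▸ lab_one f 1) t (by rwa [cj_one])
      exact MonoidHom.ext fun g => Units.ext ((lin_coe _ g).symm.trans (h5 g g.2))
  · by_cases hc : Fx D w c
    · rw [← R_eq_RW f (yw_mem D w) (yw_rp D w) (θ := lin lam * th f w c) fun x => by
        rw [Pi.mul_apply, h2 _ (yw_mem D w) ⟨w, yw_rp D w⟩, (th_spec f hc).2, map_mul, Units.val_mul, mul_comm],
        ← lin_coe]
      exact (sys' D).pconst _ (Tw_mem w) _ _ (pconst_of_lin h0.lin h0.uni) g g.2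
    · rw [RW_zero f hc, RW_zero f fun h' => hc fun x => ?_, Pi.zero_apply, mul_zero]
      have h4 := h' x
      rwa [map_mul, map_mul, h3, mul_left_inj] at h4

end ApiE

/-- the field `lin` of `Api` -/
theorem RW_lin (f : Fr D) [Fintype ↥(GF F G)] (h : D.QS) (hE : ExLin D) (hC : Cen D) :
    ∀ lam : ↥(GF F G) →* ℂˣ, (∀ u : ↥(GF F G), IsUni p (u : Y) → lam u = 1) → ∃ cl : Lbl D, (∀ u, Rel D u cl cl) ∧
      (∀ w, Fx D w cl) ∧ (∀ n : ℕ, lam ^ n = 1 ↔ cl ^ n = 1) ∧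
      ∀ w c g, RW f w (c * cl) g = lam g * RW f w c g :=
  ApiE.RW_lin_of f h (ApiE.unif_of h hE fun f _ hθ c hc => hC _ hθ.pt f.d f.e f.ζ f.L f.hζ 1 (one_mem G) ApiE.rp11 c
    (ApiE.lab_congr f (one_mem G) ⟨1, ApiE.rp11⟩ hc fun g hg => (hθ.lin.lin_hom g hg).symm))

end Cfsg.Agent.KZ.Lie
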