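import Cfsg.Agent.KZ.Lie.Spl

/-!
# KZ: lower bounds for the abelianization of a Sylow `3`-subgroup (helper61)

`AdmB`, `Inn`, `Fam3`, `out`; `Loc2.nab_ge_in`, `Loc2.nab_ge_out`, `Loc2.nab_ge`.
-/

set_option autoImplicit false
set_option linter.unusedSectionVars false

namespace Cfsg.Agent.KZ.Lie

open Cfsg Cfsg.Agent.DL Cfsg.Agent.DL.PP Cfsg.Agent.DL.Uni Cfsg.Agent.DL.Asm Cfsg.Agent.Nodes.Reps Matrix

/-! ## group theory -/

section Gen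

theorem card_hom_eq (P : Type) [Group P] [Finite P] : Nat.card (P →* ℂˣ) = (commutator P).index :=
  (Nat.card_congr (Equiv.subtypeUnivEquiv fun l _ hn => Abelianization.commutator_subset_ker l hn)).symm.trans
    (Res.card_lin fun _ _ => Subgroup.commutator_mem_commutator trivial trivial)

theorem mul_le_index {P R O X : Type} [Group P] [Finite P] [Group R] [Finite R] [Group O] [Finite O] (ψ : P →* R)
    (μ : P →* O) (hψ : ∀ r, ∃ q, μ q = 1 ∧ ψ q = r) (hμ : Function.Surjective μ) (η : X → P →* ℂˣ)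
    (hη : ∀ i j, (∀ v, ψ v = 1 → μ v = 1 → η i v = η j v) → i = j) :
    (commutator R).index * (commutator O).index * Nat.card X ≤ (commutator P).index := by
  have : Finite (P →* ℂˣ) := Nat.finite_of_card_ne_zero (card_hom_eq P ▸ Subgroup.index_ne_zero_of_finite)
  rw [← card_hom_eq, ← card_hom_eq, ← card_hom_eq, ← Nat.card_prod, ← Nat.card_prod]
  refine Nat.card_le_card_of_injective (fun x => x.1.1.comp ψ * x.1.2.comp μ * η x.2) ?_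
  rintro ⟨⟨l, m⟩, i⟩ ⟨⟨l', m'⟩, i'⟩ e
  have h1 : ∀ v, l (ψ v) * m (μ v) * η i v = l' (ψ v) * m' (μ v) * η i' v := DFunLike.congr_fun e
  obtain rfl := hη i i' fun v h2 h3 => by simpa [h2, h3] using h1 v
  obtain rfl : l = l' := MonoidHom.ext fun r => by
    obtain ⟨q, h2, rfl⟩ := hψ r
    simpa [h2] using h1 q
  obtain rfl : m = m' := MonoidHom.ext fun r => by
    obtain ⟨q, rfl⟩ := hμ r
    simpa using h1 q
  rfl

variable {A C : Type} [Group A] [Finite A] [Group C] [Finite C] {N1 : Subgroup A} (ω : ↥N1 →* C)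
  (hω : Function.Surjective ω)

include hω in
theorem exists_sylow_onto {Ah : Subgroup A} (h : N1 ≤ Ah) (P : Sylow 3 A) (hP : (P : Subgroup A) ≤ Ah) (R : Sylow 3 C) :
    ∃ P' : Sylow 3 A, (P' : Subgroup A) ≤ Ah ∧
      ∀ r, r ∈ (R : Subgroup C) ↔ ∃ x : ↥N1, (x : A) ∈ (P' : Subgroup A) ∧ ω x = r := by
  have : Fact (Nat.Prime 3) := ⟨Nat.prime_three⟩
  obtain ⟨Q, rfl⟩ := Sylow.mapSurjective_surjective hω 3 R
  obtain ⟨P₁, h1⟩ := (Q.2.map (Subgroup.inclusion h)).exists_le_sylow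
  obtain ⟨a, rfl⟩ := MulAction.exists_smul_eq ↥Ah (P.subtype hP) P₁
  rw [Sylow.smul_subtype] at h1
  refine ⟨a • P, Sylow.smul_le hP a, fun r => ?_⟩
  have h2 := Q.3 ((a • P).2.comap_subtype (K := N1)) fun x hx => h1 ⟨x, hx, rfl⟩
  exact exists_congr fun x => and_congr_left' ⟨fun hx => h2.ge hx, fun hx => h2.le hx⟩

theorem mem_sylow_of_comm {B : Subgroup A} (hB : ∀ a ∈ B, ∀ b ∈ B, a * b = b * a) (P : Sylow 3 A)
    (hP : ∀ x ∈ (P : Subgroup A), ∀ b ∈ B, x * b * x⁻¹ ∈ B) {t : A} (ht : t ∈ B) (h3 : ∃ j : ℕ, t ^ 3 ^ j = 1) :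
    t ∈ (P : Subgroup A) := by
  let K : Subgroup A :=
    { carrier := {x | x ∈ B ∧ ∃ j : ℕ, x ^ 3 ^ j = 1}
      one_mem' := ⟨one_mem _, 0, by simp⟩
      mul_mem' := by
        rintro a b ⟨ha, i, hi⟩ ⟨hb, j, hj⟩
        refine ⟨mul_mem ha hb, i + j, ?_⟩
        rw [(show Commute a b from hB a ha b hb).mul_pow, pow_add, pow_mul, hi, one_pow, mul_comm (3 ^ i), pow_mul, hj,
          one_pow, one_mul]
      inv_mem' := by
        rintro a ⟨ha, i, hi⟩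
        exact ⟨inv_mem ha, i, by rw [inv_pow, hi, inv_one]⟩ }
  have hK : IsPGroup 3 ↥K := fun x => x.2.2.imp fun _ h => Subtype.ext h
  have h1 : (P : Subgroup A) ≤ Subgroup.normalizer (K : Set A) := mem_normalizer_of (by
    rintro u hu x ⟨hx, j, hj⟩
    exact ⟨hP u hu x hx, j, by rw [conj_pow, hj, mul_one, mul_inv_cancel]⟩)
  rw [← P.3 (P.2.to_sup_of_normal_right' hK h1) le_sup_left]
  exact Subgroup.mem_sup_right ⟨ht, h3⟩

theorem exists_sqrt {H : Type*} [Monoid H] {x : H} {j : ℕ} (h : x ^ 3 ^ j = 1) : ∃ n : ℕ, x ^ n * x ^ n = x := by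
  obtain ⟨m, hm⟩ : Odd (3 ^ j) := Odd.pow (by decide)
  exact ⟨m + 1, by rw [← pow_add, show m + 1 + (m + 1) = 3 ^ j + 1 by omega, pow_succ, h, one_mul]⟩

/-- `x` acts on the image of `ω` as `v` -/
def IndA (x : A) (v : C) : Prop := ∀ y y' : ↥N1, (y' : A) = x * y * x⁻¹ → ω y' = v * ω y * v⁻¹

include hω in
theorem exists_psi (P : Sylow 3 A) (hN : ∀ x ∈ (P : Subgroup A), ∀ y ∈ N1, x * y * x⁻¹ ∈ N1) (R : Sylow 3 C)
    (hR : ∀ r, r ∈ (R : Subgroup C) ↔ ∃ x : ↥N1, (x : A) ∈ (P : Subgroup A) ∧ ω x = r)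
    (cen : ∀ z : C, (∀ u, z * u = u * z) → z ^ 3 = 1 → z = 1) (sq : ∀ x ∈ (P : Subgroup A), ∃ v, IndA ω (x * x) v) :
    ∃ ψ : ↥(P : Subgroup A) →* ↥(R : Subgroup C), (∀ x : ↥(P : Subgroup A), IndA ω x (ψ x)) ∧
      ∀ (x : ↥(P : Subgroup A)) (h : (x : A) ∈ N1), (ψ x : C) = ω ⟨x, h⟩ := by
  have h1 : ∀ {x x' v v'}, x' ∈ (P : Subgroup A) → IndA ω x v → IndA ω x' v' → IndA ω (x * x') (v * v') :=
    fun hx h h' y y' e => by
      rw [h ⟨_, hN _ hx _ y.2⟩ y' (by rw [e]; group), h' y ⟨_, hN _ hx _ y.2⟩ rfl]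
      group
  have h2 : ∀ {x v}, x ∈ (P : Subgroup A) → IndA ω x v → ∀ n : ℕ, IndA ω (x ^ n) (v ^ n) := fun hx h n => by
    induction n with
    | zero => exact fun y y' e => by rw [show y' = y from Subtype.ext (by simpa using e)]; simp
    | succ n ih =>
      rw [pow_succ, pow_succ]
      exact h1 hx ih h
  have h3 : ∀ (j : ℕ) (z : C), (∀ u, z * u = u * z) → z ^ 3 ^ j = 1 → z = 1 := fun j => by
    induction j with
    | zero => exact fun z _ h => (pow_one z).symm.trans h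
    | succ j ih => exact fun z hz h => ih z hz (cen _ (fun u => ((show Commute z u from hz u).pow_left _).eq)
        (by rw [← pow_mul, ← pow_succ, h]))
  have h4 : ∀ {x} {r r' : ↥(R : Subgroup C)}, x ∈ (P : Subgroup A) → IndA ω x r → IndA ω x r' → r = r' :=
    fun {x r r'} hx h h' => by
      obtain ⟨j, hj⟩ := R.2 (r⁻¹ * r')
      refine inv_mul_eq_one.1 (Subtype.ext (h3 j _ (fun u => ?_) (congrArg Subtype.val hj)))
      obtain ⟨y, rfl⟩ := hω u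
      have h5 := (h y ⟨_, hN _ hx _ y.2⟩ rfl).symm.trans (h' y _ rfl)
      calc ((r : C)⁻¹ * r') * ω y = (r : C)⁻¹ * (r' * ω y * (r' : C)⁻¹) * r' := by group
        _ = ω y * ((r : C)⁻¹ * r') := by rw [← h5]; group
  have h5 : ∀ x : ↥(P : Subgroup A), ∃ r : ↥(R : Subgroup C), IndA ω x r := fun x => by
    obtain ⟨j, hj⟩ := P.2 x
    obtain ⟨n, hn⟩ := exists_sqrt hj
    obtain ⟨v, hv⟩ := sq _ (x ^ n).2
    rw [← Subgroup.coe_mul, hn] at hv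
    obtain ⟨a, i, h6, h7⟩ := exists_three_exp (Nat.card_pos (α := C)).ne' j
    have h8 := h2 x.2 hv a
    rw [← Subgroup.coe_pow, pow_eq_pow_of_modEq h6 hj, pow_one] at h8
    have h9 : IsPGroup 3 ↥(Subgroup.zpowers (v ^ a)) := by
      rintro ⟨_, m, rfl⟩
      refine ⟨i, Subtype.ext ?_⟩
      show ((v ^ a) ^ m) ^ 3 ^ i = 1
      rw [← _root_.zpow_natCast, ← _root_.zpow_mul, mul_comm, _root_.zpow_mul, _root_.zpow_natCast, ← pow_mul,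
        orderOf_dvd_iff_pow_eq_one.1 ((orderOf_dvd_natCard v).trans h7), _root_.one_zpow]
    refine ⟨⟨v ^ a, ((h9.inf_normalizer_sylow R).le ⟨Subgroup.mem_zpowers _,
      Subgroup.mem_normalizer_fintype fun r hr => ?_⟩).2⟩, h8⟩
    obtain ⟨y, hy, rfl⟩ := (hR r).1 hr
    exact (hR _).2 ⟨⟨_, hN _ x.2 _ y.2⟩, mul_mem (mul_mem x.2 hy) (inv_mem x.2), h8 y _ rfl⟩
  choose r hr using h5
  refine ⟨MonoidHom.mk' r fun a b => h4 (a * b).2 (hr _) (h1 b.2 (hr a) (hr b)), hr, fun x h =>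
    congrArg Subtype.val (h4 (r' := ⟨_, (hR _).2 ⟨⟨x, h⟩, x.2, rfl⟩⟩) x.2 (hr x) fun y y' e => ?_)⟩
  rw [show y' = ⟨x, h⟩ * y * ⟨x, h⟩⁻¹ from Subtype.ext e, map_mul, map_mul, map_inv]

end Gen

variable {p : ℕ} [Fact p.Prime] {k : Type} [Field k] [CharP k p] {Y : Type} [Group Y] {N : Type} [Fintype N]
  [DecidableEq N] {ρ : Y →* GL N k} {F : MulAut Y} {G : Subgroup Y} [IsAlgClosed k]
  {D : Datum p ρ F G} {f : Fr D} [Fintype ↥(GF F G)] {Adm : Matrix D.R D.R ℤ → Prop} {S : Type} [Group S]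
  {s : Sit D Adm S} {w₀ : D.W} {A : Type} [Group A] [Finite A] {N₀ : Subgroup A} [hN : N₀.Normal] {P : Sylow 3 A}
  (L : Loc2 f s w₀ A N₀ P)

variable (D Adm w₀) in
/-- the matrices which can occur -/
def AdmB (B : Matrix D.R D.R ℤ) : Prop :=
  (∃ v A', Adm A' ∧ B = D.Wm v * A') ∧ B * (D.Wm w₀ * D.Mx) = D.Wm w₀ * D.Mx * B ∧
    ∀ u ∈ CW D w₀, ∃ u' ∈ CW D w₀, D.Wm u' * B = B * D.Wm u

variable (D Adm w₀) in
/-- the centre of the relative Weyl group has no element of order `3`, and the square of an admissible matrix acts on it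
as an inner automorphism -/
structure Inn : Prop where
  cen : ∀ z ∈ CW D w₀, (∀ u ∈ CW D w₀, z * u = u * z) → z ^ 3 = 1 → z = 1
  sq : ∀ B, AdmB D Adm w₀ B → ∃ v ∈ CW D w₀, ∀ u ∈ CW D w₀, D.Wm (v * u * v⁻¹) * (B * B) = B * B * D.Wm u

variable (f s w₀) in
/-- a family of labels of `3`-power order which give distinct characters of the torus -/
structure Fam3 {X : Type} (c : X → Lbl D) : Prop where
  fx : ∀ i, Fx D w₀ (c i)
  zw : ∀ i, s.Zw f w₀ (c i)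
  is3 : ∀ i, Is3 D (c i)
  inj : ∀ i j cl, s.Tw f cl → c i = c j * cl → i = j

/-- the abelianization of `P N₀ / N₀` -/
noncomputable def out (N₀ : Subgroup A) [N₀.Normal] (P : Sylow 3 A) : ℕ :=
  (commutator ↥((P : Subgroup A).map (QuotientGroup.mk' N₀))).index

theorem Sit.Zw.pow {w : D.W} {c : Lbl D} (h : s.Zw f w c) (hc : Fx D w c) (n : ℕ) : s.Zw f w (c ^ n) := by
  induction n with
  | zero => exact s.z1_one.zw w
  | succ n ih => exact pow_succ c n ▸ ih.mul h (fx_pow hc n) hc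

namespace Loc2

theorem conj_mem {x y : A} (hx : x ∈ L.Ah) (hy : y ∈ L.N1) : x * y * x⁻¹ ∈ L.N1 := by
  rw [L.N1_eq] at hy ⊢
  exact ⟨L.Ah.mul_mem (L.Ah.mul_mem hx hy.1) (L.Ah.inv_mem hx), hN.conj_mem _ hy.2 x⟩

theorem N1_le : L.N1 ≤ L.Ah := L.N1_eq.le.trans inf_le_left

theorem ω_mem (x : ↥L.N1) : L.ω x ∈ CW D w₀ := L.ω_range.le ⟨x, rfl⟩

/-- `ω` as a map onto the relative Weyl group -/
def ωC : ↥L.N1 →* ↥(CW D w₀) := L.ω.codRestrict _ L.ω_mem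

theorem ωC_surj : Function.Surjective L.ωC := fun u => (L.ω_range.ge u.2).imp fun _ h => Subtype.ext h

theorem admB {x : A} (hx : x ∈ L.Ah) : AdmB D Adm w₀ (L.B x) := ⟨L.B_adm x hx, L.B_comm x hx, fun u hu => by
  obtain ⟨y, rfl⟩ := L.ω_range.ge hu
  exact ⟨_, L.ω_mem ⟨_, L.conj_mem hx y.2⟩, L.B_ω x hx y _ rfl⟩⟩

theorem B_reg {x : A} (hx : x ∈ L.Ah) : IsRegular (L.B x) := by
  obtain ⟨-, -, α, A', v, h1, -, h2, -⟩ := L.B_aut x hx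
  rw [h2]
  exact ((Group.isUnit v).map D.WmHom).isRegular.mul (reg_of_det h1.det_ne)

variable {c cl : Lbl D} (h1 : Fx D w₀ c) (h2 : s.Zw f w₀ c)
include h1 h2

/-- the character of the torus -/
def thH : ↥L.Tb →* ℂˣ := MonoidHom.mk' (L.Θ c) (L.Θ_mul c h1 h2)

theorem Θ_pow (n : ℕ) (a : ↥L.Tb) : L.Θ (c ^ n) a = L.Θ c a ^ n := by
  induction n with
  | zero => exact (L.Θ_one 1 (fx_one _) (s.z1_one.zw _)).2 s.tw_one a
  | succ n ih => rw [pow_succ, L.Θ_mul' _ _ (fx_pow h1 n) (h2.pow h1 n) h1 h2, ih, pow_succ]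

theorem Θ_is3 (h : Is3 D c) : ∃ j : ℕ, ∀ a, L.Θ c a ^ 3 ^ j = 1 :=
  h.imp fun j hj a => by rw [← L.Θ_pow h1 h2, hj, ← pow_zero c, L.Θ_pow h1 h2, pow_zero]

theorem Θ_inv (a : ↥L.Tb) : L.Θ c⁻¹ a = (L.Θ c a)⁻¹ :=
  eq_inv_of_mul_eq_one_right (by
    rw [← L.Θ_mul' _ _ h1 h2 (fx_inv h1) (h2.inv h1), mul_inv_cancel, ← pow_zero c, L.Θ_pow h1 h2, pow_zero])

theorem Θ_twist (hA : Api f) (h : s.Tw f cl) (a : ↥L.Tb) : L.Θ (c * cl) a = L.Θ c a := by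
  obtain ⟨-, h3, -, h4⟩ := h.props hA
  rw [L.Θ_mul' _ _ h1 h2 (h3 _) (h4.zw _), (L.Θ_one _ (h3 _) (h4.zw _)).2 h, mul_one]

/-- the extension to the inverse image of `U` -/
theorem exists_ext (hA : Api f) (h3 : Is3 D c) {U : Subgroup D.W} (hU : U ≤ CW D w₀) (hS : SplE ↥U)
    (h : ∀ u ∈ U, ∃ cl, s.Tw f cl ∧ Rel D u c (c * cl)) : ∃ (η : ↥(U.comap L.ω) →* ℂˣ) (i : ℕ),
      (∀ g, η g ^ 3 ^ i = 1) ∧ ∀ (t : ↥L.Tb) (g : ↥(U.comap L.ω)), ((g : ↥L.N1) : A) = t → η g = L.Θ c t := by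
  obtain ⟨j, hj⟩ := L.Θ_is3 h1 h2 h3
  have h4 : ∀ t : ↥L.Tb, Subgroup.inclusion L.Tb_le t ∈ U.comap L.ω := fun t =>
    show L.ω _ ∈ U from ((L.ω_ker (Subgroup.inclusion L.Tb_le t)).2 t.2).symm ▸ U.one_mem
  refine (hS.ext' (L.ω.subgroupComap U) (fun u => ?_) ((Subgroup.inclusion L.Tb_le).codRestrict _ h4) (fun x => ?_)
    (L.thH h1 h2) hj fun g t t' e => ?_).imp fun η => Exists.imp fun i h5 => ⟨h5.1, fun t g e => ?_⟩
  · obtain ⟨y, hy⟩ := L.ω_range.ge (hU u.2)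
    exact ⟨⟨y, show L.ω y ∈ U from hy ▸ u.2⟩, Subtype.ext hy⟩
  · exact Subtype.ext_iff.trans ((L.ω_ker _).trans ⟨fun hx => ⟨⟨_, hx⟩, rfl⟩, fun ⟨t, ht⟩ => ht ▸ t.2⟩)
  · obtain ⟨cl, h5, h6⟩ := h _ g.2
    rw [PP.Rel, ← L.B_N1] at h6
    exact (L.Θ_twist h1 h2 hA h5 t').symm.trans ((L.B_Θ _ (L.N1_le g.1.2) _ _ h6 (fx_mul h1 ((h5.props hA).2.1 _))
      (h2.twist h5)).2.2 t t' (congrArg (fun x : ↥(U.comap L.ω) => ((x : ↥L.N1) : A)) e))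
  · rw [show g = ⟨_, h4 t⟩ from Subtype.ext (Subtype.ext e)]
    exact h5.2 t

omit h1 h2

theorem sep {X : Type} {c : X → Lbl D} (hc : Fam3 f s w₀ c) {P' : Sylow 3 A} (hP : (P' : Subgroup A) ≤ L.Ah) {i j : X}
    (h : ∀ t : ↥L.Tb, (t : A) ∈ (P' : Subgroup A) → L.Θ (c i) t = L.Θ (c j) t) : i = j := by
  have h1 := fx_mul (fx_inv (hc.fx j)) (hc.fx i)
  have h2 := ((hc.zw j).inv (hc.fx j)).mul (hc.zw i) (fx_inv (hc.fx j)) (hc.fx i)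
  refine hc.inj i j _ ((L.Θ_one _ h1 h2).1 fun t => ?_) (mul_inv_cancel_left _ _).symm
  obtain ⟨m, hm⟩ := L.Θ_is3 (hc.fx i) (hc.zw i) (hc.is3 i)
  obtain ⟨n, hn⟩ := L.Θ_is3 (hc.fx j) (hc.zw j) (hc.is3 j)
  obtain ⟨a, b, h3, h4⟩ := exists_three_exp (Nat.card_pos (α := A)).ne' (m + n)
  have h5 := h (t ^ a) (mem_sylow_of_comm L.Tb_comm P' (fun x hx => L.Tb_norm x (hP hx)) (t ^ a).2 ⟨b, by
    rw [Subgroup.coe_pow, ← pow_mul, orderOf_dvd_iff_pow_eq_one.1 ((orderOf_dvd_natCard _).trans h4)]⟩)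
  have h6 := (map_pow (L.thH (hc.fx i) (hc.zw i)) t a).symm.trans (h5.trans (map_pow (L.thH (hc.fx j) (hc.zw j)) t a))
  rw [pow_eq_pow_of_modEq h3 (by rw [pow_add, pow_mul, show L.thH _ _ t ^ _ = 1 from hm t, one_pow]),
    pow_eq_pow_of_modEq h3 (by rw [pow_add, mul_comm, pow_mul, show L.thH _ _ t ^ _ = 1 from hn t, one_pow]),
    pow_one, pow_one] at h6
  rw [L.Θ_mul' _ _ (fx_inv (hc.fx j)) ((hc.zw j).inv (hc.fx j)) (hc.fx i) (hc.zw i), L.Θ_inv (hc.fx j) (hc.zw j),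
    inv_mul_eq_one]
  exact h6.symm

include L in
/-- (N2a) `P ≤ N₀` -/
theorem nab_ge_in (hA : Api f) (hP : (P : Subgroup A) ≤ N₀) (R : Sylow 3 ↥(CW D w₀)) {X : Type} [Finite X]
    {c : X → Lbl D} (hc : Fam3 f s w₀ c)
    (hU : ∀ i, ∃ U ≤ CW D w₀, (∀ r ∈ (R : Subgroup ↥(CW D w₀)), (r : D.W) ∈ U) ∧ SplE ↥U ∧
      ∀ u ∈ U, ∃ cl, s.Tw f cl ∧ Rel D u (c i) (c i * cl)) :
    nab R * Nat.card X ≤ nab P := by
  have : Fact (Nat.Prime 3) := ⟨Nat.prime_three⟩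
  obtain ⟨P', h1, h2⟩ := exists_sylow_onto L.ωC L.ωC_surj L.N1_le P L.P_le R
  have h3 : (P' : Subgroup A) ≤ L.N1 := by
    obtain ⟨a, rfl⟩ := MulAction.exists_smul_eq A P P'
    refine L.N1_eq.ge.trans' (le_inf h1 ?_)
    rintro _ ⟨x, hx, rfl⟩
    exact hN.conj_mem _ (hP hx) a
  choose U h4 h5 h6 h7 using hU
  choose η n h8 h9 using fun i => L.exists_ext (hc.fx i) (hc.zw i) hA (hc.is3 i) (h4 i) (h6 i) (h7 i)
  have h10 : ∀ x : ↥(P' : Subgroup A), L.ωC (Subgroup.inclusion h3 x) ∈ (R : Subgroup _) := fun x => (h2 _).2 ⟨_, x.2, rfl⟩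
  have h11 := mul_le_index ((L.ωC.comp (Subgroup.inclusion h3)).codRestrict _ h10) (1 : _ →* Unit)
    (fun r => let ⟨x, hx, e⟩ := (h2 r).1 r.2; ⟨⟨x, hx⟩, rfl, Subtype.ext e⟩) (fun _ => ⟨1, rfl⟩)
    (fun i => (η i).comp ((Subgroup.inclusion h3).codRestrict _ fun x => h5 i _ (h10 x))) fun i j h =>
      L.sep hc h1 fun t ht => (h9 i t _ rfl).symm.trans ((h ⟨t, ht⟩
        (Subtype.ext (Subtype.ext ((L.ω_ker _).2 t.2))) rfl).trans (h9 j t _ rfl))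
  rwa [Subgroup.index_eq_one.2 (Subsingleton.elim _ _ : commutator Unit = ⊤), mul_one, ← nab, ← nab,
    Res.nab_eq P' P] at h11

theorem exists_frame (hI : Inn D Adm w₀) (R : Sylow 3 ↥(CW D w₀)) : ∃ P' : Sylow 3 A, (P' : Subgroup A) ≤ L.Ah ∧
    ∃ ψ : ↥(P' : Subgroup A) →* ↥(R : Subgroup ↥(CW D w₀)), (∀ x : ↥(P' : Subgroup A), IndA L.ωC x (ψ x)) ∧
      (∀ (x : ↥(P' : Subgroup A)) (h : (x : A) ∈ L.N1), (ψ x : ↥(CW D w₀)) = L.ωC ⟨x, h⟩) ∧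
      ∀ r, ∃ q : ↥(P' : Subgroup A), (q : A) ∈ N₀ ∧ ψ q = r := by
  obtain ⟨P', h1, h2⟩ := exists_sylow_onto L.ωC L.ωC_surj L.N1_le P L.P_le R
  refine ⟨P', h1, (exists_psi L.ωC L.ωC_surj P' (fun x hx y hy => L.conj_mem (h1 hx) hy) R h2 (fun z h3 h4 => Subtype.ext
    (hI.cen z z.2 (fun u hu => congrArg Subtype.val (h3 ⟨u, hu⟩)) (congrArg Subtype.val h4))) fun x hx => ?_).imp
      fun ψ h => ⟨h.1, h.2, fun r => ?_⟩⟩
  · obtain ⟨v, h3, h4⟩ := hI.sq _ (L.admB (h1 hx))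
    refine ⟨⟨v, h3⟩, fun y y' e => Subtype.ext (D.Wm_injective
      (((L.B_reg (h1 hx)).mul (L.B_reg (h1 hx))).right (Eq.trans ?_ (h4 _ (L.ω_mem y)).symm)))⟩
    show D.Wm (L.ω y') * _ = _
    rw [← mul_assoc, L.B_ω x (h1 hx) ⟨_, L.conj_mem (h1 hx) y.2⟩ y' (by rw [e]; group), mul_assoc,
      L.B_ω x (h1 hx) y _ rfl, mul_assoc]
  · obtain ⟨x, hx, e⟩ := (h2 r).1 r.2
    exact ⟨⟨x, hx⟩, (L.N1_eq.le x.2).2, Subtype.ext ((h.2 ⟨x, hx⟩ x.2).trans e)⟩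

theorem out_equiv (P P' : Sylow 3 A) : Nonempty (↥((P : Subgroup A).map (QuotientGroup.mk' N₀)) ≃*
    ↥((P' : Subgroup A).map (QuotientGroup.mk' N₀))) :=
  have : Fact (Nat.Prime 3) := ⟨Nat.prime_three⟩
  ⟨(P.mapSurjective (QuotientGroup.mk'_surjective N₀)).equiv (P'.mapSurjective (QuotientGroup.mk'_surjective N₀))⟩

theorem out_eq (P P' : Sylow 3 A) : out N₀ P = out N₀ P' := Res.index_comm_congr (out_equiv P P').some

include L in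
/-- (N2b) no labels -/
theorem nab_ge_out (hI : Inn D Adm w₀) (R : Sylow 3 ↥(CW D w₀)) : nab R * out N₀ P ≤ nab P := by
  obtain ⟨P', -, ψ, -, -, h⟩ := L.exists_frame hI R
  have h1 := mul_le_index ψ ((QuotientGroup.mk' N₀).subgroupMap P')
    (fun r => (h r).imp fun q hq => ⟨Subtype.ext ((QuotientGroup.eq_one_iff _).2 hq.1), hq.2⟩)
    (MonoidHom.subgroupMap_surjective _ _) (fun _ : Unit => 1) fun _ _ _ => rfl
  rwa [Nat.card_unique, mul_one, ← nab, ← nab, ← out, Res.nab_eq P' P, out_eq P' P] at h1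

include L in
/-- (N2c) `P N₀ / N₀` cyclic -/
theorem nab_ge (hA : Api f) (hI : Inn D Adm w₀) (hcyc : IsCyclic ↥((P : Subgroup A).map (QuotientGroup.mk' N₀)))
    (R : Sylow 3 ↥(CW D w₀)) {X : Type} [Finite X] {c : X → Lbl D} (hc : Fam3 f s w₀ c)
    (hU : ∀ i, ∃ U ≤ CW D w₀, (∀ r ∈ (R : Subgroup ↥(CW D w₀)), (r : D.W) ∈ U) ∧ Spl ↥U ∧
      ∀ u ∈ U, ∃ cl, s.Tw f cl ∧ Rel D u (c i) (c i * cl))
    (hB : ∀ i B, AdmB D Adm w₀ B → (∀ u ∈ CW D w₀, D.Wm u * B = B * D.Wm u) →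
      ∃ cl, s.Tw f cl ∧ (Tr D B (c i * cl) (c i) ∨ Tr D B ((c i)⁻¹ * cl) (c i))) :
    nab R * out N₀ P * Nat.card X ≤ nab P := by
  obtain ⟨P', h1, ψ, h2, h3, h4⟩ := L.exists_frame hI R
  have := isCyclic_of_surjective _ (out_equiv (N₀ := N₀) P P').some.surjective
  let μ := (QuotientGroup.mk' N₀).subgroupMap P'
  have hμ : ∀ {q : ↥(P' : Subgroup A)}, μ q = 1 ↔ (q : A) ∈ N₀ := Subtype.ext_iff.trans (QuotientGroup.eq_one_iff _)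
  have hq : ∀ q : ↥μ.ker, ((q : ↥(P' : Subgroup A)) : A) ∈ L.N1 := fun q => L.N1_eq.ge ⟨h1 q.1.2, hμ.1 q.2⟩
  have h5 : ∀ i, ∃ η : ↥(P' : Subgroup A) →* ℂˣ, ∀ (t : ↥L.Tb) (ht : (t : A) ∈ (P' : Subgroup A)),
      η ⟨t, ht⟩ = L.Θ (c i) t := fun i => by
    obtain ⟨U, h6, h7, h8, h9⟩ := hU i
    obtain ⟨η, n, h10, h11⟩ := L.exists_ext (hc.fx i) (hc.zw i) hA (hc.is3 i) h6 h8.1 h9
    have h12 : ∀ d : ↥ψ.ker, ∀ y : ↥L.N1, L.ω ⟨_, L.conj_mem (h1 d.1.2) y.2⟩ = L.ω y := fun d y => by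
      have := congrArg Subtype.val (h2 d y ⟨_, L.conj_mem (h1 d.1.2) y.2⟩ rfl)
      rwa [show ψ d = 1 from d.2, OneMemClass.coe_one, one_mul, inv_one, mul_one] at this
    have h13 : ∀ d : ↥ψ.ker, ∃ ε : ℤ, ε * ε = 1 ∧ ∀ t t' : ↥L.Tb, (t' : A) = d.1 * t * (d.1 : A)⁻¹ →
        L.Θ (c i) t' = L.Θ (c i) t ^ ε := fun d => by
      obtain ⟨cl, h13, h14⟩ := hB i _ (L.admB (h1 d.1.2)) fun u hu => by
        obtain ⟨y, rfl⟩ := L.ω_range.ge hu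
        rw [← L.B_ω _ (h1 d.1.2) y ⟨_, L.conj_mem (h1 d.1.2) y.2⟩ rfl, h12]
      rcases h14 with h14 | h14
      · exact ⟨1, rfl, fun t t' e => by
          rw [(L.B_Θ _ (h1 d.1.2) _ _ h14 (hc.fx i) (hc.zw i)).2.2 t t' e, L.Θ_twist (hc.fx i) (hc.zw i) hA h13, zpow_one]⟩
      · exact ⟨-1, rfl, fun t t' e => by
          rw [(L.B_Θ _ (h1 d.1.2) _ _ h14 (hc.fx i) (hc.zw i)).2.2 t t' e,
            L.Θ_twist (fx_inv (hc.fx i)) ((hc.zw i).inv (hc.fx i)) hA h13, L.Θ_inv (hc.fx i) (hc.zw i), _root_.zpow_neg_one]⟩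
    have h14 : ∀ d : ↥ψ.ker, ∀ t t' : ↥L.Tb, (t' : A) = d.1 * t * (d.1 : A)⁻¹ → L.Θ (c i) t' = L.Θ (c i) t :=
      fun d t t' e => by
        obtain ⟨j, hj⟩ := (P'.2.to_subgroup ψ.ker) d
        obtain ⟨m, hm⟩ := exists_sqrt hj
        obtain ⟨ε, h14, h15⟩ := h13 (d ^ m)
        rw [h15 ⟨_, L.Tb_norm _ (h1 (d ^ m).1.2) _ t.2⟩ t' (by
          rw [e]; nth_rw 1 2 [← hm]; simp only [Subgroup.coe_mul]; group), h15 t _ rfl, ← _root_.zpow_mul, h14, zpow_one]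
    have h15 : ∀ (d : ↥ψ.ker) (g g' : ↥(U.comap L.ω)), ((g' : ↥L.N1) : A) = d.1 * (g : ↥L.N1) * (d.1 : A)⁻¹ →
        η g' = η g := fun d g g' e => by
      let γ : ↥(U.comap L.ω) →* ↥(U.comap L.ω) := MonoidHom.mk' (fun y => ⟨⟨_, L.conj_mem (h1 d.1.2) y.1.2⟩,
        show L.ω _ ∈ U from (h12 d y).symm ▸ y.2⟩) fun a b => Subtype.ext (Subtype.ext (by simp [mul_assoc]))
      rw [show g' = γ g from Subtype.ext (Subtype.ext e)]
      refine DFunLike.congr_fun (h8.unique (L.ω.subgroupComap U) (fun u => ?_) (η := η.comp γ) (fun _ => h10 _) h10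
        fun x hx => ?_) g
      · obtain ⟨y, hy⟩ := L.ω_range.ge (h6 u.2)
        exact ⟨⟨y, show L.ω y ∈ U from hy ▸ u.2⟩, Subtype.ext hy⟩
      · have h15 := (L.ω_ker _).1 (congrArg Subtype.val hx)
        exact (h11 ⟨_, L.Tb_norm _ (h1 d.1.2) _ h15⟩ _ rfl).trans ((h14 d ⟨_, h15⟩ _ rfl).trans (h11 ⟨_, h15⟩ _ rfl).symm)
    let κ : ↥μ.ker →* ↥(U.comap L.ω) := MonoidHom.mk' (fun q => ⟨⟨_, hq q⟩, h7 (L.ωC ⟨_, hq q⟩) (h3 _ (hq q) ▸ (ψ q).2)⟩)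
      fun _ _ => rfl
    refine (splE_cyclic _ μ (MonoidHom.subgroupMap_surjective _ _) (η.comp κ) n (MonoidHom.ext fun _ => h10 _)
      fun g t t' e => ?_).imp fun η' ⟨_, _, h16⟩ t ht =>
        (h16 ⟨⟨t, ht⟩, hμ.2 (L.N1_eq.le (L.Tb_le t.2)).2⟩).trans (h11 t _ rfl)
    obtain ⟨q, h16, h17⟩ := h4 (ψ g)
    have h18 : q⁻¹ * g ∈ ψ.ker := by rw [MonoidHom.mem_ker, map_mul, map_inv, h17, inv_mul_cancel]
    have h19 := h15 ⟨_, h18⟩ (κ t) ((κ ⟨q, hμ.2 h16⟩)⁻¹ * κ t' * κ ⟨q, hμ.2 h16⟩) (by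
      show (q : A)⁻¹ * t'.1 * q = (q : A)⁻¹ * g * t.1 * ((q : A)⁻¹ * g)⁻¹
      rw [e]
      simp [mul_assoc])
    rwa [map_mul, map_mul, map_inv, inv_mul_cancel_comm] at h19
  choose η hη using h5
  have h6 := mul_le_index ψ μ (fun r => (h4 r).imp fun q hq => ⟨hμ.2 hq.1, hq.2⟩)
    (MonoidHom.subgroupMap_surjective _ _) η fun i j h => L.sep hc h1 fun t ht => by
      rw [← hη i t ht, ← hη j t ht]
      refine h _ (Subtype.ext ((h3 _ (L.Tb_le t.2)).trans (Subtype.ext ((L.ω_ker _).2 t.2)))) (hμ.2 ?_)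
      exact (L.N1_eq.le (L.Tb_le t.2)).2
  rwa [← nab, ← nab, ← out, Res.nab_eq P' P, out_eq P' P] at h6

end Loc2

end Cfsg.Agent.KZ.Lie
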