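import Cfsg.Agent.KZ.Lie.Loc
import Cfsg.Agent.S2530

/-!
# KZ: extension of invariant characters of `3`-power order (helper61)

`SplE U`, `Spl U`; `spl_of_coprime`, `spl_perm`, `spl_cox`, `spl_dihedral`, `Spl.ext`, `Spl.extE`, `splE_cyclic`,
`Spl.prod`, `Spl.sup`.
-/

set_option autoImplicit false
set_option linter.unusedSectionVars false

namespace Cfsg.Agent.KZ.Lie

/-- every invariant character of `3`-power order of an abelian kernel extends -/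
def SplE (U : Type) [Group U] : Prop :=
  ∀ (E : Type) [Group E] [Finite E] (ω : E →* U), Function.Surjective ω → ∀ (θ : ↥ω.ker →* ℂˣ) (j : ℕ), θ ^ 3 ^ j = 1 →
    (∀ (g : E) (t t' : ↥ω.ker), (t' : E) = g * t * g⁻¹ → θ t' = θ t) →
    ∃ (η : E →* ℂˣ) (i : ℕ), η ^ 3 ^ i = 1 ∧ ∀ t : ↥ω.ker, η t = θ t

/-- and the extension is unique -/
def Spl (U : Type) [Group U] : Prop := SplE U ∧ ∀ l : U →* ℂˣ, l ^ 3 = 1 → l = 1

variable {U V E T : Type} [Group U] [Group V] [Group E] [Group T]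

theorem eq_one_of_two_three {M : Type*} [Monoid M] {z : M} {j : ℕ} (h : z * z = 1) (h' : z ^ 3 ^ j = 1) : z = 1 :=
  orderOf_eq_one_iff.1 (Nat.eq_one_of_dvd_coprimes (Nat.Coprime.pow_right j (by decide : Nat.Coprime 2 3))
    (orderOf_dvd_of_pow_eq_one (by rwa [pow_two])) (orderOf_dvd_of_pow_eq_one h'))

theorem exists_three_exp {n : ℕ} (hn : n ≠ 0) (j : ℕ) : ∃ a i : ℕ, a ≡ 1 [MOD 3 ^ j] ∧ n ∣ a * 3 ^ i := by
  obtain ⟨i, m, h1, rfl⟩ := Nat.exists_eq_pow_mul_and_not_dvd hn 3 (by decide)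
  refine ⟨m ^ (3 ^ j).totient, i, Nat.ModEq.pow_totient
    (Nat.Coprime.pow_right j ((Nat.Prime.coprime_iff_not_dvd Nat.prime_three).2 h1).symm), ?_⟩
  rw [mul_comm]
  exact Nat.mul_dvd_mul_right (dvd_pow_self m (Nat.totient_pos.2 (by positivity)).ne') _

/-- the kernel is given as the image of a homomorphism -/
theorem SplE.ext' (h : SplE U) [Finite E] (ω : E →* U) (hs : Function.Surjective ω) (ι : T →* E)
    (hι : ∀ x, ω x = 1 ↔ ∃ t, ι t = x) (θ : T →* ℂˣ) {j : ℕ} (hj : ∀ t, θ t ^ 3 ^ j = 1)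
    (hθ : ∀ g t t', ι t' = g * ι t * g⁻¹ → θ t' = θ t) :
    ∃ (η : E →* ℂˣ) (i : ℕ), (∀ g, η g ^ 3 ^ i = 1) ∧ ∀ t, η (ι t) = θ t := by
  let φ : T →* ↥ω.ker := ι.codRestrict _ fun t => (hι _).2 ⟨t, rfl⟩
  have h1 : Function.Surjective φ := fun x => ((hι x).1 x.2).imp fun _ e => Subtype.ext e
  let θ' : ↥ω.ker →* ℂˣ := φ.liftOfSurjective h1 ⟨θ, fun t ht => (hθ 1 1 t (by
    rw [map_one, one_mul, one_mul, inv_one]; exact congrArg Subtype.val ht)).trans (map_one θ)⟩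
  have h2 : ∀ t, θ' (φ t) = θ t := MonoidHom.liftOfRightInverse_comp_apply _ _ (Function.rightInverse_surjInv h1) _
  refine (h E ω hs θ' j (MonoidHom.ext fun x => ?_) fun g x x' e => ?_).imp fun η ⟨i, h3, h4⟩ =>
    ⟨i, DFunLike.congr_fun h3, fun t => (h4 (φ t)).trans (h2 t)⟩
  · obtain ⟨t, rfl⟩ := h1 x
    rw [MonoidHom.pow_apply, h2, hj]
    rfl
  · obtain ⟨t, rfl⟩ := h1 x
    obtain ⟨t', rfl⟩ := h1 x'
    rw [h2, h2, hθ g t t' e]

theorem eq_one_of_ker (h : ∀ l : U →* ℂˣ, l ^ 3 = 1 → l = 1) (ω : E →* U) (hs : Function.Surjective ω) {η : E →* ℂˣ}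
    {i : ℕ} (hi : ∀ g, η g ^ 3 ^ i = 1) (hη : ∀ x, ω x = 1 → η x = 1) : η = 1 := by
  have h1 : ∀ (i : ℕ) (l : U →* ℂˣ), (∀ u, l u ^ 3 ^ i = 1) → l = 1 := fun i => by
    induction i with
    | zero => exact fun l hl => MonoidHom.ext fun u => (pow_one _).symm.trans (hl u)
    | succ i ih =>
      refine fun l hl => ih l (DFunLike.congr_fun (h (l ^ 3 ^ i) (MonoidHom.ext fun u => ?_)))
      rw [MonoidHom.pow_apply, MonoidHom.pow_apply, ← pow_mul, ← pow_succ, hl]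
      rfl
  have h2 : ∀ x, ω.liftOfSurjective hs ⟨η, hη⟩ (ω x) = η x :=
    MonoidHom.liftOfRightInverse_comp_apply _ _ (Function.rightInverse_surjInv hs) _
  refine MonoidHom.ext fun x => ?_
  rw [← h2, h1 i (ω.liftOfSurjective hs ⟨η, hη⟩) fun u => ?_]
  · rfl
  · obtain ⟨x, rfl⟩ := hs u
    rw [h2, hi]

/-- uniqueness of the extension -/
theorem Spl.unique (h : Spl U) (ω : E →* U) (hs : Function.Surjective ω) {η η' : E →* ℂˣ} {i i' : ℕ}
    (hi : ∀ g, η g ^ 3 ^ i = 1) (hi' : ∀ g, η' g ^ 3 ^ i' = 1) (hη : ∀ x, ω x = 1 → η x = η' x) : η = η' := by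
  have h1 := eq_one_of_ker h.2 ω hs (η := η / η') (i := i + i') (fun g => ?_) fun x hx => ?_
  · exact MonoidHom.ext fun g => div_eq_one.1 (DFunLike.congr_fun h1 g)
  · rw [MonoidHom.div_apply, div_pow, pow_add, pow_mul, hi, mul_comm, pow_mul, hi', one_pow, one_pow, div_one]
  · rw [MonoidHom.div_apply, hη x hx, div_self']

theorem SplE.congr (h : SplE U) (e : U ≃* V) : SplE V := fun _ _ _ ω hs θ _ hj hθ =>
  let ⟨η, i, h1, h2⟩ := h.ext' (e.symm.toMonoidHom.comp ω) (e.symm.surjective.comp hs) ω.ker.subtype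
    (fun x => (map_eq_one_iff e.symm e.symm.injective).trans ⟨fun hx => ⟨⟨x, hx⟩, rfl⟩, fun ⟨t, ht⟩ => ht ▸ t.2⟩) θ
    (DFunLike.congr_fun hj) hθ
  ⟨η, i, MonoidHom.ext h1, h2⟩

theorem Spl.congr (h : Spl U) (e : U ≃* V) : Spl V := ⟨h.1.congr e, fun l hl => MonoidHom.ext fun v => by
  obtain ⟨u, rfl⟩ := e.surjective v
  exact DFunLike.congr_fun (h.2 (l.comp e.toMonoidHom) (MonoidHom.ext fun u => DFunLike.congr_fun hl (e u))) u⟩

/-- reduction to a central kernel -/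
theorem splE_of_central (h : ∀ (E : Type) [Group E] [Finite E] (ω : E →* U), Function.Surjective ω →
    (∀ z, ω z = 1 → ∀ g, g * z = z * g) → ∀ j : ℕ, (∀ z, ω z = 1 → z ^ 3 ^ j = 1) → ∀ θ : ↥ω.ker →* ℂˣ,
      ∃ η : E →* ℂˣ, ∀ t : ↥ω.ker, η t = θ t) : SplE U := by
  intro E _ _ ω hs θ j hj hθ
  let K := θ.ker.map ω.ker.subtype
  have : K.Normal := ⟨by
    rintro _ ⟨t, ht, rfl⟩ g
    exact ⟨⟨_, ω.normal_ker.conj_mem _ t.2 g⟩, (hθ g t _ rfl).trans ht, rfl⟩⟩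
  let ω' : E ⧸ K →* U := QuotientGroup.lift K ω (by rintro _ ⟨t, -, rfl⟩; exact t.2)
  let φ : ↥ω.ker →* ↥ω'.ker := ((QuotientGroup.mk' K).comp ω.ker.subtype).codRestrict _ fun t => t.2
  have h1 : Function.Surjective φ := by
    rintro ⟨⟨x⟩, hx⟩
    exact ⟨⟨x, hx⟩, rfl⟩
  let θ' : ↥ω'.ker →* ℂˣ := φ.liftOfSurjective h1 ⟨θ, fun t ht => by
    obtain ⟨u, h2, h3⟩ := (QuotientGroup.eq_one_iff _).1 (congrArg Subtype.val ht)
    rwa [← show u = t from Subtype.ext h3]⟩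
  have h2 : ∀ t, θ' (φ t) = θ t := MonoidHom.liftOfRightInverse_comp_apply _ _ (Function.rightInverse_surjInv h1) _
  have h0 := h (E ⧸ K) ω' (fun u => let ⟨x, hx⟩ := hs u; ⟨x, hx⟩) ?_ j ?_ θ'
  · obtain ⟨η, h3⟩ := h0
    obtain ⟨a, i, h4, h5⟩ := exists_three_exp (Nat.card_pos (α := E)).ne' j
    refine ⟨η.comp (QuotientGroup.mk' K) ^ a, i, MonoidHom.ext fun g => ?_, fun t => ?_⟩
    · rw [MonoidHom.pow_apply, MonoidHom.pow_apply, ← pow_mul, ← map_pow,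
        orderOf_dvd_iff_pow_eq_one.1 ((orderOf_dvd_natCard g).trans h5), map_one]
      rfl
    · rw [MonoidHom.pow_apply, show η.comp (QuotientGroup.mk' K) t = θ t from (h3 (φ t)).trans (h2 t),
        pow_eq_pow_of_modEq h4 (DFunLike.congr_fun hj t), pow_one]
  · rintro ⟨z⟩ hz ⟨g⟩
    refine QuotientGroup.eq.2 ⟨⟨z, hz⟩⁻¹ * ⟨_, ω.normal_ker.conj_mem _ hz g⁻¹⟩, ?_, by simp [mul_assoc]⟩
    rw [SetLike.mem_coe, MonoidHom.mem_ker, map_mul, map_inv, hθ g⁻¹ ⟨z, hz⟩ ⟨_, ω.normal_ker.conj_mem _ hz g⁻¹⟩ rfl,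
      inv_mul_cancel]
  · rintro ⟨z⟩ hz
    exact (QuotientGroup.eq_one_iff (z ^ 3 ^ j)).2 ⟨⟨z, hz⟩ ^ 3 ^ j, (map_pow θ _ _).trans (DFunLike.congr_fun hj _), rfl⟩

theorem splE_of_sec (h : ∀ (E : Type) [Group E] [Finite E] (ω : E →* U), Function.Surjective ω →
    (∀ z, ω z = 1 → ∀ g, g * z = z * g) → ∀ j : ℕ, (∀ z, ω z = 1 → z ^ 3 ^ j = 1) → ∃ σ : U →* E, ∀ u, ω (σ u) = u) :
    SplE U := splE_of_central fun E _ _ ω hs hc j hj θ => by
  obtain ⟨σ, hσ⟩ := h E ω hs hc j hj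
  have h1 : ∀ e, e * (σ (ω e))⁻¹ ∈ ω.ker := fun e => by rw [MonoidHom.mem_ker, map_mul, map_inv, hσ, mul_inv_cancel]
  refine ⟨θ.comp (MonoidHom.mk' (fun e => ⟨_, h1 e⟩) fun a b => Subtype.ext ?_), fun t => congrArg θ (Subtype.ext ?_)⟩
  · show a * b * (σ (ω (a * b)))⁻¹ = a * (σ (ω a))⁻¹ * (b * (σ (ω b))⁻¹)
    rw [mul_assoc a (σ (ω a))⁻¹, hc _ (h1 b), map_mul, map_mul]
    group
  · show (t : E) * (σ (ω t))⁻¹ = t
    rw [show ω t = 1 from t.2, map_one, inv_one, mul_one]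

theorem exists_sec (ω : E →* U) (H : Subgroup E) (h1 : ∀ x ∈ H, ω x = 1 → x = 1) (h2 : ∀ u, ∃ x ∈ H, ω x = u) :
    ∃ σ : U →* E, ∀ u, ω (σ u) = u :=
  let e := MulEquiv.ofBijective (ω.comp H.subtype) ⟨(injective_iff_map_eq_one (ω.comp H.subtype)).2
    fun x hx => Subtype.ext (h1 x x.2 hx),
    fun u => let ⟨x, hx, e⟩ := h2 u; ⟨⟨x, hx⟩, e⟩⟩
  ⟨H.subtype.comp e.symm.toMonoidHom, e.apply_symm_apply⟩

theorem spl_of_coprime [Finite U] (h : ¬ 3 ∣ Nat.card U) : Spl U := by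
  have : Fact (Nat.Prime 3) := ⟨Nat.prime_three⟩
  have h0 := (Nat.Prime.coprime_iff_not_dvd Nat.prime_three).2 h
  refine ⟨splE_of_sec fun E _ _ ω hs _ j hj => ?_, fun l hl => MonoidHom.ext fun u => orderOf_eq_one_iff.1
    (Nat.eq_one_of_dvd_coprimes h0 (orderOf_dvd_of_pow_eq_one (DFunLike.congr_fun hl u))
      ((orderOf_map_dvd l u).trans (orderOf_dvd_natCard u)))⟩
  obtain ⟨n, hn⟩ := IsPGroup.iff_card.1 (show IsPGroup 3 ↥ω.ker from fun z => ⟨j, Subtype.ext (hj z z.2)⟩)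
  obtain ⟨H, hH⟩ := Subgroup.exists_right_complement'_of_coprime (N := ω.ker) (by
    rw [hn, Subgroup.index_ker, MonoidHom.range_eq_top.2 hs, Subgroup.card_top]
    exact h0.pow_left n)
  refine exists_sec ω H (fun x h1 h2 => Subgroup.disjoint_def.1 hH.disjoint h2 h1) fun u => ?_
  obtain ⟨x, rfl⟩ := hs u
  obtain ⟨⟨a, b⟩, rfl⟩ := hH.2 x
  exact ⟨b, b.2, by rw [map_mul, show ω a = 1 from a.2, one_mul]⟩

section

variable {ω : E →* U} (hs : Function.Surjective ω) (hc : ∀ z, ω z = 1 → ∀ g, g * z = z * g) {j : ℕ}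
  (hj : ∀ z, ω z = 1 → z ^ 3 ^ j = 1)
include hj

include hs in
theorem exists_inv_lift {u : U} (hu : u * u = 1) : ∃ x, ω x = u ∧ x * x = 1 := by
  obtain ⟨x, rfl⟩ := hs u
  refine ⟨x ^ 3 ^ j, ?_, by rw [← (Commute.refl x).mul_pow, hj _ (by rwa [map_mul])]⟩
  obtain ⟨m, hm⟩ : Odd (3 ^ j) := Odd.pow (by decide)
  rw [map_pow, hm, pow_succ, pow_mul, pow_two, hu, one_pow, one_mul]

include hc in
theorem zpow_eq_one_of_inv {x y : E} (hx : x * x = 1) (hy : y * y = 1) {n : ℤ} (h : ω ((x * y) ^ n) = 1) :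
    (x * y) ^ n = 1 := by
  refine eq_one_of_two_three ?_ (hj _ h)
  have h1 : x * (x * y) * x⁻¹ = (x * y)⁻¹ := by
    rw [← mul_assoc, hx, one_mul, mul_inv_rev, inv_eq_of_mul_eq_one_right hy]
  nth_rw 1 [← mul_inv_eq_iff_eq_mul.2 (hc _ h x)]
  rw [← conj_zpow, h1, inv_zpow, inv_mul_cancel]

end

theorem lin_eq_one_of_sq {l : U →* ℂˣ} (h : l ^ 3 = 1) {u : U} (hu : u * u = 1) : l u = 1 :=
  eq_one_of_two_three (j := 1) (by rw [← map_mul, hu, map_one]) (DFunLike.congr_fun h u)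

theorem spl_cox {B W : Type} [Group W] {M : CoxeterMatrix B} (cs : CoxeterSystem M W) : Spl W := by
  refine ⟨splE_of_sec fun E _ _ ω hs hc j hj => ?_, fun l hl => cs.ext_simple fun i =>
    lin_eq_one_of_sq hl (cs.simple_mul_simple_self i)⟩
  choose x h1 h2 using fun i => exists_inv_lift hs hj (cs.simple_mul_simple_self i)
  have h3 : M.IsLiftable x := fun a b => by
    rw [← zpow_natCast]
    exact zpow_eq_one_of_inv hc hj (h2 a) (h2 b) (by
      rw [zpow_natCast, map_pow, map_mul, h1, h1, cs.simple_mul_simple_pow])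
  exact ⟨cs.lift ⟨x, h3⟩, DFunLike.congr_fun (cs.ext_simple (φ₁ := ω.comp (cs.lift ⟨x, h3⟩)) (φ₂ := MonoidHom.id W)
    fun i => by rw [MonoidHom.comp_apply, cs.lift_apply_simple, h1]; rfl)⟩

theorem spl_perm (α : Type) [Finite α] : Spl (Equiv.Perm α) := by
  obtain ⟨n, ⟨e⟩⟩ := Finite.exists_equiv_fin α
  cases n with
  | zero =>
    have := e.isEmpty
    exact spl_of_coprime (by rw [Nat.card_unique]; decide)
  | succ n => exact (spl_cox (S2530.result n).choose).congr e.symm.permCongrHom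

theorem mem_dihedral {x y : E} (hx : x * x = 1) (hy : y * y = 1) {h : E} (hh : h ∈ Subgroup.closure {x, y}) :
    ∃ n : ℤ, h = (x * y) ^ n ∨ h = (x * y) ^ n * x := by
  have h0 := inv_eq_of_mul_eq_one_right hx
  have h1 : ∀ n : ℤ, x * (x * y) ^ n = (x * y) ^ (-n) * x := fun n => by
    rw [← mul_inv_eq_iff_eq_mul, ← conj_zpow, ← mul_assoc, hx, one_mul, zpow_neg, ← inv_zpow, mul_inv_rev,
      inv_eq_of_mul_eq_one_right hy]
  induction hh using Subgroup.closure_induction with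
  | mem a ha =>
    rcases ha with rfl | rfl
    · exact ⟨0, .inr (by simp)⟩
    · exact ⟨-1, .inr (by rw [zpow_neg_one, mul_inv_rev, inv_eq_of_mul_eq_one_right hy, inv_mul_cancel_right])⟩
  | one => exact ⟨0, .inl (by simp)⟩
  | mul a b _ _ ha hb =>
    obtain ⟨m, rfl | rfl⟩ := ha <;> obtain ⟨n, rfl | rfl⟩ := hb
    · exact ⟨m + n, .inl (zpow_add _ _ _).symm⟩
    · exact ⟨m + n, .inr (by rw [zpow_add, mul_assoc])⟩
    · exact ⟨m + -n, .inr (by rw [zpow_add, mul_assoc, mul_assoc, h1])⟩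
    · exact ⟨m + -n, .inl (by rw [zpow_add, mul_assoc, ← mul_assoc x, h1, mul_assoc, hx, mul_one])⟩
  | inv a _ ha =>
    obtain ⟨m, rfl | rfl⟩ := ha
    · exact ⟨-m, .inl (zpow_neg _ _).symm⟩
    · exact ⟨m, .inr (by rw [mul_inv_rev, h0, ← zpow_neg, h1, neg_neg])⟩

theorem spl_dihedral {W : Type} [Group W] {a b : W} (ha : a * a = 1) (hb : b * b = 1) :
    Spl ↥(Subgroup.closure {a, b}) := by
  have h1 : a ∈ Subgroup.closure {a, b} := Subgroup.subset_closure (.inl rfl)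
  have h2 : b ∈ Subgroup.closure {a, b} := Subgroup.subset_closure (.inr rfl)
  have h3 : ∀ u : ↥(Subgroup.closure {a, b}), ∃ n : ℤ, u = (⟨a, h1⟩ * ⟨b, h2⟩) ^ n ∨ u = (⟨a, h1⟩ * ⟨b, h2⟩) ^ n * ⟨a, h1⟩ :=
    fun u => (mem_dihedral ha hb u.2).imp fun _ h => h.imp Subtype.ext Subtype.ext
  refine ⟨splE_of_sec fun E _ _ ω hs hc j hj => ?_, fun l hl => MonoidHom.ext fun u => ?_⟩
  · obtain ⟨x, hx, hx'⟩ := exists_inv_lift hs hj (u := ⟨a, h1⟩) (Subtype.ext ha)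
    obtain ⟨y, hy, hy'⟩ := exists_inv_lift hs hj (u := ⟨b, h2⟩) (Subtype.ext hb)
    have h4 : x ∈ Subgroup.closure {x, y} := Subgroup.subset_closure (.inl rfl)
    have h5 : ∀ n : ℤ, (x * y) ^ n ∈ Subgroup.closure {x, y} := zpow_mem (mul_mem h4 (Subgroup.subset_closure (.inr rfl)))
    refine exists_sec ω (Subgroup.closure {x, y}) (fun h h6 h7 => ?_) fun u => ?_
    · obtain ⟨n, rfl | rfl⟩ := mem_dihedral hx' hy' h6
      · exact zpow_eq_one_of_inv hc hj hx' hy' h7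
      · refine eq_one_of_two_three ?_ (hj _ h7)
        rw [← mul_assoc, mul_assoc _ x, mul_inv_eq_iff_eq_mul.1 (conj_zpow (a := x) (b := x * y) (i := n)).symm,
          ← mul_assoc x, hx', one_mul, ← inv_eq_of_mul_eq_one_right hy', ← mul_inv_rev, inv_eq_of_mul_eq_one_right hy',
          inv_zpow, mul_inv_cancel_left, hx']
    · obtain ⟨n, rfl | rfl⟩ := h3 u
      · exact ⟨_, h5 n, by rw [map_zpow, map_mul, hx, hy]⟩
      · exact ⟨_, mul_mem (h5 n) h4, by rw [map_mul, map_zpow, map_mul, hx, hy]⟩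
  · have h4 := lin_eq_one_of_sq hl (u := ⟨a, h1⟩) (Subtype.ext ha)
    have h5 := lin_eq_one_of_sq hl (u := ⟨b, h2⟩) (Subtype.ext hb)
    obtain ⟨n, rfl | rfl⟩ := h3 u <;> simp [h4, h5, -MulMemClass.mk_mul_mk]

theorem Spl.extE (φ : U →* V) (hφ : Function.Surjective φ) (h : Spl ↥φ.ker) (h' : SplE V) : SplE U := by
  intro E _ _ ω hs θ j hj hθ
  let ω₁ : ↥(φ.comp ω).ker →* ↥φ.ker := (ω.comp (φ.comp ω).ker.subtype).codRestrict _ fun x => x.2
  have h1 : Function.Surjective ω₁ := fun u => let ⟨x, hx⟩ := hs u; ⟨⟨x, (congrArg φ hx).trans u.2⟩, Subtype.ext hx⟩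
  have h0 : ω.ker ≤ (φ.comp ω).ker := fun x hx => (congrArg φ hx).trans (map_one φ)
  obtain ⟨η, i, h2, h3⟩ := h.1.ext' ω₁ h1 (Subgroup.inclusion h0)
    (fun x => ⟨fun hx => ⟨⟨x, congrArg Subtype.val hx⟩, rfl⟩, fun ⟨t, ht⟩ => ht ▸ Subtype.ext t.2⟩) θ
    (DFunLike.congr_fun hj) fun g t t' e => hθ g t t' (congrArg Subtype.val e)
  refine (h' E (φ.comp ω) (hφ.comp hs) η i (MonoidHom.ext h2) fun g t t' e => ?_).imp fun η' ⟨i', h4, h5⟩ =>
    ⟨i', h4, fun t => (h5 (Subgroup.inclusion h0 t)).trans (h3 t)⟩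
  · rw [show t' = MulAut.conjNormal g t from Subtype.ext e]
    refine DFunLike.congr_fun (h.unique ω₁ h1 (η := η.comp (MulAut.conjNormal g).toMonoidHom) (fun _ => h2 _) h2
      fun x hx => ?_) t
    have h6 : (x : E) ∈ ω.ker := congrArg Subtype.val hx
    exact (h3 ⟨_, ω.normal_ker.conj_mem _ h6 g⟩).trans ((hθ g ⟨x, h6⟩ _ rfl).trans (h3 ⟨x, h6⟩).symm)

theorem Spl.ext (φ : U →* V) (hφ : Function.Surjective φ) (h : Spl ↥φ.ker) (h' : Spl V) : Spl U :=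
  ⟨h.extE φ hφ h'.1, fun l hl => eq_one_of_ker h'.2 φ hφ (i := 1) (DFunLike.congr_fun hl) fun x hx =>
    DFunLike.congr_fun (h.2 (l.comp φ.ker.subtype) (MonoidHom.ext fun u => DFunLike.congr_fun hl u.1)) ⟨x, hx⟩⟩

theorem splE_cyclic [IsCyclic U] : SplE U := splE_of_central fun E _ _ ω _ hc _ _ θ => by
  obtain ⟨η, h⟩ := exists_ext_lin (K := ω.ker) (L := ⊤) (fun a _ b _ =>
    (ω.isMulCommutative_of_isCyclic_of_ker_le_center fun z hz => Subgroup.mem_center_iff.2 (hc z hz)).is_comm.comm a b)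
    le_top θ
  exact ⟨η.comp (Subgroup.topEquiv (G := E)).symm.toMonoidHom, h⟩

theorem Spl.prod (h : Spl U) (h' : Spl V) : Spl (U × V) :=
  Spl.ext (MonoidHom.snd U V) Prod.snd_surjective (h.congr
    { toFun := fun u => ⟨(u, 1), rfl⟩
      invFun := fun x => x.1.1
      left_inv := fun _ => rfl
      right_inv := fun x => Subtype.ext (Prod.ext rfl (show (x : U × V).2 = 1 from x.2).symm)
      map_mul' := fun _ _ => Subtype.ext (Prod.ext rfl (mul_one 1).symm) }) h'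

/-- commuting subgroups -/
theorem Spl.sup {W : Type} [Group W] {U V : Subgroup W} (h : Spl ↥U) (h' : Spl ↥V)
    (hc : ∀ a ∈ U, ∀ b ∈ V, a * b = b * a) (hi : U ⊓ V = ⊥) : Spl ↥(U ⊔ V) :=
  (h.prod h').congr ((MonoidHom.ofInjective (f := U.subtype.noncommCoprod V.subtype fun a b => hc a a.2 b b.2)
    ((MonoidHom.noncommCoprod_injective _ _ _).2 ⟨U.subtype_injective, V.subtype_injective, by
      rwa [U.range_subtype, V.range_subtype, disjoint_iff]⟩)).trans (MulEquiv.subgroupCongr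
        ((MonoidHom.noncommCoprod_range _ _ _).trans (by rw [U.range_subtype, V.range_subtype]))))

end Cfsg.Agent.KZ.Lie
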