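import Cfsg.Agent.KZ.Lie.ApiE

/-!
# KZ-UNIF: the label of a linear character is central (helper87)

Induction on the number of roots.  `IH.sub` : a stable set of roots which lies in a proper connected centraliser.
What remains are the data with one orbit of simple roots: `A1 ^ r` (diagonal automorphisms), `B2 ^ r` (`p = 2`),
`A2 ^ r` and `G2 ^ r` (two proper centralisers).
-/

set_option autoImplicit false
set_option linter.unusedSectionVars false

namespace Cfsg.Agent.KZ.Lie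

open Cfsg Cfsg.Agent.DL Cfsg.Agent.DL.PP Cfsg.Agent.DL.Uni Cfsg.Agent.DL.Asm Cfsg.Agent.Nodes.Reps Matrix
  Cfsg.Agent.DL.Mk Cfsg.Agent.Nodes.BNOf Cfsg.Agent.KZ.Levi Cfsg.Agent.ChevalleyStructure.CoxeterGeom
  Cfsg.Agent.Tits.Roots Cfsg.Agent.DL.Base CoxeterSystem

variable {p : ℕ} [Fact p.Prime] {k : Type} [Field k] [CharP k p] {Y : Type} [Group Y] {N : Type} [Fintype N]
  [DecidableEq N] {ρ : Y →* GL N k} {F : MulAut Y} {G : Subgroup Y} [IsAlgClosed k] {D : Datum p ρ F G}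
  {y : Y} {w v : D.W} {θ : Y → ℂ} {c : Lbl D} {i j : D.I}

namespace ApiE

theorem exists_a (s : D.I → kˣ) : ∃ a : D.R → kˣ, ∀ b, chr (D.wt b) a = chr b s := by
  obtain ⟨u, rfl⟩ := mon_surj (det_cartan D) s
  refine ⟨∏ l, coch (D.cw l) (u l), fun b => ?_⟩
  rw [chr_mon, ← vecMul_vecMul, vecMul_Wt, map_prod, chr_apply]
  exact Finset.prod_congr rfl fun l _ => chr_coch _ _ _

theorem chr_sr (l : D.I) (s : D.I → kˣ) : chr (sr l) s = s l := chr_single l s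

theorem mon_simple (l : D.I) (a : D.R → kˣ) :
    mon (D.Wm (D.cs.simple l)) a = a * (coch (D.cw l) (chr (D.wt (sr l)) a))⁻¹ :=
  D.τ_inj ((D.conj_τ (rp_simple _ _ l) a).symm.trans (D.refl l a))

variable (D) in
/-- the induction hypothesis -/
def IH : Prop := ∀ (G' : Subgroup Y) (D' : Datum p ρ F G'), {a | D'.Rt a}.ncard < {a | D.Rt a}.ncard → Unif D'

section Sub

variable (H : IH D) (f : Fr D) (hθ : PL p (GF F G) θ) {O : Set (D.I → ℤ)} (hO : ∀ b ∈ O, D.Rt b) {s : D.I → kˣ}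
  (hs : ∀ b ∈ O, chr b s = 1) (h1 : s ≠ 1) {b : D.I → ℤ} (hb : b ∈ O)
include H hθ hO hs h1 hb

theorem IH.sub (hg : ∀ b ∈ O, D.g b ∈ O) (hc : Lab D f.d f.ζ 1 θ c) :
    chr (D.cor b) c = 1 ∧ ∃ y ∈ G, D.Rp (D.rf b) (y⁻¹ * F y) ∧ Lab D f.d f.ζ y θ c := by
  obtain ⟨a, ha⟩ := exists_a s
  let Z : Set Y := {z | z ∈ D.T ∧ ∀ b ∈ O, D.χ b z = 1}
  have hZ : Z ⊆ D.T := fun _ h => h.1
  have hF : ∀ a ∈ D.Sz Z, D.g a ∈ D.Sz Z := fun _ => D.g_mem_Sz hZ fun z hz => ⟨D.F_mem_T hz.1, fun b hb => by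
    obtain ⟨b, hb', rfl⟩ := (D.g_bijOn hO hg).surjOn hb
    rw [D.χ_F (hO b hb') hz.1, hz.2 b hb', one_pow]⟩
  have hW : ∀ u, (D.sub hZ hF rfl).Wm u = D.Wm (D.subW Z u) := fun u => by
    obtain ⟨m, hm, -⟩ := (D.sub hZ hF rfl).exists_rp u
    exact mon_inj (k := k) fun c => D.τ_inj
      (((D.sub hZ hF rfl).conj_τ hm c).symm.trans (D.conj_τ (D.rp_of_sub hZ hF rfl hm) c))
  obtain ⟨c', h2, h3⟩ := H _ (D.sub hZ hF rfl) (by
      rw [← Set.ncard_image_of_injective _ (D.io_injective Z)]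
      refine Set.ncard_lt_ncard (((D.io_roots Z).trans_subset D.Sz_root).ssubset_of_ne fun e => h1 ?_) D.finite_roots
      funext l
      have h2 := (((D.io_roots Z).symm.trans e).ge (isRoot_sr _ _ l)).2 (D.τ a)
        ⟨D.τ_mem a, fun b hb => by rw [D.χ_τ, ha, hs b hb, Units.val_one]⟩
      rwa [D.χ_τ, ha, chr_sr, Units.val_eq_one] at h2)
    ⟨f.d, f.e, ⟨f.L.d_pos, f.L.e_pos, fun u => by rw [hW]; exact f.L.pow _⟩, f.ζ, f.hζ⟩ θ
    (hθ.mono fun _ hx => ⟨D.cen_le_G Z hx.1, hx.2⟩)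
  obtain rfl : c = c' := lab_uniq hc (h3 1 (one_mem _) ⟨1, rp11⟩)
  obtain ⟨b, hb', rfl⟩ := (D.io_roots Z).ge (⟨hO b hb, fun z hz => hz.2 b hb⟩ : b ∈ D.Sz Z)
  refine ⟨?_, ?_⟩
  · obtain ⟨u, l, rfl⟩ := hb'
    rw [← D.act_subW hZ hF rfl, show D.io Z (@sr _ (D.sub hZ hF rfl).dI l) = bs D.cs D.h (D.Lam Z) l from
      @Nodes.SubComb.iota_sr _ _ _ _ (D.sub hZ hF rfl).fI (D.sub hZ hF rfl).dI _ l, D.cor_act _ (bs_root l), ← hW]
    exact (rel_of_cen h2 u _).trans (h2 l)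
  · obtain ⟨y, hy, h4⟩ := (D.sub hZ hF rfl).exists_type ((D.sub hZ hF rfl).rf b)
    exact ⟨y, D.cen_le_G Z hy, D.subW_rf hZ hF rfl hb' ▸ D.rp_of_sub hZ hF rfl h4, h3 y hy ⟨_, h4⟩⟩

theorem IH.tw (hy : y ∈ G) (hw : D.Rp w (y⁻¹ * F y)) (hg : ∀ b ∈ O, D.act w (D.g b) ∈ O)
    (hc : Lab D f.d f.ζ y θ c) : chr (D.cor b) c = 1 := by
  rw [← ApiC.conj_cor hy ⟨w, hw⟩ (hO b hb)]
  exact (IH.sub (D := D.conj hy ⟨w, hw⟩) H (frConj f hy ⟨w, hw⟩) hθ hO hs h1 hb
    (fun b hb => by rw [D.conj_g, hw.pr_eq]; exact hg b hb) ((lab_conj hy ⟨w, hw⟩).2 (by rwa [one_mul]))).1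

end Sub

/-! ### the Cartan matrix -/

theorem act_sr (l m : D.I) : D.act (D.cs.simple l) (sr m) = sr m - D.A l m • sr l := by
  rw [Datum.act, rep_simple_eq, sr, pairing_single, mul_one]

theorem A_comm {l m : D.I} (h : D.A l m = 0) : D.A m l = 0 := by
  by_cases e : l = m
  · rwa [e] at h ⊢
  · have := D.h.rel l m e
    omega

theorem A_nonpos {l m : D.I} (e : l ≠ m) : D.A l m ≤ 0 := by
  have := D.h.rel l m e
  omega

theorem exists_diag {P : D.W → Prop} (h1 : P 1) (h2 : ∀ a b, P a → P b → P (a * b)) (u : D.I → D.W)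
    (ε : D.I → D.I → ℤ) (S : Finset D.I) (h : ∀ l ∈ S, P (u l) ∧ ∀ m, D.act (u l) (sr m) = ε l m • sr m) :
    ∃ v, P v ∧ ∀ m, D.act v (sr m) = (∏ l ∈ S, ε l m) • sr m := by
  induction S using Finset.induction_on with
  | empty => exact ⟨1, h1, fun m => by simp [Datum.act]⟩
  | insert l S hl ih =>
    obtain ⟨v, h3, h4⟩ := ih fun m hm => h m (Finset.mem_insert_of_mem hm)
    obtain ⟨h5, h6⟩ := h l (Finset.mem_insert_self _ _)
    refine ⟨u l * v, h2 _ _ h5 h3, fun m => ?_⟩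
    simp only [Datum.act] at h4 h6 ⊢
    rw [rep_mul_apply, h4, map_zsmul, h6, Finset.prod_insert hl, smul_smul, mul_comm]

variable (h : D.QS)
include h

theorem g_simple (l : D.I) {a : D.I → ℤ} (ha : D.Rt a) :
    D.g (D.act (D.cs.simple l) a) = D.act (D.cs.simple (D.σ l)) (D.g a) := by rw [D.g_act _ ha, h.Fw_simple]

theorem A_σ (l m : D.I) : D.A (D.σ l) (D.σ m) * p ^ D.ex (sr l) = p ^ D.ex (sr m) * D.A l m := by
  have h1 := D.ψ_act (D.cs.simple l) (sr (D.σ m))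
  have h2 : ∀ l, D.ψ (sr (D.σ l)) = ((p : ℤ) ^ D.ex (sr l)) • sr l := fun l => by
    rw [← h.g_sr, D.ψ_g (isRoot_sr _ _ l)]
  rw [h.Fw_simple, act_sr, map_sub, map_zsmul, h2, h2, Datum.act, map_zsmul, ← Datum.act, act_sr, smul_sub,
    sub_right_inj, smul_smul, smul_smul] at h1
  simpa [sr_self] using congrFun h1 l

theorem A_pow (n : ℕ) (l m : D.I) : ∃ E E' : ℕ, D.A ((D.σ ^ n) l) ((D.σ ^ n) m) * p ^ E = p ^ E' * D.A l m ∧
    D.A ((D.σ ^ n) m) ((D.σ ^ n) l) * p ^ E' = p ^ E * D.A m l := by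
  induction n with
  | zero => exact ⟨0, 0, by simp, by simp⟩
  | succ n ih =>
    obtain ⟨E, E', h1, h2⟩ := ih
    refine ⟨D.ex (sr ((D.σ ^ n) l)) + E, D.ex (sr ((D.σ ^ n) m)) + E', ?_, ?_⟩ <;>
      rw [pow_succ', Equiv.Perm.mul_apply, Equiv.Perm.mul_apply, pow_add, pow_add, ← mul_assoc, A_σ h, mul_assoc, mul_assoc]
    · rw [h1]
    · rw [h2]

theorem A_pow_zero (n : ℕ) {l m : D.I} : D.A ((D.σ ^ n) l) ((D.σ ^ n) m) = 0 ↔ D.A l m = 0 := by
  obtain ⟨E, E', h1, -⟩ := A_pow h n l m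
  have h2 : ∀ E : ℕ, (p : ℤ) ^ E ≠ 0 := fun E => pow_ne_zero _ (Nat.cast_ne_zero.2 (Fact.out : p.Prime).ne_zero)
  rw [← mul_eq_zero_iff_right (h2 E), h1, mul_eq_zero_iff_left (h2 E')]

theorem A_pow_mul (n : ℕ) (l m : D.I) :
    D.A ((D.σ ^ n) l) ((D.σ ^ n) m) * D.A ((D.σ ^ n) m) ((D.σ ^ n) l) = D.A l m * D.A m l := by
  obtain ⟨E, E', h1, h3⟩ := A_pow h n l m
  have h2 : ∀ E : ℕ, (p : ℤ) ^ E ≠ 0 := fun E => pow_ne_zero _ (Nat.cast_ne_zero.2 (Fact.out : p.Prime).ne_zero)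
  refine mul_right_cancel₀ (mul_ne_zero (h2 E) (h2 E')) ?_
  rw [mul_mul_mul_comm, h1, h3]
  ring

theorem Fw_neg (hv : ∀ l, D.act v (sr l) = -sr l) : D.Fw v = v := by
  rw [← inv_mul_eq_one]
  refine D.act_eq_one fun l => ?_
  obtain ⟨l, rfl⟩ := D.σ.surjective l
  have h1 := D.g_act v (isRoot_sr _ _ l)
  rw [hv, D.g_neg (isRoot_sr _ _ l), h.g_sr, ← hv] at h1
  simp only [Datum.act] at h1 ⊢
  rw [rep_mul_apply, h1, rep_inv_apply]

variable (ht : ∀ l m : D.I, ∃ n : ℕ, (D.σ ^ n) l = m)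
include ht

theorem nb_uniq {l m m' : D.I} (h1 : l ≠ m) (h2 : l ≠ m') (h3 : D.A l m ≠ 0) (h4 : D.A l m' ≠ 0) : m = m' := by
  by_contra e
  have := Fintype.ofFinite D.W
  obtain ⟨x, -, hx⟩ := exists_pairing_pos D.cs D.h (x := fun _ => 1) (fun _ => zero_le_one)
    fun e => one_ne_zero (congrFun e l)
  obtain ⟨n, rfl⟩ := ht l x
  have h5 := (D.σ ^ n).injective.ne h1
  have h6 := (D.σ ^ n).injective.ne h2
  have h7 := A_nonpos h5
  have h8 := A_nonpos h6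
  rw [Ne, ← A_pow_zero h n] at h3 h4
  rw [pairing, ← Finset.sum_add_sum_compl {(D.σ ^ n) l, (D.σ ^ n) m, (D.σ ^ n) m'},
    Finset.sum_insert (by simp [h1, h2]), Finset.sum_pair ((D.σ ^ n).injective.ne e), D.h.diag] at hx
  have h9 := Finset.sum_nonpos (s := {(D.σ ^ n) l, (D.σ ^ n) m, (D.σ ^ n) m'}ᶜ) (f := fun x => D.A ((D.σ ^ n) l) x * 1)
    fun x hx => by
      rw [mul_one]
      exact A_nonpos fun e => by simp [← e] at hx
  omega

theorem act_far {l m : D.I} (h1 : l ≠ m) (h2 : D.A l m ≠ 0) {b : D.I → ℤ} (h3 : b l = 0) (h4 : b m = 0) :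
    rep D.cs D.h (D.cs.simple l) b = b := by
  rw [rep_simple_eq, pairing, Finset.sum_eq_zero fun x _ => ?_, zero_smul, sub_zero]
  by_contra e
  by_cases e' : l = x
  · exact right_ne_zero_of_mul e (e' ▸ h3)
  · exact right_ne_zero_of_mul e (nb_uniq h ht h1 e' h2 (left_ne_zero_of_mul e) ▸ h4)

section Pair

variable (hij : i ≠ j) (hA : D.A i j ≠ 0)
include hij hA

theorem exists_ret : ∃ r, 0 < r ∧ (D.σ ^ r) i = j ∧ (D.σ ^ r) j = i ∧
    ∀ a, 0 < a → a < r → ((D.σ ^ a) i ≠ i ∧ (D.σ ^ a) j ≠ i) ∧ (D.σ ^ a) i ≠ j ∧ (D.σ ^ a) j ≠ j := by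
  classical
  have h1 := Nat.find_spec (ht i j)
  have h2 := fun a => Nat.find_min (ht i j) (m := a)
  generalize Nat.find (ht i j) = r at h1 h2
  have h3 : ∀ a : ℕ, (D.σ ^ a) j ≠ (D.σ ^ a) i ∧ D.A ((D.σ ^ a) j) ((D.σ ^ a) i) ≠ 0 := fun a =>
    ⟨(D.σ ^ a).injective.ne hij.symm, fun e => hA (A_comm ((A_pow_zero h a).1 e))⟩
  refine ⟨r, Nat.pos_of_ne_zero fun e => hij (by rwa [e] at h1), h1, ?_, fun a ha hr => ?_⟩
  · obtain ⟨h4, h5⟩ := h3 r
    rw [h1] at h4 h5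
    exact nb_uniq h ht h4.symm hij.symm (fun e => h5 (A_comm e)) fun e => hA (A_comm e)
  · obtain ⟨h4, h5⟩ := h3 a
    have h6 : (D.σ ^ a) i ≠ i := fun e => h2 (r - a) (by omega) (by
      rw [← e, ← Equiv.Perm.mul_apply, ← pow_add, Nat.sub_add_cancel hr.le, h1])
    refine ⟨⟨h6, fun e => ?_⟩, h2 a hr, fun e => ?_⟩ <;> rw [e] at h4 h5
    · exact h2 a hr (nb_uniq h ht h4 hij h5 hA)
    · exact h6 (nb_uniq h ht h4 hij.symm h5 fun e => hA (A_comm e))

theorem exists_O (O : D.I → D.I → Set (D.I → ℤ))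
    (h1 : ∀ l m, ∀ b ∈ O l m, D.Rt b ∧ D.g b ∈ O (D.σ l) (D.σ m) ∧ ∀ x, x ≠ l → x ≠ m → b x = 0)
    (h2 : ∀ b, b i = 0 → b j = 0 → D.act w b = b) (h3 : ∀ b ∈ O j i, D.act w b ∈ O i j) {s : D.I → kˣ}
    (h4 : ∀ l, l ≠ i → l ≠ j → s l = 1) (h5 : ∀ b ∈ O i j, chr b s = 1) :
    ∃ O', O i j ⊆ O' ∧ (∀ b ∈ O', D.Rt b) ∧ (∀ b ∈ O', chr b s = 1) ∧ ∀ b ∈ O', D.act w (D.g b) ∈ O' := by
  obtain ⟨r, hr, e1, e2, h6⟩ := exists_ret h ht hij hA
  have h7 : ∀ a, 0 < a → a < r → ∀ b ∈ O ((D.σ ^ a) i) ((D.σ ^ a) j), b i = 0 ∧ b j = 0 := fun a ha har b hb =>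
    ⟨(h1 _ _ b hb).2.2 i (h6 a ha har).1.1.symm (h6 a ha har).1.2.symm,
      (h1 _ _ b hb).2.2 j (h6 a ha har).2.1.symm (h6 a ha har).2.2.symm⟩
  refine ⟨{b | ∃ a < r, b ∈ O ((D.σ ^ a) i) ((D.σ ^ a) j)}, fun b hb => ⟨0, hr, hb⟩, fun b ⟨_, _, hb⟩ => (h1 _ _ b hb).1,
    fun b ⟨a, ha, hb⟩ => ?_, fun b ⟨a, ha, hb⟩ => ?_⟩
  · rcases a.eq_zero_or_pos with rfl | h8
    · exact h5 b hb
    · refine Finset.prod_eq_one fun l _ => ?_
      by_cases e : l = i
      · rw [e, (h7 a h8 ha b hb).1, zpow_zero]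
      by_cases e' : l = j
      · rw [e', (h7 a h8 ha b hb).2, zpow_zero]
      · rw [h4 l e e', _root_.one_zpow]
  · have h8 := (h1 _ _ b hb).2.1
    rw [← Equiv.Perm.mul_apply, ← Equiv.Perm.mul_apply, ← pow_succ'] at h8
    rcases (Nat.succ_le_of_lt ha).eq_or_lt with e | e
    · rw [show a + 1 = r from e, e1, e2] at h8
      exact ⟨0, hr, h3 _ h8⟩
    · exact ⟨a + 1, e, by rwa [h2 _ (h7 _ a.succ_pos e _ h8).1 (h7 _ a.succ_pos e _ h8).2]⟩

theorem p_eq {q : ℕ} (hq : q.Prime) (h1 : D.A i j * D.A j i = q) : p = q := by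
  obtain ⟨r, -, e1, e2, -⟩ := exists_ret h ht hij hA
  obtain ⟨E, E', h2, -⟩ := A_pow h r i j
  rw [e1, e2] at h2
  have h3 : (q : ℤ) * p ^ E = p ^ E' * D.A i j ^ 2 := by rw [← h1, mul_assoc, h2]; ring
  have h4 : (q : ℤ) * p ^ E' = p ^ E * D.A j i ^ 2 := by
    rw [← h1, mul_right_comm, mul_comm (D.A i j), ← h2]; ring
  have h5 : ∀ E : ℕ, (q : ℤ) ∣ p ^ E → p = q := fun E h5 =>
    ((Nat.prime_dvd_prime_iff_eq hq Fact.out).1 (hq.dvd_of_dvd_pow (by exact_mod_cast h5))).symm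
  have h6 : D.A i j = -1 ∨ D.A j i = -1 := by
    have := D.h.rel i j hij
    omega
  rcases h6 with h6 | h6
  · exact h5 E' ⟨_, by rw [h3, h6]; ring⟩
  · exact h5 E ⟨_, by rw [h4, h6]; ring⟩

variable (f : Fr D) (hθ : PL p (GF F G) θ) (hc : Lab D f.d f.ζ 1 θ c)
include hθ hc

theorem cen_two (h2 : D.A i j * D.A j i = 2) : chr (D.cw i) c = 1 := by
  obtain rfl : p = 2 := p_eq h ht hij hA Nat.prime_two h2
  have h3 : ∀ l, ∃ m, l ≠ m ∧ D.A l m * D.A m l = 2 := fun l => by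
    obtain ⟨n, rfl⟩ := ht i l
    exact ⟨_, (D.σ ^ n).injective.ne hij, (A_pow_mul h n i j).trans h2⟩
  choose nb h3 h4 using h3
  have h5 : ∀ l, D.A l (nb l) ≠ 0 ∧ D.A (nb l) l ≠ 0 := fun l => mul_ne_zero_iff.1 (by rw [h4]; exact two_ne_zero)
  have h6 : ∀ l, nb (nb l) = l := fun l => nb_uniq h ht (h3 _) (h3 l).symm (h5 _).1 (h5 l).2
  have h7 : ∀ l, D.A l (nb l) = -1 ∧ D.A (nb l) l = -2 ∨ D.A l (nb l) = -2 ∧ D.A (nb l) l = -1 := fun l => by
    have h7 := h4 l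
    rcases D.h.rel l _ (h3 l) with h | h | ⟨-, h⟩ | ⟨-, h | h⟩
    · exact absurd h.2.1 (h5 l).1
    · simp [h.2] at h7
    · exact h
    · simp [h] at h7
    · simp [h] at h7
  obtain ⟨v, -, h8⟩ := exists_diag (P := fun _ => True) trivial (fun _ _ _ _ => trivial)
    (fun l => D.cs.simple l * D.cs.simple (nb l) * D.cs.simple l * D.cs.simple (nb l))
    (fun l m => if m = l ∨ m = nb l then -1 else 1) (Finset.univ.filter fun l => D.A l (nb l) = -1) fun l _ =>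
      ⟨trivial, fun m => by
        simp only [Datum.act, rep_mul_apply]
        split_ifs with e
        · have h8 := fun l m => act_sr (D := D) l m
          simp only [Datum.act] at h8
          rcases h7 l with e' | e' <;> rcases e with rfl | rfl <;>
            simp only [h8, map_sub, map_zsmul, D.h.diag, e'.1, e'.2] <;> module
        · have h8 := act_far h ht (h3 l) (h5 l).1 (b := sr m) (sr_ne fun e' => e (.inl e'.symm))
            (sr_ne fun e' => e (.inr e'.symm))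
          have h9 := act_far h ht (h3 l).symm (h5 l).2 (b := sr m) (sr_ne fun e' => e (.inr e'.symm))
            (sr_ne fun e' => e (.inl e'.symm))
          rw [h9, h8, h9, h8, one_smul]⟩
  have h9 : ∀ l, D.act v (sr l) = -sr l := fun m => by
    rw [h8]
    rcases h7 m with e | e
    · rw [Finset.prod_eq_single_of_mem m (by simp [e.1]) fun l hl h9 => if_neg ?_, if_pos (.inl rfl), neg_one_smul]
      rintro (rfl | rfl)
      · exact h9 rfl
      · rw [h6] at e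
        have := (Finset.mem_filter.1 hl).2
        omega
    · rw [Finset.prod_eq_single_of_mem (nb m) (by simp [h6, e.2]) fun l hl h9 => if_neg ?_, if_pos (.inr (h6 m).symm),
        neg_one_smul]
      rintro (rfl | rfl)
      · have := (Finset.mem_filter.1 hl).2
        omega
      · exact h9 (h6 l).symm
  have h10 := hθ.rel f (v := v) (one_mem G) rp11 (one_mem G) rp11 hc hc (by rw [Tc, Fw_neg h h9, one_mul, mul_one]) (D.cw i)
  rw [← D.cor_act_sr, h9, D.cor_neg (isRoot_sr _ _ i), D.cor_sr, chr_neg, inv_eq_iff_mul_eq_one, ← sq] at h10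
  obtain ⟨e, he⟩ := Nat.exists_eq_succ_of_ne_zero f.L.e_pos.ne'
  rw [← (hc.fx f.L f.hζ (one_mem G) rp11).pow f.L (D.cw i), he, pow_succ', pow_mul, h10, one_pow]

theorem cen_odd (H : IH D) {ξ : kˣ} (h1 : ξ ≠ 1) (h2 : ξ ^ (1 + D.A i j) = 1) (h3 : ξ ^ (1 + D.A j i) = 1)
    (h4 : D.A i j = -1 ∧ D.A j i = -1 ∨ D.A i j = -1 ∧ D.A j i = -3 ∨ D.A i j = -3 ∧ D.A j i = -1) :
    chr (D.cw i) c = 1 := by
  have hr := fun l => isRoot_sr D.cs D.h l
  have hs : ∀ l m x, x ≠ l → x ≠ m → D.act (D.cs.simple l) (sr m) x = 0 := fun l m x hl hm => by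
    rw [Datum.act, rep_simple_apply _ _ _ _ _ hl, sr_ne hm]
  obtain ⟨O, h5, h6, h7, h8⟩ := exists_O h ht hij hA (w := 1)
    (fun l m => {D.act (D.cs.simple m) (sr l), D.act (D.cs.simple l) (sr m)})
    (by
      rintro l m b (rfl | rfl)
      · exact ⟨(hr l).act _, .inl (by rw [g_simple h _ (hr l), h.g_sr]), fun x hl hm => hs _ _ x hm hl⟩
      · exact ⟨(hr m).act _, .inr (by rw [g_simple h _ (hr m), h.g_sr]; rfl), hs _ _⟩)
    (fun b _ _ => by simp [Datum.act]) (fun b hb => by simpa [Datum.act, or_comm] using hb)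
    (s := Pi.mulSingle i ξ * Pi.mulSingle j ξ⁻¹) (fun l e e' => by simp [e, e']) (by
      rintro b (rfl | rfl) <;> rw [act_sr, chr_sub, chr_zsmul, chr_sr, chr_sr]
      · simpa [hij, hij.symm, _root_.zpow_add] using h3
      · rw [_root_.zpow_add, zpow_one] at h2
        simp [hij, hij.symm, ← mul_inv, h2])
  obtain ⟨-, y, hy, hw, hc'⟩ := H.sub f hθ h6 h7 (fun e => h1 (by simpa [hij] using congrFun e i)) (h5 (.inl rfl))
    (fun b hb => by simpa [Datum.act] using h8 b hb) hc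
  rw [D.rf_act, inv_simple] at hw
  have hx := fun l m => act_sr (D := D) l m
  obtain ⟨O', h9, h10, h11, h12⟩ := exists_O h ht hij hA (w := D.cs.simple j * D.cs.simple i * D.cs.simple j)
    (fun l m => {b | ∃ a, (a = sr l ∨ a = D.act (D.cs.simple m) (D.act (D.cs.simple l) (sr m))) ∧ (b = a ∨ b = -a)})
    (by
      have h9 : ∀ l m a, a = sr l ∨ a = D.act (D.cs.simple m) (D.act (D.cs.simple l) (sr m)) → D.Rt a ∧
          (D.g a = sr (D.σ l) ∨ D.g a = D.act (D.cs.simple (D.σ m)) (D.act (D.cs.simple (D.σ l)) (sr (D.σ m)))) ∧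
          ∀ x, x ≠ l → x ≠ m → a x = 0 := by
        rintro l m a (rfl | rfl)
        · exact ⟨hr l, .inl (h.g_sr l), fun x hl _ => sr_ne hl⟩
        · exact ⟨((hr m).act _).act _, .inr (by rw [g_simple h _ ((hr m).act _), g_simple h _ (hr m), h.g_sr]),
            fun x hl hm => by rw [Datum.act, rep_simple_apply _ _ _ _ _ hm, hs l m x hl hm]⟩
      rintro l m b ⟨a, ha, rfl | rfl⟩
      · exact ⟨(h9 _ _ _ ha).1, ⟨_, (h9 _ _ _ ha).2.1, .inl rfl⟩, (h9 _ _ _ ha).2.2⟩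
      · exact ⟨(h9 _ _ _ ha).1.neg, ⟨_, (h9 _ _ _ ha).2.1, .inr (D.g_neg (h9 _ _ _ ha).1)⟩,
          fun x hl hm => neg_eq_zero.2 ((h9 _ _ _ ha).2.2 x hl hm)⟩)
    (fun b e e' => by
      have h9 := act_far h ht hij hA e e'
      have h10 := act_far h ht hij.symm (fun e => hA (A_comm e)) e' e
      rw [Datum.act, rep_mul_apply, rep_mul_apply, h10, h9, h10])
    (by
      have h9 : ∀ a, a = sr j ∨ a = D.act (D.cs.simple i) (D.act (D.cs.simple j) (sr i)) → ∃ a',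
          (a' = sr i ∨ a' = D.act (D.cs.simple j) (D.act (D.cs.simple i) (sr j))) ∧
          (D.act (D.cs.simple j * D.cs.simple i * D.cs.simple j) a = a' ∨
            D.act (D.cs.simple j * D.cs.simple i * D.cs.simple j) a = -a') := by
        rintro a (rfl | rfl)
        · exact ⟨_, .inr rfl, .inr (by simp only [Datum.act, rep_mul_apply, rep_simple_sr, map_neg])⟩
        · refine ⟨_, .inl rfl, ?_⟩
          simp only [Datum.act] at hx
          rcases h4 with e | e | e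
          · right
            simp only [Datum.act, rep_mul_apply, hx, map_sub, map_zsmul, D.h.diag, e.1, e.2]
            module
          all_goals
            left
            simp only [Datum.act, rep_mul_apply, hx, map_sub, map_zsmul, D.h.diag, e.1, e.2]
            module
      rintro b ⟨a, ha, rfl | rfl⟩
      · exact h9 _ ha
      · obtain ⟨a', h10, h11⟩ := h9 _ ha
        refine ⟨a', h10, ?_⟩
        rw [Datum.act, map_neg, neg_inj, neg_eq_iff_eq_neg]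
        exact h11.symm)
    (s := Pi.mulSingle j ξ) (fun l _ e' => by simp [e']) (by
      have h9 : ∀ a, a = sr i ∨ a = D.act (D.cs.simple j) (D.act (D.cs.simple i) (sr j)) →
          chr a (Pi.mulSingle j ξ) = 1 := by
        rintro a (rfl | rfl)
        · simp [chr_sr, hij]
        · simp only [Datum.act] at hx
          simp only [Datum.act, hx, map_sub, map_zsmul, chr_sub, chr_zsmul, chr_sr, D.h.diag, Pi.mulSingle_eq_same,
            Pi.mulSingle_eq_of_ne hij]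
          have h9 : ξ ^ (D.A i j * D.A j i - 1) = 1 := by
            rw [show D.A i j * D.A j i - 1 = (1 + D.A i j) * D.A j i - (1 + D.A j i) by ring, _root_.zpow_sub,
              _root_.zpow_mul, h2, h3]
            simp
          refine Eq.trans ?_ h9
          group
      rintro b ⟨a, ha, rfl | rfl⟩
      · exact h9 _ ha
      · rw [chr_neg, h9 _ ha, inv_one])
  rw [← D.cor_sr]
  exact H.tw f hθ h10 h11 (fun e => h1 (by simpa using congrFun e j)) (h9 ⟨_, .inl rfl, .inl rfl⟩) hy hw h12 hc'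

end Pair

variable (f : Fr D) (hθ : PL p (GF F G) θ) (hc : Lab D f.d f.ζ 1 θ c)
include hθ hc

theorem cen_orth (h0 : ∀ j, i ≠ j → D.A i j = 0) : chr (D.cw i) c = 1 := by
  have h1 : ∀ l m, D.act (D.cs.simple l) (sr m) = (if l = m then -1 else 1 : ℤ) • sr m := fun l m => by
    split_ifs with e
    · rw [e, Datum.act, rep_simple_sr, neg_one_smul]
    · obtain ⟨n, rfl⟩ := ht i l
      obtain ⟨m, rfl⟩ := (D.σ ^ n).surjective m
      rw [act_sr, (A_pow_zero h n).2 (h0 m fun e' => e (e' ▸ rfl)), zero_smul, sub_zero, one_smul]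
  obtain ⟨a, ha⟩ := exists_a (D := D) (Pi.mulSingle i f.ζ)
  obtain ⟨v, h2, h3⟩ := exists_diag (P := fun v => mon (D.Wm v) a = a) (by rw [D.Wm_one, mon_one])
    (fun u v hu hv => by rw [D.Wm_mul, mon_mul, hv, hu]) D.cs.simple _ (Finset.univ.erase i) fun l hl =>
      ⟨by rw [mon_simple, ha, chr_sr, Pi.mulSingle_eq_of_ne (Finset.ne_of_mem_erase hl), map_one, inv_one, mul_one], h1 l⟩
  refine hθ.diag f h hc (v := D.cs.simple i * v) (a := a) (Fw_neg h fun l => ?_) (fun b _ => ?_) ?_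
  · simp only [Datum.act] at h1 h3 ⊢
    rw [rep_mul_apply, h3, map_zsmul, h1, smul_smul, Finset.prod_erase_mul _ _ (Finset.mem_univ i)]
    simp
  · rw [map_pow, ha, ← map_pow, ← Pi.mulSingle_pow, f.hζ.pow_eq_one, Pi.mulSingle_one, map_one]
  · rw [D.Wm_mul, mon_mul, h2, mon_simple, ha, chr_sr, Pi.mulSingle_eq_same, mul_inv, inv_inv, mul_inv_cancel_left]

omit ht in
theorem IH.cen (H : IH D) : CenL D c := by
  intro i
  obtain ⟨ξ, hξ⟩ : ∃ ξ : kˣ, ξ ≠ 1 := by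
    by_contra h0
    exact one_ne_zero (eq_zero_of_zpow (k := k) (n := 1) fun a => by
      rw [zpow_one]
      exact not_not.1 fun e => h0 ⟨a, e⟩)
  by_cases h0 : ∀ l, D.σ.SameCycle i l
  swap
  · obtain ⟨l, hl⟩ := not_forall.1 h0
    rw [← D.cor_sr]
    refine (H.sub f hθ (O := {b | ∃ m, D.σ.SameCycle i m ∧ b = sr m}) (s := Pi.mulSingle l ξ) ?_ ?_
      (fun e => hξ (by simpa using congrFun e l)) ⟨i, .refl _ _, rfl⟩ ?_ hc).1 <;> rintro b ⟨m, hm, rfl⟩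
    · exact isRoot_sr _ _ m
    · rw [chr_sr, Pi.mulSingle_eq_of_ne fun e : m = l => hl (e ▸ hm)]
    · exact ⟨_, hm.apply_right, h.g_sr m⟩
  have ht : ∀ l m : D.I, ∃ n : ℕ, (D.σ ^ n) l = m := fun l m =>
    ((h0 l).symm.trans (h0 m)).exists_pow_eq'.imp fun _ h => h.2
  by_cases h1 : ∀ j, i ≠ j → D.A i j = 0
  · exact cen_orth h ht f hθ hc h1
  push Not at h1
  obtain ⟨j, hij, hA⟩ := h1
  have h2 : D.A i j * D.A j i = 3 → (-1 : kˣ) ≠ 1 := fun e e' => by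
    obtain rfl : p = 3 := p_eq h ht hij hA Nat.prime_three e
    have h3 : ((2 : ℕ) : k) = 0 := by
      have h3 : (-1 : k) = 1 := congrArg Units.val e'
      rw [Nat.cast_ofNat]
      linear_combination -h3
    exact absurd ((CharP.cast_eq_zero_iff k 3 2).1 h3) (by norm_num)
  rcases D.h.rel i j hij with e | ⟨-, e⟩ | ⟨-, e | e⟩ | ⟨-, e | e⟩
  · exact absurd e.2.1 hA
  · exact cen_odd h ht hij hA f hθ hc H hξ (by simp [e]) (by simp [e]) (.inl e)
  · exact cen_two h ht hij hA f hθ hc (by simp [e])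
  · exact cen_two h ht hij hA f hθ hc (by simp [e])
  · exact cen_odd h ht hij hA f hθ hc H (h2 (by simp [e])) (by simp [e]) (by simp [e]) (.inr (.inl e))
  · exact cen_odd h ht hij hA f hθ hc H (h2 (by simp [e])) (by simp [e]) (by simp [e]) (.inr (.inr e))

omit h ht hθ hc f in
theorem unif (hE : BoxExLin) (D : Datum p ρ F G) : Unif D := by
  induction hn : {a | D.Rt a}.ncard using Nat.strong_induction_on generalizing G with
  | _ n ih =>
    obtain ⟨z, hz, hF, h⟩ := D.exists_qs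
    exact unif_conj hz hF (unif_of h (hE _) fun f θ hθ c hc =>
      IH.cen h f hθ hc fun G' D' h1 => ih _ (hn ▸ h1) D' rfl)

end ApiE

/-- **the box of `Cen`** -/
theorem boxCen (hE : BoxExLin) : BoxCen := fun D _ => (ApiE.unif hE D).cen

/-- the field `lin` of `Api` -/
theorem RW_lin' (hE : BoxExLin) (f : Fr D) [Fintype ↥(GF F G)] (h : D.QS) :
    ∀ lam : ↥(GF F G) →* ℂˣ, (∀ u : ↥(GF F G), IsUni p (u : Y) → lam u = 1) → ∃ cl : Lbl D, (∀ u, Rel D u cl cl) ∧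
      (∀ w, Fx D w cl) ∧ (∀ n : ℕ, lam ^ n = 1 ↔ cl ^ n = 1) ∧
      ∀ w c g, RW f w (c * cl) g = lam g * RW f w c g :=
  ApiE.RW_lin_of f h (ApiE.unif hE D)

end Cfsg.Agent.KZ.Lie
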