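import Cfsg.Agent.KZ.Lie.McTor
import Cfsg.Agent.KZ.Levi.Main

/-!
# KZ, the membership test: descent along Levi subgroups (helper22)

`lev_congr` : if every root is moved by an `F`-fixed element of order `3` of the torus whose connected centraliser is a Levi
subgroup, then a generalized character is congruent to its Lusztig restriction on the `3`-regular elements of the torus.
-/

set_option autoImplicit false
set_option linter.unusedSectionVars false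

namespace Cfsg.Agent.KZ.Lie

open Cfsg Cfsg.Agent.DL Cfsg.Agent.DL.PP Cfsg.Agent.DL.Uni Cfsg.Agent.DL.Asm Cfsg.Agent.Nodes.Reps Matrix
  Cfsg.Agent.Characters.Core Cfsg.Agent.Blocks.Local Cfsg.Agent.Blocks Cfsg.Agent.KZ.Levi

/-- the adjoint of a map which preserves generalized characters -/
theorem exists_adj {Γ : Type} [Group Γ] {H K : Subgroup Γ} [Finite H] [Finite K] (Φ : (Γ → ℂ) →ₗ[ℂ] (Γ → ℂ))
    (h1 : ∀ f f' : Γ → ℂ, (∀ x ∈ K, f x = f' x) → Φ f = Φ f')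
    (h2 : ∀ f, IsGeneralizedCharacter K (res K f) → IsGeneralizedCharacter H (res H (Φ f))) {χ : Γ → ℂ}
    (hχ : IsGeneralizedCharacter H (res H χ)) :
    ∃ ψ, IsGeneralizedCharacter K (res K ψ) ∧ ∀ f, IsCls K f → ip K ψ f = ip H χ (Φ f) := by
  have := Fintype.ofFinite K
  have := @Fintype.ofFinite _ (finite_irr (G := K))
  have e : ∀ φ : K → ℂ, res K (extendByZero K φ) = φ := fun φ => funext fun x => extendByZero_of_mem K φ x.2
  choose n hn using fun φ : IrrCharacter K =>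
    ip_gen_int hχ (h2 (extendByZero K φ) (by rw [e]; exact gen_of_irr φ.2))
  refine ⟨∑ φ : IrrCharacter K, (n φ : ℂ) • extendByZero K φ, isGeneralizedCharacter_iff.2 ⟨n, funext fun x => ?_⟩,
    fun f hf => ?_⟩
  · simp only [res, Finset.sum_apply, Pi.smul_apply, extendByZero_of_mem K _ x.2, zsmul_eq_mul, smul_eq_mul]
    rfl
  · rw [h1 f (∑ φ : IrrCharacter K, ip K f (extendByZero K φ) • extendByZero K φ) fun x hx => ?_, map_sum, ip_sum_left,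
      ip_sum_right]
    · refine Finset.sum_congr rfl fun φ _ => ?_
      rw [map_smul, ip_smul_left, ip_smul_right, ip_conj, hn, mul_comm]
    · refine (congrFun (classFunction_eq_sum (isCls_iff.1 hf)) ⟨x, hx⟩).trans ?_
      simp only [Finset.sum_apply, Pi.smul_apply, extendByZero_of_mem K _ hx, ip_eq_classInner, e]

variable {p : ℕ} [Fact p.Prime] {k : Type} [Field k] [CharP k p] {Y : Type} [Group Y] {N : Type} [Fintype N]
  [DecidableEq N] {ρ : Y →* GL N k} {F : MulAut Y} {G : Subgroup Y} [IsAlgClosed k] {M : Ideal AlgInt}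

theorem cent_of_eq {D : Datum p ρ F G} {s : Y} (hs : s ∈ D.T ⊓ GF F G) {C : Subgroup Y} (DC : Datum p ρ F C)
    (e : C = CF.cco G s) (h1 : ∀ T V, Pair D T V → s ∈ T → Pair DC T (V ⊓ C))
    (h2 : ∀ T ∈ tori DC, T ∈ tori D ∧ s ∈ T) :
    Cent p (GF F G) (tori D) (R D) s (GF F C) (R DC) ∧ tori DC = {T | T ∈ tori D ∧ s ∈ T} := by
  subst e
  have H : CF.IsSub D s DC := ⟨h1, h2, (D.isSub hs.1 hs.2.2).cut⟩
  exact ⟨CF.cent_R subBox purBox' orthBox' CF.uniBox D.pair_self.mem_tori hs H (sys' DC), H.tori_eq⟩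

/-- the condition for the standard torus -/
def Lev0 (D : Datum p ρ F G) : Prop :=
  ∀ a, D.Rt a → ∃ lam : D.R → ℤ, (∀ i, (3 : ℤ) ∣ ((D.Mx - 1) *ᵥ lam) i) ∧
    (∀ b, D.Rt b → 3 ∣ D.wt b ⬝ᵥ lam → D.wt b ⬝ᵥ lam = 0) ∧ D.wt a ⬝ᵥ lam ≠ 0

theorem mem_of_mul_mem {Γ : Type*} [Group Γ] {T : Subgroup Γ} {x y : Γ} (hc : Commute x y) (hx : x ^ 3 = 1)
    (hy : ¬ 3 ∣ orderOf y) (h : x * y ∈ T) : x ∈ T := by
  have h1 := pow_mem h (orderOf y * orderOf y)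
  rw [hc.mul_pow, pow_mul y, pow_orderOf_eq_one, one_pow, mul_one, pow_eq_pow_mod _ hx,
    show orderOf y * orderOf y % 3 = 1 by
      have : orderOf y % 3 = 1 ∨ orderOf y % 3 = 2 := by omega
      rcases this with h | h <;> simp [Nat.mul_mod, h], pow_one] at h1
  exact h1

theorem lev_aux (hp : p ≠ 3) (hM : IsPModular 3 M) (n : ℕ) : ∀ (G : Subgroup Y) (D : Datum p ρ F G),
    {a | D.Rt a}.ncard = n → Lev0 D → ∀ χ : Y → ℂ, IsGeneralizedCharacter (GF F G) (res (GF F G) χ) →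
      ∀ y ∈ D.T ⊓ GF F G, ¬ 3 ∣ orderOf y → MemLocalIdeal M (χ y - rst (GF F G) (R D) D.T χ y) := by
  induction n using Nat.strong_induction_on with
  | _ n ih =>
  intro G D hn hL χ hχ y hy ho
  have := isPrime_of_isPModular hM
  have S := sys' D
  have hT := D.pair_self.mem_tori
  obtain ⟨St, hSt⟩ := St.stD D
  by_cases h0 : ∃ a, D.Rt a
  swap
  · have h1 : G ≤ D.T := D.G_eq.ge.trans (sup_le le_rfl (Nodes.BNOf.RGD.Sup_le fun a ha => absurd ⟨a, ha⟩ h0))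
    rw [← hSt.apply_reg S hT hy (by
      rintro _ ⟨z, hz, rfl, -⟩ -
      exact cj_eq_of_mem (h1 hz)) (isCls_of_gen hχ), sub_self]
    exact memLocalIdeal_zero
  obtain ⟨a, ha⟩ := h0
  obtain ⟨lam, h1, h2, h3⟩ := hL a ha
  obtain ⟨ω, hω⟩ := exists_prim3 (k := k) hp 1
  rw [pow_one] at hω
  let l : (D.I → ℤ) →+ ℤ := AddMonoidHom.mk' (fun b => D.wt b ⬝ᵥ lam) fun b c => by rw [map_add, add_dotProduct]
  have hl : ∀ b, D.wt b ⬝ᵥ lam = l b := fun _ => rfl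
  obtain ⟨x, hx⟩ : ∃ x, x = D.τ (coch lam ω) := ⟨_, rfl⟩
  have hxT : x ∈ D.T := hx ▸ D.τ_mem _
  have hxF : F x = x := by rw [hx, D.F_τ, (mon_coch_iff hω _ _).2 (by exact_mod_cast h1)]
  have hx3 : x ^ 3 = 1 := by rw [hx, ← map_pow, ← map_pow, hω.pow_eq_one, map_one, map_one]
  have hxH : x ∈ GF F G := ⟨D.T_le_G hxT, hxF⟩
  have hSz : D.Sz (Zl D lam) = D.Sz {x} := by
    ext b
    refine ⟨fun h => ⟨h.1, by rintro _ rfl; exact h.2 _ ⟨ω, hx.symm⟩⟩, fun h => (mem_Sz_Zl hl).2 ⟨h.1, h2 b h.1 ?_⟩⟩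
    have := h.2 x rfl
    rw [hx, χ_Zl hl, Units.val_eq_one, hω.zpow_eq_one_iff_dvd] at this
    exact_mod_cast this
  have hs : Stab D lam := fun b hb => by
    rw [hSz] at hb ⊢
    exact D.g_mem_Sz (Set.singleton_subset_iff.2 hxT) (fun z hz => by rw [hz, hxF]; rfl) hb
  have hC : Lc D lam = CF.cco G x := by rw [D.cco_eq_cen hxT, Lc, Datum.cen, hSz, Datum.cen]
  have h4 : ∀ T ∈ tori D, x ∈ T → T ∈ tori (dL hs) := fun T h h' => by
    rw [tori_sub, hC]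
    exact ⟨h, ((D.isSub hxT hxF).pair T _ (pair_Vof h) h').T_le⟩
  obtain ⟨Z, hZ⟩ := cent_of_eq ⟨hxT, hxH⟩ (dL hs) hC
    (fun T V h h' => D.pair_sub _ _ _ h ((D.tori_sub Zl_sub hs rfl).le (h4 T h.mem_tori h')).2) fun T h =>
      ((D.tori_sub Zl_sub hs rfl).le h).imp_right fun e => e ⟨ω, hx.symm⟩
  obtain ⟨StC, hStC⟩ := DL.St.stD (dL hs)
  have := S.finH
  have := (sys' (dL hs)).finH
  obtain ⟨ψ, hψ, h5⟩ := exists_adj (RL D l lam) (fun _ _ => RL_congr) (fun _ => gen_RL hl) hχ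
  have h6 : ∀ T ∈ tori D, x ∈ T → ∀ t, rst (GF F G) (R D) T χ t = rst (GF F (Lc D lam)) (R (dL hs)) T ψ t :=
    fun T h h' t => by
      rw [rst, rst, h5 _ ((sys' (dL hs)).isCls_R (h4 T h h') _), Z.inf_eq h h',
        ip_congr (fun _ _ => rfl) (RL_R hl hs (h4 T h h') _)]
  have hyL : y ∈ GF F (Lc D lam) := Z.tor _ hT hxT hy
  have hxL : x ∈ GF F (Lc D lam) := Z.tor _ hT hxT ⟨hxT, hxH⟩
  have hc : Commute x y := D.T_comm hxT hy.1
  have ho3 : ∃ j, orderOf x = 3 ^ j := ((Nat.dvd_prime_pow Nat.prime_three).1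
    (pow_one 3 ▸ orderOf_dvd_of_pow_eq_one hx3 : orderOf x ∣ 3 ^ 1)).imp fun _ h => h.2
  have e1 := gen_congr hM hχ (x := ⟨x, hxH⟩) (y := ⟨y, hy.2⟩) (Subtype.ext hc) (by rwa [Subgroup.orderOf_mk])
    (by rwa [Subgroup.orderOf_mk])
  have e2 := gen_congr hM hψ (x := ⟨x, hxL⟩) (y := ⟨y, hyL⟩) (Subtype.ext hc) (by rwa [Subgroup.orderOf_mk])
    (by rwa [Subgroup.orderOf_mk])
  have e3 : χ (x * y) = ψ (x * y) := eq_of_cent S hSt Z (hZ ▸ hStC) hxH (isCls_of_gen hχ) (isCls_of_gen hψ)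
    (fun T h h' t _ => h6 T h h' t) (mul_mem hxL hyL) (S.ss _ hT _ (mul_mem ⟨hxT, hxH⟩ hy))
    fun T _ h => mem_of_mul_mem hc hx3 ho h
  have e4 := ih _ ?_ _ (dL hs) rfl (fun c hc => ?_) ψ hψ y ⟨hy.1, hyL⟩ ho
  · rw [h6 _ hT hxT]
    have e5 := memLocalIdeal_add (memLocalIdeal_sub e2 e1) e4
    convert e5 using 1
    simp only [res, Subgroup.coe_mul, e3]
    ring
  · rw [← hn, ← Set.ncard_image_of_injective _ (D.io_injective _)]
    refine Set.ncard_lt_ncard ⟨?_, fun h => ?_⟩ D.finite_roots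
    · rintro _ ⟨c, hc, rfl⟩
      exact ((D.io_mem_Sz _).2 hc).1
    · obtain ⟨c, hc, e⟩ := h ha
      exact h3 ((mem_Sz_Zl hl).1 (e ▸ (D.io_mem_Sz _).2 hc)).2
  · obtain ⟨μ, h7, h8, h9⟩ := hL _ ((D.io_mem_Sz _).2 hc).1
    exact ⟨μ, h7, fun b hb => h8 _ ((D.io_mem_Sz _).2 hb).1, h9⟩

/-- every root is moved by an `F`-fixed element of order `3` of the torus of type `w₀` whose connected centraliser is a Levi
subgroup -/
def LevC (D : Datum p ρ F G) (w₀ : D.W) : Prop :=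
  ∀ a, D.Rt a → ∃ lam : D.R → ℤ, (∀ i, (3 : ℤ) ∣ ((D.Wm w₀ * D.Mx - 1) *ᵥ lam) i) ∧
    (∀ b, D.Rt b → 3 ∣ D.wt b ⬝ᵥ lam → D.wt b ⬝ᵥ lam = 0) ∧ D.wt a ⬝ᵥ lam ≠ 0

/-- **The congruence on the torus.** -/
theorem lev_congr (hp : p ≠ 3) (hM : IsPModular 3 M) {D : Datum p ρ F G} {w : D.W} (hL : LevC D w) {χ : Y → ℂ}
    (hχ : IsGeneralizedCharacter (GF F G) (res (GF F G) χ)) {y : Y} (hy : y ∈ Tw D w ⊓ GF F G) (ho : ¬ 3 ∣ orderOf y) :
    MemLocalIdeal M (χ y - rst (GF F G) (R D) (Tw D w) χ y) := by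
  have h := lev_aux hp hM _ G (D.conj (yw_mem D w) ⟨w, yw_rp D w⟩) rfl (fun a ha => by
    rw [D.conj_Mx, (yw_rp D w).pr_eq]
    exact hL a ha) χ hχ y hy ho
  rw [rst, R, ← ip_congr (fun _ _ => rfl) (R_eq' ((D.pair_conj (yw_mem D w) ⟨w, yw_rp D w⟩).2 (pair_Vof (Tw_mem w))) _)]
  exact h

end Cfsg.Agent.KZ.Lie
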